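import Cfsg.Agent.H56.Exc.Auto_m3
import Cfsg.Agent.H563.KG.Elim_m3
import Cfsg.Agent.H946.KZ.SameF4
import Cfsg.Agent.H325.Same.ExcPairE_m3
import Cfsg.Agent.H269.CubeJ2
import Cfsg.Agent.H609.TH.Expl
import Cfsg.Agent.Lib.ListFast
import Cfsg.Agent.H465.OEGrp_mg_m3
import Cfsg.Agent.ClassicalGeometry.WittQuad
import Cfsg.Agent.H503.El.O83Main
import Cfsg.Agent.H424.Spr.Two
import Mathlib
import Cfsg.Agent.Nodes.NormalForm
import Cfsg.Agent.Tits.OppRes
import Cfsg.Agent.H890.Spr.Sixteen_m3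
import Cfsg.Agent.BpExc.AsmN_m3
import Cfsg.Agent.Nodes.RGDChev
import Cfsg.Agent.H884.Oc.PTwo
import Cfsg.Agent.H957.Bridge
import Cfsg.Agent.FastGrp
import Cfsg.Agent.Prune
set_option linter.all false

section
prune_inst 0x7fbcacf9abb8addfdfff7e7fa6d1cffdf9b91fffe6dff9cb7fe0e1ff2b9f63040bc5fb8f8de010fe0ed6e21410387853fb7eeabfe06bdc7ffffd5ff41ffbee0ff5f7b508519498340fbc0fff03f0778e7f3fffffffffffffffffffffffffffbeffbfffffffff

-- part: H682/TE6/Comm
section
prune_inst 0x4352021444100020000180592410020644e00019200630801d1e00944008ebf02a0030721cca01d12101aa24c00300048114400f00010000000000400011900a080a85206b248a10426000f803086000000000000000000000000000000041004000000000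
set_option linter.all false
open scoped Cfsg.Agent.FastGrp

/-!
# A torus of order `n` centralises the normal subgroups of order prime to `n` (helper682)

`K` is a finite group, `y ∈ K` has order `n`, the primes of `n` are big.

* `commute_core` : if `y` centralises the normal `t`-subgroups of `K` contained in `O`, then `y` centralises `O`;
* `commute_abelian` : `y` centralises the abelian normal subgroups of order prime to `n`, if `K` is linear of degree
  less than `n`;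
* `commute_prime` : the same if `n` is prime and does not divide `t ^ k - 1`.
-/

set_option autoImplicit false
set_option linter.unusedSectionVars false

namespace Cfsg.Agent.H682.TE6

open Subgroup Cfsg.Agent.H56.Exc Cfsg.Agent.H563.KG

universe u

section

variable {K : Type u} [Group K] [Finite K] {n m e : ℕ}

/-- an element of prime order `r ∣ n` commuting with a power of `y` of order `r` commutes with `y` -/
theorem commute_of_pow {r : ℕ} (h : Big K r m e) {y x a : K} (hx : x ∈ zpowers y) (hxr : orderOf x = r)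
    (ha : Commute a x) : Commute a y := by
  have hyC : y ∈ centralizer {x} := by
    rw [mem_centralizer_singleton_iff]
    obtain ⟨k, rfl⟩ := hx
    exact ((Commute.refl y).zpow_right k).eq
  have haC : a ∈ centralizer {x} := by
    rw [mem_centralizer_singleton_iff]
    exact ha.eq
  have := h.cyc x hxr
  have hcomm : IsMulCommutative ↥(centralizer ({x} : Set K)) := by
    obtain ⟨g, hg⟩ := this.exists_generator
    refine ⟨⟨fun u v => ?_⟩⟩
    obtain ⟨i, rfl⟩ := hg u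
    obtain ⟨j, rfl⟩ := hg v
    exact (Commute.zpow_zpow (Commute.refl g) i j).eq
  exact congrArg Subtype.val (hcomm.is_comm.comm ⟨a, haC⟩ ⟨y, hyC⟩)

theorem exists_prime_pow' {y : K} {r : ℕ} (_ : r.Prime) (hry : r ∣ orderOf y) : ∃ x ∈ zpowers y, orderOf x = r := by
  obtain ⟨k, hk⟩ := hry
  have h0 : 0 < orderOf y := orderOf_pos y
  have hk0 : k ≠ 0 := by rintro rfl; omega
  refine ⟨y ^ k, ⟨k, zpow_natCast y k⟩, ?_⟩
  rw [orderOf_pow_of_dvd hk0 (by rw [hk]; exact dvd_mul_left _ _), hk, Nat.mul_div_cancel _ (Nat.pos_of_ne_zero hk0)]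

/-- normal subgroups of order prime to a big prime are solvable -/
theorem isSolvable_of_big (hE : CycFixSolv.{u}) {r : ℕ} (h : Big K r m e) (hrK : r ∣ Nat.card K) {O : Subgroup K}
    [O.Normal] (hO : ¬ r ∣ Nat.card O) : Group.IsSolvable O := by
  have := Fact.mk h.prime
  obtain ⟨x, hx⟩ := exists_prime_orderOf_dvd_card' r hrK
  apply hE O (MulAut.conjNormal (H := O) x) r h.prime _ hO
  · refine ⟨(Subgroup.centralizer {x}).comap O.subtype, ?_, fun a ha => ?_⟩
    · have := h.cyc x hx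
      let g : ↥((Subgroup.centralizer {x}).comap O.subtype) →* ↥(Subgroup.centralizer {x}) :=
        (O.subtype.comp ((Subgroup.centralizer {x}).comap O.subtype).subtype).codRestrict _ fun y => y.2
      exact isCyclic_of_injective g fun a b hab => by
        have h3 : ((a : O) : K) = ((b : O) : K) :=
          congrArg (fun z : ↥(Subgroup.centralizer {x}) => (z : K)) hab
        exact Subtype.ext (Subtype.ext h3)
    · rw [Subgroup.mem_comap, Subgroup.mem_centralizer_singleton_iff]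
      have h2 := congrArg Subtype.val ha
      rw [MulAut.conjNormal_apply, mul_inv_eq_iff_eq_mul] at h2
      exact h2.symm
  · rw [← map_pow, ← hx, pow_orderOf_eq_one, map_one]

/-- a normal subgroup centralised by `y` is centralised by the normal closure of `y` -/
theorem le_centralizer_closure {R : Subgroup K} [R.Normal] {y : K} (h : ∀ u ∈ R, Commute u y) :
    R ≤ centralizer (Subgroup.normalClosure ({y} : Set K) : Set K) := by
  have h1 : Subgroup.normalClosure ({y} : Set K) ≤ centralizer (R : Set K) := by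
    apply Subgroup.normalClosure_le_normal
    intro z hz
    rw [Set.mem_singleton_iff] at hz
    subst hz
    show z ∈ centralizer (R : Set K)
    rw [mem_centralizer_iff]
    exact fun u hu => (h u hu).eq
  exact Subgroup.le_centralizer_iff.1 h1

/-- an `r`-element has a conjugate in a subgroup of index prime to `r` -/
theorem exists_conj_mem {H : Type*} [Group H] [Finite H] {r : ℕ} (hr : r.Prime) {Y : Subgroup H} (hY : ¬ r ∣ Y.index)
    {x : H} (hx : orderOf x = r) : ∃ g : H, g⁻¹ * x * g ∈ Y := by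
  have := Fact.mk hr
  have hP : IsPGroup r (zpowers x) := IsPGroup.of_card (n := 1) (by rw [Nat.card_zpowers, hx, pow_one])
  have : Finite (H ⧸ Y) := inferInstance
  obtain ⟨a, ha⟩ := hP.nonempty_fixed_point_of_prime_not_dvd_card (H ⧸ Y) (by rwa [← Subgroup.index])
  obtain ⟨g, rfl⟩ := QuotientGroup.mk_surjective a
  refine ⟨g, ?_⟩
  have h1 := ha ⟨x, mem_zpowers x⟩
  have h2 : ((x * g : H) : H ⧸ Y) = (g : H ⧸ Y) := h1
  rw [QuotientGroup.eq] at h2
  have h3 := Y.inv_mem h2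
  have h4 : ((x * g)⁻¹ * g)⁻¹ = g⁻¹ * x * g := by group
  rwa [h4] at h3

/-- the commutators `[y, b]`, `b ∈ R` -/
def comm (y : K) (R : Subgroup K) [hn : R.Normal] (hR : ∀ a ∈ R, ∀ b ∈ R, a * b = b * a) : Subgroup K where
  carrier := {a | ∃ b ∈ R, a = y * b * y⁻¹ * b⁻¹}
  one_mem' := ⟨1, R.one_mem, by group⟩
  mul_mem' := by
    rintro _ _ ⟨b, hb, rfl⟩ ⟨c, hc, rfl⟩
    refine ⟨b * c, R.mul_mem hb hc, ?_⟩
    have h1 := hR _ (R.inv_mem hb) _ (hn.conj_mem _ hc y)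
    have h2 := hR _ (R.inv_mem hb) _ (R.inv_mem hc)
    calc y * b * y⁻¹ * b⁻¹ * (y * c * y⁻¹ * c⁻¹) = y * b * y⁻¹ * (b⁻¹ * (y * c * y⁻¹)) * c⁻¹ := by group
      _ = y * b * y⁻¹ * ((y * c * y⁻¹) * b⁻¹) * c⁻¹ := by rw [h1]
      _ = y * b * c * y⁻¹ * (b⁻¹ * c⁻¹) := by group
      _ = y * b * c * y⁻¹ * (c⁻¹ * b⁻¹) := by rw [h2]
      _ = y * (b * c) * y⁻¹ * (b * c)⁻¹ := by group
  inv_mem' := by
    rintro _ ⟨b, hb, rfl⟩
    refine ⟨b⁻¹, R.inv_mem hb, ?_⟩
    have h1 := hR _ hb _ (hn.conj_mem _ (R.inv_mem hb) y)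
    calc (y * b * y⁻¹ * b⁻¹)⁻¹ = b * (y * b⁻¹ * y⁻¹) := by group
      _ = y * b⁻¹ * y⁻¹ * b := h1
      _ = y * b⁻¹ * y⁻¹ * b⁻¹⁻¹ := by rw [inv_inv]

theorem comm_le {y : K} {R : Subgroup K} [hn : R.Normal] (hR : ∀ a ∈ R, ∀ b ∈ R, a * b = b * a) : comm y R hR ≤ R := by
  rintro _ ⟨b, hb, rfl⟩
  exact R.mul_mem (hn.conj_mem _ hb y) (R.inv_mem hb)

/-- the fixed points in the commutator subgroup are trivial -/
theorem comm_fix {y : K} (hy : orderOf y = n) {R : Subgroup K} [hn : R.Normal]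
    (hR : ∀ a ∈ R, ∀ b ∈ R, a * b = b * a) (hco : (Nat.card R).Coprime n) {a : K} (ha : a ∈ comm y R hR)
    (hc : Commute a y) : a = 1 := by
  obtain ⟨b, hb, rfl⟩ := ha
  set a := y * b * y⁻¹ * b⁻¹ with ha
  -- `y ^ i b y ^ (-i) = a ^ i b`
  have key : ∀ i : ℕ, y ^ i * b * (y ^ i)⁻¹ = a ^ i * b := by
    intro i
    induction i with
    | zero => simp
    | succ i ih =>
      have h1 : y ^ (i + 1) * b * (y ^ (i + 1))⁻¹ = y * (y ^ i * b * (y ^ i)⁻¹) * y⁻¹ := by
        rw [pow_succ']; group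
      have h2 : y * a ^ i = a ^ i * y := (hc.symm.pow_right i).eq
      rw [h1, ih, ← mul_assoc, h2]
      have h3 : y * b * y⁻¹ = a * b := by rw [ha]; group
      calc a ^ i * y * b * y⁻¹ = a ^ i * (y * b * y⁻¹) := by group
        _ = a ^ (i + 1) * b := by rw [h3, pow_succ]; group
  have h1 := key n
  rw [← hy, pow_orderOf_eq_one, hy, one_mul, inv_one, mul_one] at h1
  have h2 : a ^ n = 1 := by
    have := h1.symm
    rwa [mul_eq_right] at this
  have h3 := orderOf_dvd_of_pow_eq_one h2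
  have h4 : orderOf a ∣ Nat.card R := by
    have hm : a ∈ R := comm_le hR ⟨b, hb, rfl⟩
    have := orderOf_dvd_natCard (⟨a, hm⟩ : R)
    rwa [Subgroup.orderOf_mk] at this
  exact orderOf_eq_one_iff.1 (Nat.dvd_one.1 (hco ▸ Nat.dvd_gcd h4 h3))

/-- **Abelian normal `t`-subgroups.** -/
theorem commute_abelian {F : Type*} [Field F] {ι : Type*} [Fintype ι] [DecidableEq ι] {p : ℕ} [CharP F p]
    {τ : K →* Matrix.GeneralLinearGroup ι F} (hτ : Function.Injective τ) (hpp : p.Prime)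
    (hbig : ∀ r, r.Prime → r ∣ n → Big K r m e) {y : K} (hy : orderOf y = n) {t : ℕ} (ht : t.Prime) (htp : t ≠ p)
    {R : Subgroup K} [hRn : R.Normal] (hRt : IsPGroup t R) (hRc : ∀ a ∈ R, ∀ b ∈ R, a * b = b * a) (htn : ¬ t ∣ n)
    (hN : Fintype.card ι < n ∨ (n.Prime ∧ ∀ k, 0 < k → t ^ k ∣ Nat.card K → ¬ n ∣ t ^ k - 1)) :
    ∀ u ∈ R, Commute u y := by
  have := Fact.mk ht
  set R₀ := comm y R hRc with hR₀
  have hR₀R : R₀ ≤ R := comm_le hRc
  obtain ⟨kR, hkR⟩ := IsPGroup.iff_card.1 hRt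
  have hco : (Nat.card R).Coprime n := by
    rw [hkR]
    exact Nat.Coprime.pow_left _ ((Nat.Prime.coprime_iff_not_dvd ht).2 htn)
  -- the group `R ⟨y⟩`
  set H := zpowers y ⊔ R with hH
  have hyH : y ∈ H := (le_sup_left : zpowers y ≤ H) (mem_zpowers y)
  have hRH : R ≤ H := le_sup_right
  have hnorm : H ≤ normalizer (R₀ : Set K) := by
    have hy1 : ∀ z : K, (z = y ∨ z = y⁻¹) → ∀ a ∈ R₀, z * a * z⁻¹ ∈ R₀ := by
      rintro z hz _ ⟨b, hb, rfl⟩
      refine ⟨z * b * z⁻¹, hRn.conj_mem _ hb z, ?_⟩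
      rcases hz with rfl | rfl <;> group
    have hyN : y ∈ normalizer (R₀ : Set K) := by
      rw [mem_normalizer_iff]
      intro a
      refine ⟨hy1 y (Or.inl rfl) a, fun h => ?_⟩
      have h2 := hy1 y⁻¹ (Or.inr rfl) _ h
      have h3 : y⁻¹ * (y * a * y⁻¹) * y⁻¹⁻¹ = a := by group
      rwa [h3] at h2
    have hRN : R ≤ normalizer (R₀ : Set K) := by
      intro b hb
      rw [mem_normalizer_iff]
      intro a
      constructor
      · intro ha
        have : b * a * b⁻¹ = a := by rw [hRc b hb a (hR₀R ha), mul_inv_cancel_right]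
        rwa [this]
      · intro h
        have h2 : b⁻¹ * (b * a * b⁻¹) * b = b * a * b⁻¹ := by
          rw [hRc _ (R.inv_mem hb) _ (hR₀R h), inv_mul_cancel_right]
        have h3 : b⁻¹ * (b * a * b⁻¹) * b = a := by group
        rw [h3] at h2
        rw [h2]
        exact h
    rw [hH]
    exact sup_le (zpowers_le.2 hyN) hRN
  set A := R₀.subgroupOf H with hA
  have hAn : A.Normal := by
    refine ⟨fun a ha g => ?_⟩
    have h1 := (mem_normalizer_iff.1 (hnorm g.2) (a : K)).1 ha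
    exact h1
  -- the index of `⟨y⟩`
  have hidx : ∀ r, r.Prime → r ∣ n → ¬ r ∣ ((zpowers y).subgroupOf H).index := by
    intro r hr hrn hd
    have h1 : R.relIndex H = R.relIndex (zpowers y) := Subgroup.relIndex_sup_right _ _
    have h2 : R.relIndex (zpowers y) ∣ n := by
      rw [← hy, ← Nat.card_zpowers]
      exact Subgroup.relIndex_dvd_card _ _
    have h3 := Subgroup.relIndex_mul_relIndex ⊥ R H bot_le hRH
    have h4 := Subgroup.relIndex_mul_relIndex ⊥ (zpowers y) H bot_le le_sup_left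
    rw [Subgroup.relIndex_bot_left] at h3 h4
    rw [Subgroup.relIndex_bot_left] at h3 h4
    rw [Nat.card_zpowers, hy] at h4
    rw [h1] at h3
    obtain ⟨c, hc⟩ := h2
    have hn0 : n ≠ 0 := by rw [← hy]; exact (orderOf_pos y).ne'
    have hk0 : R.relIndex (zpowers y) ≠ 0 := by
      intro h
      rw [h, zero_mul] at hc
      exact hn0 hc
    have h5 : (zpowers y).relIndex H ∣ Nat.card R := by
      refine ⟨c, ?_⟩
      apply Nat.eq_of_mul_eq_mul_right (Nat.pos_of_ne_zero hk0)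
      rw [h3, ← h4]
      conv_lhs => rw [hc]
      ring
    have h6 : r ∣ Nat.card R := hd.trans h5
    have h7 := Nat.dvd_gcd h6 hrn
    rw [hco] at h7
    exact hr.one_lt.ne' (Nat.dvd_one.1 h7)
  have hfree : ∀ x : H, (orderOf x).Prime → orderOf x ∣ n → ∀ a ∈ A, x * a = a * x → a = 1 := by
    intro x hx hxn a ha hxa
    obtain ⟨g, hg⟩ := exists_conj_mem hx (hidx _ hx hxn) rfl
    have hz : ((g⁻¹ * x * g : H) : K) ∈ zpowers y := hg
    have ho : orderOf ((g⁻¹ * x * g : H) : K) = orderOf x := by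
      rw [Subgroup.orderOf_coe]
      have := (MulAut.conj g⁻¹).orderOf_eq x
      rw [MulAut.conj_apply, inv_inv] at this
      exact this
    have h1 : g⁻¹ * a * g ∈ A := by
      have := hAn.conj_mem a ha g⁻¹
      rwa [inv_inv] at this
    have h2 : Commute ((g⁻¹ * a * g : H) : K) ((g⁻¹ * x * g : H) : K) := by
      have h3 : (g⁻¹ * a * g) * (g⁻¹ * x * g) = (g⁻¹ * x * g) * (g⁻¹ * a * g) := by
        calc (g⁻¹ * a * g) * (g⁻¹ * x * g) = g⁻¹ * (a * x) * g := by group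
          _ = g⁻¹ * (x * a) * g := by rw [hxa]
          _ = _ := by group
      exact congrArg Subtype.val h3
    have h3 : Commute ((g⁻¹ * a * g : H) : K) y := commute_of_pow (hbig _ hx hxn) hz ho h2
    have h4 := comm_fix hy hRc hco h1 h3
    have h5 : g⁻¹ * a * g = 1 := Subtype.ext h4
    have h6 : a = g * (g⁻¹ * a * g) * g⁻¹ := by group
    rw [h6, h5, mul_one, mul_inv_cancel]
  have hbot : A = ⊥ := by
    rcases hN with hN | ⟨hnp, hN⟩
    · refine eq_bot_of_dvd (τ := τ.comp H.subtype) (hτ.comp H.subtype_injective) (fun a ha b hb => ?_) ?_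
        (n := n) ?_ hfree hN
      · exact Subtype.ext (hRc _ (hR₀R ha) _ (hR₀R hb))
      · intro h
        have h1 : Nat.card A ∣ Nat.card R := by
          rw [hA, Nat.card_congr (Subgroup.subgroupOfEquivOfLe (hR₀R.trans hRH)).toEquiv]
          exact Subgroup.card_dvd_of_le hR₀R
        have h2 := h.trans h1
        rw [hkR] at h2
        exact htp ((Nat.prime_dvd_prime_iff_eq hpp ht).1 (hpp.dvd_of_dvd_pow h2)).symm
      · rw [← hy, ← Subgroup.orderOf_mk y hyH]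
        exact orderOf_dvd_natCard _
    · by_contra hne
      have := Fact.mk hnp
      have hyo : orderOf (⟨y, hyH⟩ : H) = n := by rw [Subgroup.orderOf_mk, hy]
      have h1 := dvd_card_sub_one (A := A) hnp hyo fun a ha hc => hfree _ (by rw [hyo]; exact hnp) (by rw [hyo]) a ha hc
      have hAt : IsPGroup t A := by
        intro a
        obtain ⟨k, hk⟩ := hRt ⟨((a : H) : K), hR₀R a.2⟩
        exact ⟨k, Subtype.ext (Subtype.ext (congrArg (fun z : R => (z : K)) hk))⟩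
      obtain ⟨k, hk⟩ := IsPGroup.iff_card.1 hAt
      have hk0 : 0 < k := by
        rcases Nat.eq_zero_or_pos k with rfl | h
        · rw [pow_zero, Subgroup.card_eq_one] at hk
          exact absurd hk hne
        · exact h
      rw [hk] at h1
      refine hN k hk0 ?_ h1
      rw [← hk, hA, Nat.card_congr (Subgroup.subgroupOfEquivOfLe (hR₀R.trans hRH)).toEquiv]
      exact Subgroup.card_subgroup_dvd_card (R₀ : Subgroup K)
  intro u hu
  have h1 : (⟨y * u * y⁻¹ * u⁻¹, hRH (hR₀R ⟨u, hu, rfl⟩)⟩ : H) ∈ A := ⟨u, hu, rfl⟩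
  rw [hbot, Subgroup.mem_bot] at h1
  have h2 : y * u * y⁻¹ * u⁻¹ = 1 := congrArg Subtype.val h1
  rw [mul_inv_eq_one, mul_inv_eq_iff_eq_mul] at h2
  exact h2.symm

/-- **Normal `t`-subgroups, `t` not a prime of the torus.** -/
theorem eq_bot_of_free {F : Type*} [Field F] {ι : Type*} [Fintype ι] [DecidableEq ι] {p : ℕ} [CharP F p]
    {τ : K →* Matrix.GeneralLinearGroup ι F} (hτ : Function.Injective τ) (hpp : p.Prime) (hn : 1 < n)
    (hbig : ∀ r, r.Prime → r ∣ n → Big K r m e) {y : K} (hy : orderOf y = n) {t : ℕ} (ht : t.Prime) (htp : t ≠ p)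
    {R : Subgroup K} [hRn : R.Normal] (hRt : IsPGroup t R) (htn : ¬ t ∣ n) (htm : ¬ t ∣ m)
    (hN : Fintype.card ι < n ∨ (n.Prime ∧ ∀ k, 0 < k → t ^ k ∣ Nat.card K → ¬ n ∣ t ^ k - 1)) : R = ⊥ := by
  by_contra hne
  have := Fact.mk ht
  have hnt : Nontrivial R := (Subgroup.nontrivial_iff_ne_bot R).2 hne
  have hc := hRt.center_nontrivial
  have hchar : (center R).Characteristic := inferInstance
  have hCn : ((center R).map R.subtype).Normal := inferInstance
  have hCt : IsPGroup t ((center R).map R.subtype) := (hRt.to_subgroup _).map _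
  have h1 := commute_abelian hτ hpp hbig hy ht htp hCt (by
    rintro _ ⟨a, ha, rfl⟩ _ ⟨b, -, rfl⟩
    exact (congrArg Subtype.val (mem_center_iff.1 ha b)).symm) htn hN
  obtain ⟨z, hz⟩ := exists_ne (1 : center R)
  obtain ⟨r₁, hr₁, hr₁n⟩ := Nat.exists_prime_and_dvd hn.ne'
  obtain ⟨x, hx, hxr⟩ := exists_prime_pow' hr₁ (hy ▸ hr₁n : r₁ ∣ orderOf y)
  have hzx : (((z : R) : K)) ∈ centralizer ({x} : Set K) := by
    rw [mem_centralizer_singleton_iff]
    obtain ⟨k, rfl⟩ := hx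
    exact ((h1 _ ⟨z, z.2, rfl⟩).zpow_right k).eq
  have h2 : orderOf (((z : R) : K)) ∣ m := by
    have h3 := orderOf_dvd_natCard (⟨_, hzx⟩ : ↥(centralizer ({x} : Set K)))
    rw [Subgroup.orderOf_mk] at h3
    exact h3.trans ((hbig r₁ hr₁ hr₁n).card x hxr)
  have h3 : t ∣ orderOf (((z : R) : K)) := by
    obtain ⟨k, hk⟩ := hRt (z : R)
    have h4 : ((z : R) : K) ^ t ^ k = 1 := congrArg Subtype.val hk
    obtain ⟨j, -, hj⟩ := (Nat.dvd_prime_pow ht).1 (orderOf_dvd_of_pow_eq_one h4)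
    rw [hj]
    refine dvd_pow_self t fun h0 => hz ?_
    rw [h0, pow_zero, orderOf_eq_one_iff] at hj
    exact Subtype.ext (Subtype.ext hj)
  exact htm (h3.trans h2)

end

end Cfsg.Agent.H682.TE6
end

-- part: H290/Wei/CharOne
section
prune_inst 0x4353065447522020000000592e30020246c00019000230801f1a00d46090fbb02804207204e801d0290ceb28818000008115400f0420000000a0034000007002080aa52043674af043e000f803087180c00000000000000000000000000041004000000000
set_option linter.all false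
open scoped Cfsg.Agent.FastGrp

/-!
# Own characteristic names: one class of primitive primes (helper290)

`surv XT aT e` is a computed list of triples `(i, t, m)` : the type `t` and the rank `m` (`mkC t m q` is the name) which
satisfy the conditions of `comp2` for the exponent `i`.  `engine` : a name `g` of characteristic `p` whose order
divides the order of `T` and is divisible by all the primitive primes of class `e` is in the list.
-/

set_option autoImplicit false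

namespace Cfsg.Agent.H290.Wei

open Cfsg Cfsg.Agent.OrdDiv Cfsg.Agent.H436 Cfsg.Agent.H915.GN Cfsg.Agent.H264.GN Cfsg.Agent.H264.FKS
  Cfsg.Agent.H325.Same Cfsg.Agent.H946.KZ

/-- the name of type `t`, rank `m` over `q` -/
def mkC (t m q : ℕ) : Grp :=
  match t with
  | 0 => .psl m q
  | 1 => .psp m q
  | 2 => .oodd m q
  | 3 => .psu m q
  | 4 => .oplus m q
  | 5 => .ominus m q
  | 6 => .g2 q
  | 7 => .f4 q
  | 8 => .e6 q
  | 9 => .e7 q
  | 10 => .e8 q
  | 11 => .te6 q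
  | 12 => .td4 q
  | 13 => .sz q
  | 14 => .ree q
  | _ => .tf4 q

/-- the top exponent -/
def MC (t m : ℕ) : ℕ := Mg (mkC t m 0)

/-- the exponent of the power of `q` -/
def aC (t m : ℕ) : ℕ := ag (mkC t m 0)

/-- exponents whose primitive primes divide the order -/
def YC (t m : ℕ) : List ℕ :=
  match t with
  | 0 => (List.range (m + 1)).filter fun k => Nat.ble 2 k
  | 1 => (List.range (2 * m + 1)).filter fun k => Nat.ble 1 k && (k % 2 == 0)
  | 2 => (List.range (2 * m + 1)).filter fun k => Nat.ble 1 k && (k % 2 == 0)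
  | 3 => (List.range (2 * m + 1)).filter fun k => Nat.ble 3 k && (k % 2 == 0) && (Nat.ble k m || (k / 2 % 2 == 1))
  | 4 => (List.range (2 * (m - 1) + 1)).filter fun k => Nat.ble 4 k && (k % 2 == 0)
  | 5 => (List.range (2 * m + 1)).filter fun k => Nat.ble 4 k && (k % 2 == 0)
  | 6 => [2, 3, 6]
  | 7 => [2, 3, 4, 6, 8, 12]
  | 8 => [2, 3, 4, 5, 6, 8, 9, 12]
  | 9 => [2, 3, 4, 5, 6, 7, 8, 9, 10, 12, 14, 18]
  | 10 => [2, 3, 4, 5, 6, 7, 8, 9, 10, 12, 14, 15, 18, 20, 24, 30]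
  | 11 => [2, 3, 4, 6, 8, 10, 12, 18]
  | 12 => [2, 3, 6, 12]
  | 13 => [1, 4]
  | 14 => [1, 6]
  | _ => [1, 4, 6, 12]

/-- the least rank -/
def lo (t : ℕ) : ℕ :=
  match t with
  | 0 => 2
  | 1 => 2
  | 2 => 3
  | 3 => 3
  | 4 => 4
  | 5 => 4
  | _ => 0

/-- the test for one exponent -/
def test (XT : List ℕ) (i M k : ℕ) : Bool :=
  (XT.any fun j => (M * j) % (i * k) == 0) || (k == 1) || ((k == 2) && ((3 * M) % i == 0)) ||
    ((k == 3) && ((2 * M) % i == 0)) || ((k == 6) && (M % i == 0))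

/-- the test -/
def ok (XT : List ℕ) (aT i t m : ℕ) : Bool :=
  Nat.ble (aC t m * i) (aT * MC t m) && (YC t m).all fun k => test XT i (MC t m) k

/-- the ranks -/
def ranks (B t : ℕ) : List ℕ := if t < 6 then (List.range (B + 1)).filter fun m => Nat.ble (lo t) m else [0]

/-- the surviving types -/
def surv (XT : List ℕ) (aT e : ℕ) : List (ℕ × ℕ × ℕ) :=
  (XT.filter fun i => Nat.ble e i).flatMap fun i =>
    (List.range 16).flatMap fun t => ((ranks (4 * aT / e + 1) t).filter fun m => ok XT aT i t m).map fun m => (i, t, m)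

theorem mem_surv {XT : List ℕ} {aT e i t m : ℕ} (hi : i ∈ XT) (hei : e ≤ i) (ht : t < 16)
    (hm : m ∈ ranks (4 * aT / e + 1) t) (hok : ok XT aT i t m = true) : (i, t, m) ∈ surv XT aT e := by
  unfold surv
  rw [List.mem_flatMap]
  refine ⟨i, List.mem_filter.2 ⟨hi, Nat.ble_eq_true_of_le hei⟩, ?_⟩
  rw [List.mem_flatMap]
  exact ⟨t, List.mem_range.2 ht, List.mem_map.2 ⟨m, List.mem_filter.2 ⟨hm, hok⟩, rfl⟩⟩

variable {p f c : ℕ} {g : Grp}

theorem test_of {XT : List ℕ} {i M k f₁ : ℕ} (hf₁ : 1 ≤ f₁) (hfM : f₁ * M = f * i)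
    (h : 3 ≤ f₁ * k → ¬ (p = 2 ∧ f₁ * k = 6) → ∃ j, j ∈ XT ∧ i * k ∣ M * j) (hk : 1 ≤ k) :
    test XT i M k = true := by
  unfold test
  simp only [Bool.or_eq_true, Bool.and_eq_true, beq_iff_eq, List.any_eq_true]
  by_cases h3 : 3 ≤ f₁ * k
  · by_cases h6 : p = 2 ∧ f₁ * k = 6
    · have h7 := h6.2
      have hk6 : k ∣ 6 := ⟨f₁, by rw [← h7, mul_comm]⟩
      have hk7 := Nat.le_of_dvd (by norm_num) hk6
      have hk8 : k = 1 ∨ k = 2 ∨ k = 3 ∨ k = 6 := by
        interval_cases k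
        · simp
        · simp
        · simp
        · omega
        · omega
        · simp
      rcases hk8 with rfl | rfl | rfl | rfl
      · simp only [_root_.mul_one, _root_.or_true, _root_.OfNat.one_ne_ofNat, _root_.false_and, _root_.or_false]
      · obtain rfl : f₁ = 3 := by omega
        exact Or.inl (Or.inl (Or.inr ⟨rfl, Nat.mod_eq_zero_of_dvd ⟨f, by rw [hfM, mul_comm]⟩⟩))
      · obtain rfl : f₁ = 2 := by omega
        exact Or.inl (Or.inr ⟨rfl, Nat.mod_eq_zero_of_dvd ⟨f, by rw [hfM, mul_comm]⟩⟩)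
      · obtain rfl : f₁ = 1 := by omega
        exact Or.inr ⟨rfl, Nat.mod_eq_zero_of_dvd ⟨f, by rw [← one_mul M, hfM, mul_comm]⟩⟩
    · obtain ⟨j, hj, hd⟩ := h h3 h6
      exact Or.inl (Or.inl (Or.inl (Or.inl ⟨j, hj, Nat.mod_eq_zero_of_dvd hd⟩)))
  · have hk2 : k = 1 ∨ k = 2 := by
      have : 1 * k ≤ f₁ * k := Nat.mul_le_mul_right _ hf₁
      omega
    rcases hk2 with rfl | rfl
    · simp only [_root_.mul_one, _root_.or_true, _root_.OfNat.one_ne_ofNat, _root_.false_and, _root_.or_false]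
    · obtain rfl : f₁ = 1 := by omega
      refine Or.inl (Or.inl (Or.inr ⟨rfl, Nat.mod_eq_zero_of_dvd (Dvd.dvd.mul_left ⟨f, ?_⟩ 3)⟩))
      rw [← one_mul M, hfM, mul_comm]

/-- the bound for the rank from `a i ≤ aT M` -/
theorem le_bound {m i e aT : ℕ} (he : 1 ≤ e) (hei : e ≤ i) (h : (m - 1) * i ≤ 4 * aT) : m ≤ 4 * aT / e + 1 := by
  have h1 : (m - 1) * e ≤ 4 * aT := (Nat.mul_le_mul_left _ hei).trans h
  have h2 : m - 1 ≤ 4 * aT / e := (Nat.le_div_iff_mul_le (by omega)).2 h1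
  omega

/-- **The engine.** -/
theorem engine {XT : List ℕ} {MT aT e : ℕ} (hp : p.Prime) (hf : 1 ≤ f) (hg : Cond g) (hch : HasChar p g)
    (hc : den g * c = num g) (hT : TD p f c (fun i => i ∈ XT) MT aT) (h7 : 7 ≤ e) (h2 : MT < 2 * e)
    (hz : ZT p f e c) :
    ∃ x ∈ surv XT aT e, ∃ f₁, 1 ≤ f₁ ∧ f₁ * MC x.2.1 x.2.2 = f * x.1 ∧ g = mkC x.2.1 x.2.2 (p ^ f₁) := by
  obtain ⟨f₁, hf₁, hfl, hK, hY⟩ := kd_all hp hg hch hc
  obtain ⟨i, hi, hei, hfM, ha, -, hYc⟩ := comp2 hp hf hT hK hf₁ h7 h2 hz hY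
  have hi0 : 0 < i := by omega
  -- the cases without rank
  have key : ∀ t m : ℕ, t < 16 → m ∈ ranks (4 * aT / e + 1) t → g = mkC t m (fld g) → MC t m = Mg g → aC t m = ag g →
      (∀ k ∈ YC t m, 1 ≤ k ∧ Yg g k) →
      ∃ x ∈ surv XT aT e, ∃ f₁, 1 ≤ f₁ ∧ f₁ * MC x.2.1 x.2.2 = f * x.1 ∧ g = mkC x.2.1 x.2.2 (p ^ f₁) := by
    intro t m ht hm hgt hM haC hYC
    refine ⟨(i, t, m), mem_surv hi hei ht hm ?_, f₁, hf₁, ?_, ?_⟩
    · unfold ok
      rw [Bool.and_eq_true, List.all_eq_true, Nat.ble_eq, haC, hM]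
      exact ⟨ha, fun k hk => test_of hf₁ hfM (fun h3 h6 => hYc k (hYC k hk).2 h3 h6) (hYC k hk).1⟩
    · show f₁ * MC t m = f * i
      rw [hM, hfM]
    · show g = mkC t m (p ^ f₁)
      rw [← hfl]
      exact hgt
  have hr0 : ∀ t : ℕ, ¬ t < 6 → (0 : ℕ) ∈ ranks (4 * aT / e + 1) t := by
    intro t ht
    unfold ranks
    rw [if_neg ht]
    exact List.mem_singleton_self _
  have hrk : ∀ t m : ℕ, t < 6 → lo t ≤ m → (m - 1) * i ≤ 4 * aT → m ∈ ranks (4 * aT / e + 1) t := by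
    intro t m ht h1 h2
    unfold ranks
    rw [if_pos ht, List.mem_filter, List.mem_range, Nat.ble_eq]
    have := le_bound (e := e) (by omega) hei h2
    exact ⟨by omega, h1⟩
  clear hfM hYc hK hY
  cases g
  case psl m q =>
    obtain ⟨hm, -, -⟩ := hg
    have ha' : m * (m - 1) / 2 * i ≤ aT * m := ha
    refine key 0 m (by norm_num) (hrk 0 m (by norm_num) hm ?_) rfl rfl rfl ?_
    · have h3 : m * (m - 1) / 2 * 2 = m * (m - 1) := Nat.div_mul_cancel (Nat.even_mul_pred_self m).two_dvd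
      refine Nat.le_of_mul_le_mul_left (c := m) ?_ (by omega)
      calc m * ((m - 1) * i) = m * (m - 1) / 2 * 2 * i := by rw [h3]; ring
        _ = 2 * (m * (m - 1) / 2 * i) := by ring
        _ ≤ 2 * (aT * m) := by omega
        _ ≤ m * (4 * aT) := by linarith only [Nat.zero_le (aT * m)]
    · intro k hk
      rw [YC, List.mem_filter, List.mem_range, Nat.ble_eq] at hk
      exact ⟨by omega, hk.2, by omega⟩
  case psp m q =>
    obtain ⟨hm, -, -⟩ := hg
    have ha' : m ^ 2 * i ≤ aT * (2 * m) := ha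
    refine key 1 m (by norm_num) (hrk 1 m (by norm_num) hm ?_) rfl rfl rfl ?_
    · refine Nat.le_of_mul_le_mul_left (c := m) ?_ (by omega)
      calc m * ((m - 1) * i) ≤ m * (m * i) := Nat.mul_le_mul_left _ (Nat.mul_le_mul_right _ (by omega))
        _ = m ^ 2 * i := by ring
        _ ≤ aT * (2 * m) := ha'
        _ ≤ m * (4 * aT) := by linarith only [Nat.zero_le (aT * m)]
    · intro k hk
      rw [YC, List.mem_filter, List.mem_range, Bool.and_eq_true, Nat.ble_eq, beq_iff_eq] at hk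
      exact ⟨hk.2.1, hk.2.1, by omega, Nat.dvd_of_mod_eq_zero hk.2.2⟩
  case oodd m q =>
    obtain ⟨hm, -, -⟩ := hg
    have ha' : m ^ 2 * i ≤ aT * (2 * m) := ha
    refine key 2 m (by norm_num) (hrk 2 m (by norm_num) hm ?_) rfl rfl rfl ?_
    · refine Nat.le_of_mul_le_mul_left (c := m) ?_ (by omega)
      calc m * ((m - 1) * i) ≤ m * (m * i) := Nat.mul_le_mul_left _ (Nat.mul_le_mul_right _ (by omega))
        _ = m ^ 2 * i := by ring
        _ ≤ aT * (2 * m) := ha'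
        _ ≤ m * (4 * aT) := by linarith only [Nat.zero_le (aT * m)]
    · intro k hk
      rw [YC, List.mem_filter, List.mem_range, Bool.and_eq_true, Nat.ble_eq, beq_iff_eq] at hk
      exact ⟨hk.2.1, hk.2.1, by omega, Nat.dvd_of_mod_eq_zero hk.2.2⟩
  case psu m q =>
    obtain ⟨hm, -, -⟩ := hg
    have ha' : m * (m - 1) / 2 * i ≤ aT * (2 * (if m % 2 = 0 then m - 1 else m)) := ha
    have hle : 2 * (if m % 2 = 0 then m - 1 else m) ≤ 2 * m := by split_ifs <;> (clear * -; omega)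
    refine key 3 m (by norm_num) (hrk 3 m (by norm_num) hm ?_) rfl rfl rfl ?_
    · have h3 : m * (m - 1) / 2 * 2 = m * (m - 1) := Nat.div_mul_cancel (Nat.even_mul_pred_self m).two_dvd
      refine Nat.le_of_mul_le_mul_left (c := m) ?_ (by omega)
      have h4 : m * (m - 1) / 2 * i ≤ aT * (2 * m) := ha'.trans (Nat.mul_le_mul_left _ hle)
      calc m * ((m - 1) * i) = m * (m - 1) / 2 * 2 * i := by rw [h3]; ring
        _ = 2 * (m * (m - 1) / 2 * i) := by ring
        _ ≤ 2 * (aT * (2 * m)) := by omega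
        _ = m * (4 * aT) := by ring
    · intro k hk
      rw [YC, List.mem_filter, List.mem_range, Bool.and_eq_true, Bool.and_eq_true, Nat.ble_eq, beq_iff_eq,
        Bool.or_eq_true, Nat.ble_eq, beq_iff_eq] at hk
      refine ⟨by omega, hk.2.1.1, ?_⟩
      rcases hk.2.2 with h | h
      · exact Or.inl ⟨h, hk.2.1.2⟩
      · exact Or.inr ⟨k / 2, by omega, by omega, h⟩
  case oplus m q =>
    obtain ⟨hm, -⟩ := hg
    have ha' : m * (m - 1) * i ≤ aT * (2 * (m - 1)) := ha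
    refine key 4 m (by norm_num) (hrk 4 m (by norm_num) hm ?_) rfl rfl rfl ?_
    · refine Nat.le_of_mul_le_mul_left (c := m - 1) ?_ (by omega)
      calc (m - 1) * ((m - 1) * i) ≤ (m - 1) * (m * i) := Nat.mul_le_mul_left _ (Nat.mul_le_mul_right _ (by omega))
        _ = m * (m - 1) * i := by ring
        _ ≤ aT * (2 * (m - 1)) := ha'
        _ ≤ (m - 1) * (4 * aT) := by linarith only [Nat.zero_le (aT * (m - 1))]
    · intro k hk
      rw [YC, List.mem_filter, List.mem_range, Bool.and_eq_true, Nat.ble_eq, beq_iff_eq] at hk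
      exact ⟨by omega, hk.2.1, by omega, Nat.dvd_of_mod_eq_zero hk.2.2⟩
  case ominus m q =>
    obtain ⟨hm, -⟩ := hg
    have ha' : m * (m - 1) * i ≤ aT * (2 * m) := ha
    refine key 5 m (by norm_num) (hrk 5 m (by norm_num) hm ?_) rfl rfl rfl ?_
    · refine Nat.le_of_mul_le_mul_left (c := m) ?_ (by omega)
      calc m * ((m - 1) * i) = m * (m - 1) * i := by ring
        _ ≤ aT * (2 * m) := ha'
        _ ≤ m * (4 * aT) := by linarith only [Nat.zero_le (aT * m)]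
    · intro k hk
      rw [YC, List.mem_filter, List.mem_range, Bool.and_eq_true, Nat.ble_eq, beq_iff_eq] at hk
      exact ⟨by omega, hk.2.1, by omega, Nat.dvd_of_mod_eq_zero hk.2.2⟩
  case g2 q => exact key 6 0 (by norm_num) (hr0 6 (by norm_num)) rfl rfl rfl fun k hk => ⟨by revert k; decide, hk⟩
  case f4 q => exact key 7 0 (by norm_num) (hr0 7 (by norm_num)) rfl rfl rfl fun k hk => ⟨by revert k; decide, hk⟩
  case e6 q => exact key 8 0 (by norm_num) (hr0 8 (by norm_num)) rfl rfl rfl fun k hk => ⟨by revert k; decide, hk⟩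
  case e7 q => exact key 9 0 (by norm_num) (hr0 9 (by norm_num)) rfl rfl rfl fun k hk => ⟨by revert k; decide, hk⟩
  case e8 q => exact key 10 0 (by norm_num) (hr0 10 (by norm_num)) rfl rfl rfl fun k hk => ⟨by revert k; decide, hk⟩
  case te6 q => exact key 11 0 (by norm_num) (hr0 11 (by norm_num)) rfl rfl rfl fun k hk => ⟨by revert k; decide, hk⟩
  case td4 q => exact key 12 0 (by norm_num) (hr0 12 (by norm_num)) rfl rfl rfl fun k hk => ⟨by revert k; decide, hk⟩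
  case sz q => exact key 13 0 (by norm_num) (hr0 13 (by norm_num)) rfl rfl rfl fun k hk => ⟨by revert k; decide, hk⟩
  case ree q => exact key 14 0 (by norm_num) (hr0 14 (by norm_num)) rfl rfl rfl fun k hk => ⟨by revert k; decide, hk⟩
  case tf4 q => exact key 15 0 (by norm_num) (hr0 15 (by norm_num)) rfl rfl rfl fun k hk => ⟨by revert k; decide, hk⟩
  all_goals exact absurd hch not_false

theorem surv_e8_30 : surv [2, 8, 12, 14, 18, 20, 24, 30] 120 30 =
    [(30, 0, 2), (30, 0, 3), (30, 0, 5), (30, 1, 2), (30, 1, 3), (30, 1, 5), (30, 2, 3), (30, 2, 5), (30, 3, 3),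
    (30, 3, 4), (30, 3, 5), (30, 3, 6), (30, 4, 4), (30, 4, 6), (30, 5, 5), (30, 6, 0), (30, 7, 0), (30, 10, 0),
    (30, 12, 0), (30, 13, 0), (30, 14, 0), (30, 15, 0)] := by
  decide +kernel

/-- class 30 of `e8`, own characteristic -/
theorem charp_e8_30 (hp : p.Prime) (hf : 1 ≤ f) (hg : Cond g) (hch : HasChar p g) (hc : den g * c = num g)
    (hdvd : c ∣ num (.e8 (p ^ f))) (hz : ZT p f 30 c) :
    ∃ f₁, 1 ≤ f₁ ∧ (
      (f₁ * 2 = f * 30 ∧ g = .psl 2 (p ^ f₁)) ∨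
      (f₁ * 3 = f * 30 ∧ g = .psl 3 (p ^ f₁)) ∨
      (f₁ * 5 = f * 30 ∧ g = .psl 5 (p ^ f₁)) ∨
      (f₁ * 4 = f * 30 ∧ g = .psp 2 (p ^ f₁)) ∨
      (f₁ * 6 = f * 30 ∧ g = .psp 3 (p ^ f₁)) ∨
      (f₁ * 10 = f * 30 ∧ g = .psp 5 (p ^ f₁)) ∨
      (f₁ * 6 = f * 30 ∧ g = .oodd 3 (p ^ f₁)) ∨
      (f₁ * 10 = f * 30 ∧ g = .oodd 5 (p ^ f₁)) ∨
      (f₁ * 6 = f * 30 ∧ g = .psu 3 (p ^ f₁)) ∨
      (f₁ * 6 = f * 30 ∧ g = .psu 4 (p ^ f₁)) ∨
      (f₁ * 10 = f * 30 ∧ g = .psu 5 (p ^ f₁)) ∨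
      (f₁ * 10 = f * 30 ∧ g = .psu 6 (p ^ f₁)) ∨
      (f₁ * 6 = f * 30 ∧ g = .oplus 4 (p ^ f₁)) ∨
      (f₁ * 10 = f * 30 ∧ g = .oplus 6 (p ^ f₁)) ∨
      (f₁ * 10 = f * 30 ∧ g = .ominus 5 (p ^ f₁)) ∨
      (f₁ * 6 = f * 30 ∧ g = .g2 (p ^ f₁)) ∨
      (f₁ * 12 = f * 30 ∧ g = .f4 (p ^ f₁)) ∨
      (f₁ * 30 = f * 30 ∧ g = .e8 (p ^ f₁)) ∨
      (f₁ * 12 = f * 30 ∧ g = .td4 (p ^ f₁)) ∨
      (f₁ * 4 = f * 30 ∧ g = .sz (p ^ f₁)) ∨
      (f₁ * 6 = f * 30 ∧ g = .ree (p ^ f₁)) ∨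
      (f₁ * 12 = f * 30 ∧ g = .tf4 (p ^ f₁))) := by
  obtain ⟨x, hx, f₁, h1, h2, h3⟩ := engine (XT := [2, 8, 12, 14, 18, 20, 24, 30]) (MT := 30) (aT := 120) (e := 30) hp hf hg hch hc
    (td_e8 hp hf hdvd) (by norm_num) (by norm_num) hz
  rw [surv_e8_30] at hx
  simp only [List.mem_cons, List.not_mem_nil, or_false] at hx
  refine ⟨f₁, h1, ?_⟩
  rcases hx with rfl | rfl | rfl | rfl | rfl | rfl | rfl | rfl | rfl | rfl | rfl | rfl | rfl | rfl | rfl | rfl | rfl | rfl | rfl | rfl | rfl | rfl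
  · exact Or.inl ⟨h2, h3⟩
  · exact Or.inr (Or.inl ⟨h2, h3⟩)
  · exact Or.inr (Or.inr (Or.inl ⟨h2, h3⟩))
  · exact Or.inr (Or.inr (Or.inr (Or.inl ⟨h2, h3⟩)))
  · exact Or.inr (Or.inr (Or.inr (Or.inr (Or.inl ⟨h2, h3⟩))))
  · exact Or.inr (Or.inr (Or.inr (Or.inr (Or.inr (Or.inl ⟨h2, h3⟩)))))
  · exact Or.inr (Or.inr (Or.inr (Or.inr (Or.inr (Or.inr (Or.inl ⟨h2, h3⟩))))))
  · exact Or.inr (Or.inr (Or.inr (Or.inr (Or.inr (Or.inr (Or.inr (Or.inl ⟨h2, h3⟩)))))))
  · exact Or.inr (Or.inr (Or.inr (Or.inr (Or.inr (Or.inr (Or.inr (Or.inr (Or.inl ⟨h2, h3⟩))))))))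
  · exact Or.inr (Or.inr (Or.inr (Or.inr (Or.inr (Or.inr (Or.inr (Or.inr (Or.inr (Or.inl ⟨h2, h3⟩)))))))))
  · exact Or.inr (Or.inr (Or.inr (Or.inr (Or.inr (Or.inr (Or.inr (Or.inr (Or.inr (Or.inr (Or.inl ⟨h2, h3⟩))))))))))
  · exact Or.inr (Or.inr (Or.inr (Or.inr (Or.inr (Or.inr (Or.inr (Or.inr (Or.inr (Or.inr (Or.inr (Or.inl ⟨h2, h3⟩)))))))))))
  · exact Or.inr (Or.inr (Or.inr (Or.inr (Or.inr (Or.inr (Or.inr (Or.inr (Or.inr (Or.inr (Or.inr (Or.inr (Or.inl ⟨h2, h3⟩))))))))))))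
  · exact Or.inr (Or.inr (Or.inr (Or.inr (Or.inr (Or.inr (Or.inr (Or.inr (Or.inr (Or.inr (Or.inr (Or.inr (Or.inr (Or.inl ⟨h2, h3⟩)))))))))))))
  · exact Or.inr (Or.inr (Or.inr (Or.inr (Or.inr (Or.inr (Or.inr (Or.inr (Or.inr (Or.inr (Or.inr (Or.inr (Or.inr (Or.inr (Or.inl ⟨h2, h3⟩))))))))))))))
  · exact Or.inr (Or.inr (Or.inr (Or.inr (Or.inr (Or.inr (Or.inr (Or.inr (Or.inr (Or.inr (Or.inr (Or.inr (Or.inr (Or.inr (Or.inr (Or.inl ⟨h2, h3⟩)))))))))))))))
  · exact Or.inr (Or.inr (Or.inr (Or.inr (Or.inr (Or.inr (Or.inr (Or.inr (Or.inr (Or.inr (Or.inr (Or.inr (Or.inr (Or.inr (Or.inr (Or.inr (Or.inl ⟨h2, h3⟩))))))))))))))))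
  · exact Or.inr (Or.inr (Or.inr (Or.inr (Or.inr (Or.inr (Or.inr (Or.inr (Or.inr (Or.inr (Or.inr (Or.inr (Or.inr (Or.inr (Or.inr (Or.inr (Or.inr (Or.inl ⟨h2, h3⟩)))))))))))))))))
  · exact Or.inr (Or.inr (Or.inr (Or.inr (Or.inr (Or.inr (Or.inr (Or.inr (Or.inr (Or.inr (Or.inr (Or.inr (Or.inr (Or.inr (Or.inr (Or.inr (Or.inr (Or.inr (Or.inl ⟨h2, h3⟩))))))))))))))))))
  · exact Or.inr (Or.inr (Or.inr (Or.inr (Or.inr (Or.inr (Or.inr (Or.inr (Or.inr (Or.inr (Or.inr (Or.inr (Or.inr (Or.inr (Or.inr (Or.inr (Or.inr (Or.inr (Or.inr (Or.inl ⟨h2, h3⟩)))))))))))))))))))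
  · exact Or.inr (Or.inr (Or.inr (Or.inr (Or.inr (Or.inr (Or.inr (Or.inr (Or.inr (Or.inr (Or.inr (Or.inr (Or.inr (Or.inr (Or.inr (Or.inr (Or.inr (Or.inr (Or.inr (Or.inr (Or.inl ⟨h2, h3⟩))))))))))))))))))))
  · exact Or.inr (Or.inr (Or.inr (Or.inr (Or.inr (Or.inr (Or.inr (Or.inr (Or.inr (Or.inr (Or.inr (Or.inr (Or.inr (Or.inr (Or.inr (Or.inr (Or.inr (Or.inr (Or.inr (Or.inr (Or.inr ⟨h2, h3⟩))))))))))))))))))))

theorem surv_e7_18 : surv [2, 6, 8, 10, 12, 14, 18] 63 18 =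
    [(18, 0, 2), (18, 0, 3), (18, 1, 2), (18, 1, 3), (18, 2, 3), (18, 3, 3), (18, 3, 4), (18, 3, 9), (18, 3, 10),
    (18, 4, 4), (18, 6, 0), (18, 7, 0), (18, 9, 0), (18, 11, 0), (18, 12, 0), (18, 13, 0), (18, 14, 0), (18, 15,
    0)] := by
  decide +kernel

/-- class 18 of `e7`, own characteristic -/
theorem charp_e7_18 (hp : p.Prime) (hf : 1 ≤ f) (hg : Cond g) (hch : HasChar p g) (hc : den g * c = num g)
    (hdvd : c ∣ num (.e7 (p ^ f))) (hz : ZT p f 18 c) :
    ∃ f₁, 1 ≤ f₁ ∧ (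
      (f₁ * 2 = f * 18 ∧ g = .psl 2 (p ^ f₁)) ∨
      (f₁ * 3 = f * 18 ∧ g = .psl 3 (p ^ f₁)) ∨
      (f₁ * 4 = f * 18 ∧ g = .psp 2 (p ^ f₁)) ∨
      (f₁ * 6 = f * 18 ∧ g = .psp 3 (p ^ f₁)) ∨
      (f₁ * 6 = f * 18 ∧ g = .oodd 3 (p ^ f₁)) ∨
      (f₁ * 6 = f * 18 ∧ g = .psu 3 (p ^ f₁)) ∨
      (f₁ * 6 = f * 18 ∧ g = .psu 4 (p ^ f₁)) ∨
      (f₁ * 18 = f * 18 ∧ g = .psu 9 (p ^ f₁)) ∨
      (f₁ * 18 = f * 18 ∧ g = .psu 10 (p ^ f₁)) ∨
      (f₁ * 6 = f * 18 ∧ g = .oplus 4 (p ^ f₁)) ∨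
      (f₁ * 6 = f * 18 ∧ g = .g2 (p ^ f₁)) ∨
      (f₁ * 12 = f * 18 ∧ g = .f4 (p ^ f₁)) ∨
      (f₁ * 18 = f * 18 ∧ g = .e7 (p ^ f₁)) ∨
      (f₁ * 18 = f * 18 ∧ g = .te6 (p ^ f₁)) ∨
      (f₁ * 12 = f * 18 ∧ g = .td4 (p ^ f₁)) ∨
      (f₁ * 4 = f * 18 ∧ g = .sz (p ^ f₁)) ∨
      (f₁ * 6 = f * 18 ∧ g = .ree (p ^ f₁)) ∨
      (f₁ * 12 = f * 18 ∧ g = .tf4 (p ^ f₁))) := by
  obtain ⟨x, hx, f₁, h1, h2, h3⟩ := engine (XT := [2, 6, 8, 10, 12, 14, 18]) (MT := 18) (aT := 63) (e := 18) hp hf hg hch hc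
    (td_e7 hp hf hdvd) (by norm_num) (by norm_num) hz
  rw [surv_e7_18] at hx
  simp only [List.mem_cons, List.not_mem_nil, or_false] at hx
  refine ⟨f₁, h1, ?_⟩
  rcases hx with rfl | rfl | rfl | rfl | rfl | rfl | rfl | rfl | rfl | rfl | rfl | rfl | rfl | rfl | rfl | rfl | rfl | rfl
  · exact Or.inl ⟨h2, h3⟩
  · exact Or.inr (Or.inl ⟨h2, h3⟩)
  · exact Or.inr (Or.inr (Or.inl ⟨h2, h3⟩))
  · exact Or.inr (Or.inr (Or.inr (Or.inl ⟨h2, h3⟩)))
  · exact Or.inr (Or.inr (Or.inr (Or.inr (Or.inl ⟨h2, h3⟩))))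
  · exact Or.inr (Or.inr (Or.inr (Or.inr (Or.inr (Or.inl ⟨h2, h3⟩)))))
  · exact Or.inr (Or.inr (Or.inr (Or.inr (Or.inr (Or.inr (Or.inl ⟨h2, h3⟩))))))
  · exact Or.inr (Or.inr (Or.inr (Or.inr (Or.inr (Or.inr (Or.inr (Or.inl ⟨h2, h3⟩)))))))
  · exact Or.inr (Or.inr (Or.inr (Or.inr (Or.inr (Or.inr (Or.inr (Or.inr (Or.inl ⟨h2, h3⟩))))))))
  · exact Or.inr (Or.inr (Or.inr (Or.inr (Or.inr (Or.inr (Or.inr (Or.inr (Or.inr (Or.inl ⟨h2, h3⟩)))))))))
  · exact Or.inr (Or.inr (Or.inr (Or.inr (Or.inr (Or.inr (Or.inr (Or.inr (Or.inr (Or.inr (Or.inl ⟨h2, h3⟩))))))))))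
  · exact Or.inr (Or.inr (Or.inr (Or.inr (Or.inr (Or.inr (Or.inr (Or.inr (Or.inr (Or.inr (Or.inr (Or.inl ⟨h2, h3⟩)))))))))))
  · exact Or.inr (Or.inr (Or.inr (Or.inr (Or.inr (Or.inr (Or.inr (Or.inr (Or.inr (Or.inr (Or.inr (Or.inr (Or.inl ⟨h2, h3⟩))))))))))))
  · exact Or.inr (Or.inr (Or.inr (Or.inr (Or.inr (Or.inr (Or.inr (Or.inr (Or.inr (Or.inr (Or.inr (Or.inr (Or.inr (Or.inl ⟨h2, h3⟩)))))))))))))
  · exact Or.inr (Or.inr (Or.inr (Or.inr (Or.inr (Or.inr (Or.inr (Or.inr (Or.inr (Or.inr (Or.inr (Or.inr (Or.inr (Or.inr (Or.inl ⟨h2, h3⟩))))))))))))))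
  · exact Or.inr (Or.inr (Or.inr (Or.inr (Or.inr (Or.inr (Or.inr (Or.inr (Or.inr (Or.inr (Or.inr (Or.inr (Or.inr (Or.inr (Or.inr (Or.inl ⟨h2, h3⟩)))))))))))))))
  · exact Or.inr (Or.inr (Or.inr (Or.inr (Or.inr (Or.inr (Or.inr (Or.inr (Or.inr (Or.inr (Or.inr (Or.inr (Or.inr (Or.inr (Or.inr (Or.inr (Or.inl ⟨h2, h3⟩))))))))))))))))
  · exact Or.inr (Or.inr (Or.inr (Or.inr (Or.inr (Or.inr (Or.inr (Or.inr (Or.inr (Or.inr (Or.inr (Or.inr (Or.inr (Or.inr (Or.inr (Or.inr (Or.inr ⟨h2, h3⟩))))))))))))))))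

theorem surv_e6_12 : surv [2, 5, 6, 8, 9, 12] 36 12 =
    [(12, 0, 2), (12, 0, 3), (12, 0, 4), (12, 1, 2), (12, 1, 3), (12, 1, 4), (12, 2, 3), (12, 2, 4), (12, 3, 3),
    (12, 3, 4), (12, 4, 4), (12, 4, 5), (12, 5, 4), (12, 6, 0), (12, 7, 0), (12, 8, 0), (12, 12, 0), (12, 13, 0),
    (12, 14, 0), (12, 15, 0)] := by
  decide +kernel

/-- class 12 of `e6`, own characteristic -/
theorem charp_e6_12 (hp : p.Prime) (hf : 1 ≤ f) (hg : Cond g) (hch : HasChar p g) (hc : den g * c = num g)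
    (hdvd : c ∣ num (.e6 (p ^ f))) (hz : ZT p f 12 c) :
    ∃ f₁, 1 ≤ f₁ ∧ (
      (f₁ * 2 = f * 12 ∧ g = .psl 2 (p ^ f₁)) ∨
      (f₁ * 3 = f * 12 ∧ g = .psl 3 (p ^ f₁)) ∨
      (f₁ * 4 = f * 12 ∧ g = .psl 4 (p ^ f₁)) ∨
      (f₁ * 4 = f * 12 ∧ g = .psp 2 (p ^ f₁)) ∨
      (f₁ * 6 = f * 12 ∧ g = .psp 3 (p ^ f₁)) ∨
      (f₁ * 8 = f * 12 ∧ g = .psp 4 (p ^ f₁)) ∨
      (f₁ * 6 = f * 12 ∧ g = .oodd 3 (p ^ f₁)) ∨
      (f₁ * 8 = f * 12 ∧ g = .oodd 4 (p ^ f₁)) ∨
      (f₁ * 6 = f * 12 ∧ g = .psu 3 (p ^ f₁)) ∨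
      (f₁ * 6 = f * 12 ∧ g = .psu 4 (p ^ f₁)) ∨
      (f₁ * 6 = f * 12 ∧ g = .oplus 4 (p ^ f₁)) ∨
      (f₁ * 8 = f * 12 ∧ g = .oplus 5 (p ^ f₁)) ∨
      (f₁ * 8 = f * 12 ∧ g = .ominus 4 (p ^ f₁)) ∨
      (f₁ * 6 = f * 12 ∧ g = .g2 (p ^ f₁)) ∨
      (f₁ * 12 = f * 12 ∧ g = .f4 (p ^ f₁)) ∨
      (f₁ * 12 = f * 12 ∧ g = .e6 (p ^ f₁)) ∨
      (f₁ * 12 = f * 12 ∧ g = .td4 (p ^ f₁)) ∨
      (f₁ * 4 = f * 12 ∧ g = .sz (p ^ f₁)) ∨
      (f₁ * 6 = f * 12 ∧ g = .ree (p ^ f₁)) ∨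
      (f₁ * 12 = f * 12 ∧ g = .tf4 (p ^ f₁))) := by
  obtain ⟨x, hx, f₁, h1, h2, h3⟩ := engine (XT := [2, 5, 6, 8, 9, 12]) (MT := 12) (aT := 36) (e := 12) hp hf hg hch hc
    (td_e6 hp hf hdvd) (by norm_num) (by norm_num) hz
  rw [surv_e6_12] at hx
  simp only [List.mem_cons, List.not_mem_nil, or_false] at hx
  refine ⟨f₁, h1, ?_⟩
  rcases hx with rfl | rfl | rfl | rfl | rfl | rfl | rfl | rfl | rfl | rfl | rfl | rfl | rfl | rfl | rfl | rfl | rfl | rfl | rfl | rfl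
  · exact Or.inl ⟨h2, h3⟩
  · exact Or.inr (Or.inl ⟨h2, h3⟩)
  · exact Or.inr (Or.inr (Or.inl ⟨h2, h3⟩))
  · exact Or.inr (Or.inr (Or.inr (Or.inl ⟨h2, h3⟩)))
  · exact Or.inr (Or.inr (Or.inr (Or.inr (Or.inl ⟨h2, h3⟩))))
  · exact Or.inr (Or.inr (Or.inr (Or.inr (Or.inr (Or.inl ⟨h2, h3⟩)))))
  · exact Or.inr (Or.inr (Or.inr (Or.inr (Or.inr (Or.inr (Or.inl ⟨h2, h3⟩))))))
  · exact Or.inr (Or.inr (Or.inr (Or.inr (Or.inr (Or.inr (Or.inr (Or.inl ⟨h2, h3⟩)))))))
  · exact Or.inr (Or.inr (Or.inr (Or.inr (Or.inr (Or.inr (Or.inr (Or.inr (Or.inl ⟨h2, h3⟩))))))))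
  · exact Or.inr (Or.inr (Or.inr (Or.inr (Or.inr (Or.inr (Or.inr (Or.inr (Or.inr (Or.inl ⟨h2, h3⟩)))))))))
  · exact Or.inr (Or.inr (Or.inr (Or.inr (Or.inr (Or.inr (Or.inr (Or.inr (Or.inr (Or.inr (Or.inl ⟨h2, h3⟩))))))))))
  · exact Or.inr (Or.inr (Or.inr (Or.inr (Or.inr (Or.inr (Or.inr (Or.inr (Or.inr (Or.inr (Or.inr (Or.inl ⟨h2, h3⟩)))))))))))
  · exact Or.inr (Or.inr (Or.inr (Or.inr (Or.inr (Or.inr (Or.inr (Or.inr (Or.inr (Or.inr (Or.inr (Or.inr (Or.inl ⟨h2, h3⟩))))))))))))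
  · exact Or.inr (Or.inr (Or.inr (Or.inr (Or.inr (Or.inr (Or.inr (Or.inr (Or.inr (Or.inr (Or.inr (Or.inr (Or.inr (Or.inl ⟨h2, h3⟩)))))))))))))
  · exact Or.inr (Or.inr (Or.inr (Or.inr (Or.inr (Or.inr (Or.inr (Or.inr (Or.inr (Or.inr (Or.inr (Or.inr (Or.inr (Or.inr (Or.inl ⟨h2, h3⟩))))))))))))))
  · exact Or.inr (Or.inr (Or.inr (Or.inr (Or.inr (Or.inr (Or.inr (Or.inr (Or.inr (Or.inr (Or.inr (Or.inr (Or.inr (Or.inr (Or.inr (Or.inl ⟨h2, h3⟩)))))))))))))))
  · exact Or.inr (Or.inr (Or.inr (Or.inr (Or.inr (Or.inr (Or.inr (Or.inr (Or.inr (Or.inr (Or.inr (Or.inr (Or.inr (Or.inr (Or.inr (Or.inr (Or.inl ⟨h2, h3⟩))))))))))))))))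
  · exact Or.inr (Or.inr (Or.inr (Or.inr (Or.inr (Or.inr (Or.inr (Or.inr (Or.inr (Or.inr (Or.inr (Or.inr (Or.inr (Or.inr (Or.inr (Or.inr (Or.inr (Or.inl ⟨h2, h3⟩)))))))))))))))))
  · exact Or.inr (Or.inr (Or.inr (Or.inr (Or.inr (Or.inr (Or.inr (Or.inr (Or.inr (Or.inr (Or.inr (Or.inr (Or.inr (Or.inr (Or.inr (Or.inr (Or.inr (Or.inr (Or.inl ⟨h2, h3⟩))))))))))))))))))
  · exact Or.inr (Or.inr (Or.inr (Or.inr (Or.inr (Or.inr (Or.inr (Or.inr (Or.inr (Or.inr (Or.inr (Or.inr (Or.inr (Or.inr (Or.inr (Or.inr (Or.inr (Or.inr (Or.inr ⟨h2, h3⟩))))))))))))))))))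

theorem surv_te6_12 : surv [2, 10, 6, 8, 18, 12] 36 12 =
    [(18, 0, 2), (18, 0, 3), (18, 1, 2), (18, 1, 3), (18, 2, 3), (18, 3, 3), (18, 3, 4), (18, 4, 4), (18, 6, 0),
    (18, 7, 0), (18, 11, 0), (18, 12, 0), (18, 13, 0), (18, 14, 0), (18, 15, 0), (12, 0, 2), (12, 0, 3), (12, 0,
    4), (12, 0, 6), (12, 1, 2), (12, 1, 3), (12, 1, 4), (12, 1, 6), (12, 2, 3), (12, 2, 4), (12, 2, 6), (12, 3,
    3), (12, 3, 4), (12, 4, 4), (12, 4, 5), (12, 5, 4), (12, 5, 6), (12, 6, 0), (12, 7, 0), (12, 8, 0), (12, 12,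
    0), (12, 13, 0), (12, 14, 0), (12, 15, 0)] := by
  decide +kernel

/-- class 12 of `te6`, own characteristic -/
theorem charp_te6_12 (hp : p.Prime) (hf : 1 ≤ f) (hg : Cond g) (hch : HasChar p g) (hc : den g * c = num g)
    (hdvd : c ∣ num (.te6 (p ^ f))) (hz : ZT p f 12 c) :
    ∃ f₁, 1 ≤ f₁ ∧ (
      (f₁ * 2 = f * 18 ∧ g = .psl 2 (p ^ f₁)) ∨
      (f₁ * 3 = f * 18 ∧ g = .psl 3 (p ^ f₁)) ∨
      (f₁ * 4 = f * 18 ∧ g = .psp 2 (p ^ f₁)) ∨
      (f₁ * 6 = f * 18 ∧ g = .psp 3 (p ^ f₁)) ∨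
      (f₁ * 6 = f * 18 ∧ g = .oodd 3 (p ^ f₁)) ∨
      (f₁ * 6 = f * 18 ∧ g = .psu 3 (p ^ f₁)) ∨
      (f₁ * 6 = f * 18 ∧ g = .psu 4 (p ^ f₁)) ∨
      (f₁ * 6 = f * 18 ∧ g = .oplus 4 (p ^ f₁)) ∨
      (f₁ * 6 = f * 18 ∧ g = .g2 (p ^ f₁)) ∨
      (f₁ * 12 = f * 18 ∧ g = .f4 (p ^ f₁)) ∨
      (f₁ * 18 = f * 18 ∧ g = .te6 (p ^ f₁)) ∨
      (f₁ * 12 = f * 18 ∧ g = .td4 (p ^ f₁)) ∨
      (f₁ * 4 = f * 18 ∧ g = .sz (p ^ f₁)) ∨
      (f₁ * 6 = f * 18 ∧ g = .ree (p ^ f₁)) ∨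
      (f₁ * 12 = f * 18 ∧ g = .tf4 (p ^ f₁)) ∨
      (f₁ * 2 = f * 12 ∧ g = .psl 2 (p ^ f₁)) ∨
      (f₁ * 3 = f * 12 ∧ g = .psl 3 (p ^ f₁)) ∨
      (f₁ * 4 = f * 12 ∧ g = .psl 4 (p ^ f₁)) ∨
      (f₁ * 6 = f * 12 ∧ g = .psl 6 (p ^ f₁)) ∨
      (f₁ * 4 = f * 12 ∧ g = .psp 2 (p ^ f₁)) ∨
      (f₁ * 6 = f * 12 ∧ g = .psp 3 (p ^ f₁)) ∨
      (f₁ * 8 = f * 12 ∧ g = .psp 4 (p ^ f₁)) ∨
      (f₁ * 12 = f * 12 ∧ g = .psp 6 (p ^ f₁)) ∨
      (f₁ * 6 = f * 12 ∧ g = .oodd 3 (p ^ f₁)) ∨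
      (f₁ * 8 = f * 12 ∧ g = .oodd 4 (p ^ f₁)) ∨
      (f₁ * 12 = f * 12 ∧ g = .oodd 6 (p ^ f₁)) ∨
      (f₁ * 6 = f * 12 ∧ g = .psu 3 (p ^ f₁)) ∨
      (f₁ * 6 = f * 12 ∧ g = .psu 4 (p ^ f₁)) ∨
      (f₁ * 6 = f * 12 ∧ g = .oplus 4 (p ^ f₁)) ∨
      (f₁ * 8 = f * 12 ∧ g = .oplus 5 (p ^ f₁)) ∨
      (f₁ * 8 = f * 12 ∧ g = .ominus 4 (p ^ f₁)) ∨
      (f₁ * 12 = f * 12 ∧ g = .ominus 6 (p ^ f₁)) ∨
      (f₁ * 6 = f * 12 ∧ g = .g2 (p ^ f₁)) ∨
      (f₁ * 12 = f * 12 ∧ g = .f4 (p ^ f₁)) ∨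
      (f₁ * 12 = f * 12 ∧ g = .e6 (p ^ f₁)) ∨
      (f₁ * 12 = f * 12 ∧ g = .td4 (p ^ f₁)) ∨
      (f₁ * 4 = f * 12 ∧ g = .sz (p ^ f₁)) ∨
      (f₁ * 6 = f * 12 ∧ g = .ree (p ^ f₁)) ∨
      (f₁ * 12 = f * 12 ∧ g = .tf4 (p ^ f₁))) := by
  obtain ⟨x, hx, f₁, h1, h2, h3⟩ := engine (XT := [2, 10, 6, 8, 18, 12]) (MT := 18) (aT := 36) (e := 12) hp hf hg hch hc
    (td_te6 hp hf hdvd) (by norm_num) (by norm_num) hz
  rw [surv_te6_12] at hx
  simp only [List.mem_cons, List.not_mem_nil, or_false] at hx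
  refine ⟨f₁, h1, ?_⟩
  rcases hx with rfl | rfl | rfl | rfl | rfl | rfl | rfl | rfl | rfl | rfl | rfl | rfl | rfl | rfl | rfl | rfl | rfl | rfl | rfl | rfl | rfl | rfl | rfl | rfl | rfl | rfl | rfl | rfl | rfl | rfl | rfl | rfl | rfl | rfl | rfl | rfl | rfl | rfl | rfl
  · exact Or.inl ⟨h2, h3⟩
  · exact Or.inr (Or.inl ⟨h2, h3⟩)
  · exact Or.inr (Or.inr (Or.inl ⟨h2, h3⟩))
  · exact Or.inr (Or.inr (Or.inr (Or.inl ⟨h2, h3⟩)))
  · exact Or.inr (Or.inr (Or.inr (Or.inr (Or.inl ⟨h2, h3⟩))))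
  · exact Or.inr (Or.inr (Or.inr (Or.inr (Or.inr (Or.inl ⟨h2, h3⟩)))))
  · exact Or.inr (Or.inr (Or.inr (Or.inr (Or.inr (Or.inr (Or.inl ⟨h2, h3⟩))))))
  · exact Or.inr (Or.inr (Or.inr (Or.inr (Or.inr (Or.inr (Or.inr (Or.inl ⟨h2, h3⟩)))))))
  · exact Or.inr (Or.inr (Or.inr (Or.inr (Or.inr (Or.inr (Or.inr (Or.inr (Or.inl ⟨h2, h3⟩))))))))
  · exact Or.inr (Or.inr (Or.inr (Or.inr (Or.inr (Or.inr (Or.inr (Or.inr (Or.inr (Or.inl ⟨h2, h3⟩)))))))))
  · exact Or.inr (Or.inr (Or.inr (Or.inr (Or.inr (Or.inr (Or.inr (Or.inr (Or.inr (Or.inr (Or.inl ⟨h2, h3⟩))))))))))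
  · exact Or.inr (Or.inr (Or.inr (Or.inr (Or.inr (Or.inr (Or.inr (Or.inr (Or.inr (Or.inr (Or.inr (Or.inl ⟨h2, h3⟩)))))))))))
  · exact Or.inr (Or.inr (Or.inr (Or.inr (Or.inr (Or.inr (Or.inr (Or.inr (Or.inr (Or.inr (Or.inr (Or.inr (Or.inl ⟨h2, h3⟩))))))))))))
  · exact Or.inr (Or.inr (Or.inr (Or.inr (Or.inr (Or.inr (Or.inr (Or.inr (Or.inr (Or.inr (Or.inr (Or.inr (Or.inr (Or.inl ⟨h2, h3⟩)))))))))))))
  · exact Or.inr (Or.inr (Or.inr (Or.inr (Or.inr (Or.inr (Or.inr (Or.inr (Or.inr (Or.inr (Or.inr (Or.inr (Or.inr (Or.inr (Or.inl ⟨h2, h3⟩))))))))))))))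
  · exact Or.inr (Or.inr (Or.inr (Or.inr (Or.inr (Or.inr (Or.inr (Or.inr (Or.inr (Or.inr (Or.inr (Or.inr (Or.inr (Or.inr (Or.inr (Or.inl ⟨h2, h3⟩)))))))))))))))
  · exact Or.inr (Or.inr (Or.inr (Or.inr (Or.inr (Or.inr (Or.inr (Or.inr (Or.inr (Or.inr (Or.inr (Or.inr (Or.inr (Or.inr (Or.inr (Or.inr (Or.inl ⟨h2, h3⟩))))))))))))))))
  · exact Or.inr (Or.inr (Or.inr (Or.inr (Or.inr (Or.inr (Or.inr (Or.inr (Or.inr (Or.inr (Or.inr (Or.inr (Or.inr (Or.inr (Or.inr (Or.inr (Or.inr (Or.inl ⟨h2, h3⟩)))))))))))))))))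
  · exact Or.inr (Or.inr (Or.inr (Or.inr (Or.inr (Or.inr (Or.inr (Or.inr (Or.inr (Or.inr (Or.inr (Or.inr (Or.inr (Or.inr (Or.inr (Or.inr (Or.inr (Or.inr (Or.inl ⟨h2, h3⟩))))))))))))))))))
  · exact Or.inr (Or.inr (Or.inr (Or.inr (Or.inr (Or.inr (Or.inr (Or.inr (Or.inr (Or.inr (Or.inr (Or.inr (Or.inr (Or.inr (Or.inr (Or.inr (Or.inr (Or.inr (Or.inr (Or.inl ⟨h2, h3⟩)))))))))))))))))))
  · exact Or.inr (Or.inr (Or.inr (Or.inr (Or.inr (Or.inr (Or.inr (Or.inr (Or.inr (Or.inr (Or.inr (Or.inr (Or.inr (Or.inr (Or.inr (Or.inr (Or.inr (Or.inr (Or.inr (Or.inr (Or.inl ⟨h2, h3⟩))))))))))))))))))))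
  · exact Or.inr (Or.inr (Or.inr (Or.inr (Or.inr (Or.inr (Or.inr (Or.inr (Or.inr (Or.inr (Or.inr (Or.inr (Or.inr (Or.inr (Or.inr (Or.inr (Or.inr (Or.inr (Or.inr (Or.inr (Or.inr (Or.inl ⟨h2, h3⟩)))))))))))))))))))))
  · exact Or.inr (Or.inr (Or.inr (Or.inr (Or.inr (Or.inr (Or.inr (Or.inr (Or.inr (Or.inr (Or.inr (Or.inr (Or.inr (Or.inr (Or.inr (Or.inr (Or.inr (Or.inr (Or.inr (Or.inr (Or.inr (Or.inr (Or.inl ⟨h2, h3⟩))))))))))))))))))))))
  · exact Or.inr (Or.inr (Or.inr (Or.inr (Or.inr (Or.inr (Or.inr (Or.inr (Or.inr (Or.inr (Or.inr (Or.inr (Or.inr (Or.inr (Or.inr (Or.inr (Or.inr (Or.inr (Or.inr (Or.inr (Or.inr (Or.inr (Or.inr (Or.inl ⟨h2, h3⟩)))))))))))))))))))))))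
  · exact Or.inr (Or.inr (Or.inr (Or.inr (Or.inr (Or.inr (Or.inr (Or.inr (Or.inr (Or.inr (Or.inr (Or.inr (Or.inr (Or.inr (Or.inr (Or.inr (Or.inr (Or.inr (Or.inr (Or.inr (Or.inr (Or.inr (Or.inr (Or.inr (Or.inl ⟨h2, h3⟩))))))))))))))))))))))))
  · exact Or.inr (Or.inr (Or.inr (Or.inr (Or.inr (Or.inr (Or.inr (Or.inr (Or.inr (Or.inr (Or.inr (Or.inr (Or.inr (Or.inr (Or.inr (Or.inr (Or.inr (Or.inr (Or.inr (Or.inr (Or.inr (Or.inr (Or.inr (Or.inr (Or.inr (Or.inl ⟨h2, h3⟩)))))))))))))))))))))))))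
  · exact Or.inr (Or.inr (Or.inr (Or.inr (Or.inr (Or.inr (Or.inr (Or.inr (Or.inr (Or.inr (Or.inr (Or.inr (Or.inr (Or.inr (Or.inr (Or.inr (Or.inr (Or.inr (Or.inr (Or.inr (Or.inr (Or.inr (Or.inr (Or.inr (Or.inr (Or.inr (Or.inl ⟨h2, h3⟩))))))))))))))))))))))))))
  · exact Or.inr (Or.inr (Or.inr (Or.inr (Or.inr (Or.inr (Or.inr (Or.inr (Or.inr (Or.inr (Or.inr (Or.inr (Or.inr (Or.inr (Or.inr (Or.inr (Or.inr (Or.inr (Or.inr (Or.inr (Or.inr (Or.inr (Or.inr (Or.inr (Or.inr (Or.inr (Or.inr (Or.inl ⟨h2, h3⟩)))))))))))))))))))))))))))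
  · exact Or.inr (Or.inr (Or.inr (Or.inr (Or.inr (Or.inr (Or.inr (Or.inr (Or.inr (Or.inr (Or.inr (Or.inr (Or.inr (Or.inr (Or.inr (Or.inr (Or.inr (Or.inr (Or.inr (Or.inr (Or.inr (Or.inr (Or.inr (Or.inr (Or.inr (Or.inr (Or.inr (Or.inr (Or.inl ⟨h2, h3⟩))))))))))))))))))))))))))))
  · exact Or.inr (Or.inr (Or.inr (Or.inr (Or.inr (Or.inr (Or.inr (Or.inr (Or.inr (Or.inr (Or.inr (Or.inr (Or.inr (Or.inr (Or.inr (Or.inr (Or.inr (Or.inr (Or.inr (Or.inr (Or.inr (Or.inr (Or.inr (Or.inr (Or.inr (Or.inr (Or.inr (Or.inr (Or.inr (Or.inl ⟨h2, h3⟩)))))))))))))))))))))))))))))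
  · exact Or.inr (Or.inr (Or.inr (Or.inr (Or.inr (Or.inr (Or.inr (Or.inr (Or.inr (Or.inr (Or.inr (Or.inr (Or.inr (Or.inr (Or.inr (Or.inr (Or.inr (Or.inr (Or.inr (Or.inr (Or.inr (Or.inr (Or.inr (Or.inr (Or.inr (Or.inr (Or.inr (Or.inr (Or.inr (Or.inr (Or.inl ⟨h2, h3⟩))))))))))))))))))))))))))))))
  · exact Or.inr (Or.inr (Or.inr (Or.inr (Or.inr (Or.inr (Or.inr (Or.inr (Or.inr (Or.inr (Or.inr (Or.inr (Or.inr (Or.inr (Or.inr (Or.inr (Or.inr (Or.inr (Or.inr (Or.inr (Or.inr (Or.inr (Or.inr (Or.inr (Or.inr (Or.inr (Or.inr (Or.inr (Or.inr (Or.inr (Or.inr (Or.inl ⟨h2, h3⟩)))))))))))))))))))))))))))))))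
  · exact Or.inr (Or.inr (Or.inr (Or.inr (Or.inr (Or.inr (Or.inr (Or.inr (Or.inr (Or.inr (Or.inr (Or.inr (Or.inr (Or.inr (Or.inr (Or.inr (Or.inr (Or.inr (Or.inr (Or.inr (Or.inr (Or.inr (Or.inr (Or.inr (Or.inr (Or.inr (Or.inr (Or.inr (Or.inr (Or.inr (Or.inr (Or.inr (Or.inl ⟨h2, h3⟩))))))))))))))))))))))))))))))))
  · exact Or.inr (Or.inr (Or.inr (Or.inr (Or.inr (Or.inr (Or.inr (Or.inr (Or.inr (Or.inr (Or.inr (Or.inr (Or.inr (Or.inr (Or.inr (Or.inr (Or.inr (Or.inr (Or.inr (Or.inr (Or.inr (Or.inr (Or.inr (Or.inr (Or.inr (Or.inr (Or.inr (Or.inr (Or.inr (Or.inr (Or.inr (Or.inr (Or.inr (Or.inl ⟨h2, h3⟩)))))))))))))))))))))))))))))))))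
  · exact Or.inr (Or.inr (Or.inr (Or.inr (Or.inr (Or.inr (Or.inr (Or.inr (Or.inr (Or.inr (Or.inr (Or.inr (Or.inr (Or.inr (Or.inr (Or.inr (Or.inr (Or.inr (Or.inr (Or.inr (Or.inr (Or.inr (Or.inr (Or.inr (Or.inr (Or.inr (Or.inr (Or.inr (Or.inr (Or.inr (Or.inr (Or.inr (Or.inr (Or.inr (Or.inl ⟨h2, h3⟩))))))))))))))))))))))))))))))))))
  · exact Or.inr (Or.inr (Or.inr (Or.inr (Or.inr (Or.inr (Or.inr (Or.inr (Or.inr (Or.inr (Or.inr (Or.inr (Or.inr (Or.inr (Or.inr (Or.inr (Or.inr (Or.inr (Or.inr (Or.inr (Or.inr (Or.inr (Or.inr (Or.inr (Or.inr (Or.inr (Or.inr (Or.inr (Or.inr (Or.inr (Or.inr (Or.inr (Or.inr (Or.inr (Or.inr (Or.inl ⟨h2, h3⟩)))))))))))))))))))))))))))))))))))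
  · exact Or.inr (Or.inr (Or.inr (Or.inr (Or.inr (Or.inr (Or.inr (Or.inr (Or.inr (Or.inr (Or.inr (Or.inr (Or.inr (Or.inr (Or.inr (Or.inr (Or.inr (Or.inr (Or.inr (Or.inr (Or.inr (Or.inr (Or.inr (Or.inr (Or.inr (Or.inr (Or.inr (Or.inr (Or.inr (Or.inr (Or.inr (Or.inr (Or.inr (Or.inr (Or.inr (Or.inr (Or.inl ⟨h2, h3⟩))))))))))))))))))))))))))))))))))))
  · exact Or.inr (Or.inr (Or.inr (Or.inr (Or.inr (Or.inr (Or.inr (Or.inr (Or.inr (Or.inr (Or.inr (Or.inr (Or.inr (Or.inr (Or.inr (Or.inr (Or.inr (Or.inr (Or.inr (Or.inr (Or.inr (Or.inr (Or.inr (Or.inr (Or.inr (Or.inr (Or.inr (Or.inr (Or.inr (Or.inr (Or.inr (Or.inr (Or.inr (Or.inr (Or.inr (Or.inr (Or.inr (Or.inl ⟨h2, h3⟩)))))))))))))))))))))))))))))))))))))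
  · exact Or.inr (Or.inr (Or.inr (Or.inr (Or.inr (Or.inr (Or.inr (Or.inr (Or.inr (Or.inr (Or.inr (Or.inr (Or.inr (Or.inr (Or.inr (Or.inr (Or.inr (Or.inr (Or.inr (Or.inr (Or.inr (Or.inr (Or.inr (Or.inr (Or.inr (Or.inr (Or.inr (Or.inr (Or.inr (Or.inr (Or.inr (Or.inr (Or.inr (Or.inr (Or.inr (Or.inr (Or.inr (Or.inr ⟨h2, h3⟩)))))))))))))))))))))))))))))))))))))

theorem surv_f4_12 : surv [2, 6, 8, 12] 24 12 =
    [(12, 0, 2), (12, 0, 3), (12, 1, 2), (12, 1, 3), (12, 2, 3), (12, 3, 3), (12, 3, 4), (12, 4, 4), (12, 6, 0),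
    (12, 7, 0), (12, 12, 0), (12, 13, 0), (12, 14, 0), (12, 15, 0)] := by
  decide +kernel

/-- class 12 of `f4`, own characteristic -/
theorem charp_f4_12 (hp : p.Prime) (hf : 1 ≤ f) (hg : Cond g) (hch : HasChar p g) (hc : den g * c = num g)
    (hdvd : c ∣ num (.f4 (p ^ f))) (hz : ZT p f 12 c) :
    ∃ f₁, 1 ≤ f₁ ∧ (
      (f₁ * 2 = f * 12 ∧ g = .psl 2 (p ^ f₁)) ∨
      (f₁ * 3 = f * 12 ∧ g = .psl 3 (p ^ f₁)) ∨
      (f₁ * 4 = f * 12 ∧ g = .psp 2 (p ^ f₁)) ∨
      (f₁ * 6 = f * 12 ∧ g = .psp 3 (p ^ f₁)) ∨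
      (f₁ * 6 = f * 12 ∧ g = .oodd 3 (p ^ f₁)) ∨
      (f₁ * 6 = f * 12 ∧ g = .psu 3 (p ^ f₁)) ∨
      (f₁ * 6 = f * 12 ∧ g = .psu 4 (p ^ f₁)) ∨
      (f₁ * 6 = f * 12 ∧ g = .oplus 4 (p ^ f₁)) ∨
      (f₁ * 6 = f * 12 ∧ g = .g2 (p ^ f₁)) ∨
      (f₁ * 12 = f * 12 ∧ g = .f4 (p ^ f₁)) ∨
      (f₁ * 12 = f * 12 ∧ g = .td4 (p ^ f₁)) ∨
      (f₁ * 4 = f * 12 ∧ g = .sz (p ^ f₁)) ∨
      (f₁ * 6 = f * 12 ∧ g = .ree (p ^ f₁)) ∨
      (f₁ * 12 = f * 12 ∧ g = .tf4 (p ^ f₁))) := by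
  obtain ⟨x, hx, f₁, h1, h2, h3⟩ := engine (XT := [2, 6, 8, 12]) (MT := 12) (aT := 24) (e := 12) hp hf hg hch hc
    (td_f4 hp hf hdvd) (by norm_num) (by norm_num) hz
  rw [surv_f4_12] at hx
  simp only [List.mem_cons, List.not_mem_nil, or_false] at hx
  refine ⟨f₁, h1, ?_⟩
  rcases hx with rfl | rfl | rfl | rfl | rfl | rfl | rfl | rfl | rfl | rfl | rfl | rfl | rfl | rfl
  · exact Or.inl ⟨h2, h3⟩
  · exact Or.inr (Or.inl ⟨h2, h3⟩)
  · exact Or.inr (Or.inr (Or.inl ⟨h2, h3⟩))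
  · exact Or.inr (Or.inr (Or.inr (Or.inl ⟨h2, h3⟩)))
  · exact Or.inr (Or.inr (Or.inr (Or.inr (Or.inl ⟨h2, h3⟩))))
  · exact Or.inr (Or.inr (Or.inr (Or.inr (Or.inr (Or.inl ⟨h2, h3⟩)))))
  · exact Or.inr (Or.inr (Or.inr (Or.inr (Or.inr (Or.inr (Or.inl ⟨h2, h3⟩))))))
  · exact Or.inr (Or.inr (Or.inr (Or.inr (Or.inr (Or.inr (Or.inr (Or.inl ⟨h2, h3⟩)))))))
  · exact Or.inr (Or.inr (Or.inr (Or.inr (Or.inr (Or.inr (Or.inr (Or.inr (Or.inl ⟨h2, h3⟩))))))))
  · exact Or.inr (Or.inr (Or.inr (Or.inr (Or.inr (Or.inr (Or.inr (Or.inr (Or.inr (Or.inl ⟨h2, h3⟩)))))))))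
  · exact Or.inr (Or.inr (Or.inr (Or.inr (Or.inr (Or.inr (Or.inr (Or.inr (Or.inr (Or.inr (Or.inl ⟨h2, h3⟩))))))))))
  · exact Or.inr (Or.inr (Or.inr (Or.inr (Or.inr (Or.inr (Or.inr (Or.inr (Or.inr (Or.inr (Or.inr (Or.inl ⟨h2, h3⟩)))))))))))
  · exact Or.inr (Or.inr (Or.inr (Or.inr (Or.inr (Or.inr (Or.inr (Or.inr (Or.inr (Or.inr (Or.inr (Or.inr (Or.inl ⟨h2, h3⟩))))))))))))
  · exact Or.inr (Or.inr (Or.inr (Or.inr (Or.inr (Or.inr (Or.inr (Or.inr (Or.inr (Or.inr (Or.inr (Or.inr (Or.inr ⟨h2, h3⟩))))))))))))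


end Cfsg.Agent.H290.Wei

private theorem dce_d0a6f9844069 : _root_.True := by
  try have : _root_.True := by simp only [_root_.Cfsg.Agent.H290.Wei.YC.eq_3]
  try have : _root_.True := by simp only [_root_.Cfsg.Agent.H290.Wei.YC.eq_11]
  try have : _root_.True := by simp only [_root_.Cfsg.Agent.H290.Wei.YC.eq_14]
  try have : _root_.True := by simp only [_root_.Cfsg.Agent.H290.Wei.YC.eq_1]
  try have : _root_.True := by simp only [_root_.Cfsg.Agent.H290.Wei.YC.eq_15]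
  try have : _root_.True := by simp only [_root_.Cfsg.Agent.H290.Wei.YC.eq_13]
  try have : _root_.True := by simp only [_root_.Cfsg.Agent.H290.Wei.YC.eq_16]
  try have : _root_.True := by simp only [_root_.Cfsg.Agent.H290.Wei.YC.eq_6]
  try have : _root_.True := by simp only [_root_.Cfsg.Agent.H290.Wei.YC.eq_12]
  try have : _root_.True := by simp only [_root_.Cfsg.Agent.H290.Wei.YC.eq_2]
  try have : _root_.True := by simp only [_root_.Cfsg.Agent.H290.Wei.YC.eq_4]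
  try have : _root_.True := by simp only [_root_.Cfsg.Agent.H290.Wei.YC.eq_8]
  try have : _root_.True := by simp only [_root_.Cfsg.Agent.H290.Wei.YC.eq_10]
  try have : _root_.True := by simp only [_root_.Cfsg.Agent.H290.Wei.YC.eq_9]
  try have : _root_.True := by simp only [_root_.Cfsg.Agent.H290.Wei.YC.eq_7]
  try have : _root_.True := by simp only [_root_.Cfsg.Agent.H290.Wei.YC.eq_5]
  exact _root_.True.intro
end

-- part: H109/SprJ2
section
prune_inst 0x153025444400020000000582e10020446e00019200630801d1e00c44008eb74280000720cc801d12100aaa0c20300048114400f0421000000a000400011d00a080aa5206b248a00426000f803087180c00000000000000000000000000041004000000000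
set_option linter.all false
open scoped Cfsg.Agent.FastGrp

/-!
# S3938, sporadic rows: `J₂` (helper109, task 5116)

Explicit generation in the model on 100 points. For every `h ≠ 1` of prime order in `HH = J₂.2` there is `x ∈ J₂` with
`⟨x, h x h⁻¹⟩ = J₂`: the involutions of `HH` are conjugate to `a`, `d` or `t`; the elements of order 3, 5, 7 are conjugate
into an explicit Sylow subgroup (27, 25, 7 words), each of whose subgroups of prime order is treated by an explicit `x` and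
words in `x`, `h x h⁻¹` which are the five generators.
-/

set_option autoImplicit false

namespace Cfsg.Agent.H109.SprJ2

open Equiv Cfsg.Agent.SporadicA.PermTab Cfsg.Agent.SporadicA.J2Data Cfsg.Agent.SporadicA.J2Hundred
open Cfsg.Agent.H269.CubeJ2Data Cfsg.Agent.H269.CubeTools Cfsg.Agent.H269.CubeJ2

/-! ### words in the generators -/

/-- product of generators -/
def wp : List ℕ → Perm (Fin 100)
  | [] => 1
  | k :: w => gp k * wp w

/-- its action on numbers -/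
def wn : List ℕ → ℕ → ℕ
  | [], j => j
  | k :: w, j => lk (gt k) (wn w j)

theorem wp_val (w : List ℕ) (i : Fin 100) : (wp w i : ℕ) = wn w i := by
  induction w with
  | nil => rfl
  | cons k w ih =>
    show (gp k (wp w i) : ℕ) = _
    rw [gp_val, ih]
    rfl

theorem wp_append (v w : List ℕ) : wp (v ++ w) = wp v * wp w := by
  induction v with
  | nil => rw [List.nil_append, wp, one_mul]
  | cons k v ih => rw [List.cons_append, wp, wp, ih, mul_assoc]

theorem wp_inv (w : List ℕ) : (wp w)⁻¹ = wp w.reverse := by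
  induction w with
  | nil => rw [wp, inv_one]; rfl
  | cons k w ih =>
    rw [List.reverse_cons, wp_append, wp, mul_inv_rev, ih, gp_inv, wp, wp, mul_one]

theorem wp_mem (w : List ℕ) : wp w ∈ HH := by
  induction w with
  | nil => exact one_mem _
  | cons k w ih => exact mul_mem (gp_mem k) ih

theorem gp_G {k : ℕ} (hk : k < 5) : gp k ∈ G := by
  interval_cases k
  exacts [mA, mB, mC, mD, mE]

theorem wp_G (w : List ℕ) (hw : ∀ k ∈ w, k < 5) : wp w ∈ G := by
  induction w with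
  | nil => exact one_mem _
  | cons k w ih =>
    exact mul_mem (gp_G (hw k List.mem_cons_self)) (ih fun l hl => hw l (List.mem_cons_of_mem _ hl))

/-- powers of a word -/
def rep (w : List ℕ) : ℕ → List ℕ
  | 0 => []
  | k + 1 => w ++ rep w k

theorem wp_rep (w : List ℕ) (k : ℕ) : wp (rep w k) = wp w ^ k := by
  induction k with
  | zero => rw [rep, wp, pow_zero]
  | succ k ih => rw [rep, wp_append, ih, pow_succ']

/-- base images of a word -/
def ev (w : List ℕ) : List ℕ := bpN.map (wn w)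

theorem bi_wp (w : List ℕ) : bi (wp w) = ev w := bi_eq (wp_val w)

theorem wp_eq {v w : List ℕ} (h : ev v = ev w) : wp v = wp w :=
  inj (wp_mem v) (wp_mem w) (by rw [bi_wp, bi_wp, h])

/-! ### the notion -/

/-- no subgroup which is invariant under `h` and contains `x` omits an element of `J₂` -/
def Gd (h : Perm (Fin 100)) : Prop :=
  ∃ x ∈ G, ∀ K : Subgroup (Perm (Fin 100)), x ∈ K → (∀ y ∈ K, h * y * h⁻¹ ∈ K) → G ≤ K

theorem Gd.of_pow {h : Perm (Fin 100)} (k : ℕ) (H : Gd (h ^ k)) : Gd h := by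
  obtain ⟨x, hx, hK⟩ := H
  refine ⟨x, hx, fun K hxK hh => hK K hxK ?_⟩
  clear hK
  intro y hy
  induction k with
  | zero => rw [pow_zero, one_mul, inv_one, mul_one]; exact hy
  | succ k ih =>
    have h1 := hh _ ih
    have h2 : h * (h ^ k * y * (h ^ k)⁻¹) * h⁻¹ = h ^ (k + 1) * y * (h ^ (k + 1))⁻¹ := by
      rw [pow_succ']
      group
    rwa [h2] at h1

theorem Gd.of_conj {h u : Perm (Fin 100)} (hu : u ∈ HH) (H : Gd h) : Gd (u * h * u⁻¹) := by
  obtain ⟨x, hx, hK⟩ := H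
  refine ⟨u * x * u⁻¹, conj_mem_G hu hx, fun K hxK hh => ?_⟩
  have h1 := hK (K.comap (MulAut.conj u).toMonoidHom) hxK (by
    intro y hy
    have h2 := hh _ hy
    change u * (h * y * h⁻¹) * u⁻¹ ∈ K
    change u * h * u⁻¹ * (u * y * u⁻¹) * (u * h * u⁻¹)⁻¹ ∈ K at h2
    have h3 : u * (h * y * h⁻¹) * u⁻¹ = u * h * u⁻¹ * (u * y * u⁻¹) * (u * h * u⁻¹)⁻¹ := by group
    rwa [h3])
  intro y hy
  have h2 : u⁻¹ * y * u ∈ G := by
    have := conj_mem_G (inv_mem hu) hy
    rwa [inv_inv] at this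
  have h3 : u * (u⁻¹ * y * u) * u⁻¹ ∈ K := h1 h2
  have h4 : u * (u⁻¹ * y * u) * u⁻¹ = y := by group
  rwa [h4] at h3

/-! ### certificates -/

/-- the word of `x` and the words of the five generators in `x, h x h⁻¹, x⁻¹, h x⁻¹ h⁻¹` -/
abbrev Crt := List ℕ × List (List ℕ)

/-- the action of a letter -/
def act (wx wh : List ℕ) : ℕ → ℕ → ℕ
  | 0, j => wn wx j
  | 1, j => wn wh (wn wx (wn wh.reverse j))
  | 2, j => wn wx.reverse j
  | _, j => wn wh (wn wx.reverse (wn wh.reverse j))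

/-- the element of a letter -/
def lp (wx wh : List ℕ) : ℕ → Perm (Fin 100)
  | 0 => wp wx
  | 1 => wp wh * wp wx * (wp wh)⁻¹
  | 2 => (wp wx)⁻¹
  | _ => wp wh * (wp wx)⁻¹ * (wp wh)⁻¹

theorem lp_val (wx wh : List ℕ) (l : ℕ) (i : Fin 100) : (lp wx wh l i : ℕ) = act wx wh l i := by
  match l with
  | 0 => exact wp_val wx i
  | 1 =>
    change ((wp wh * wp wx * (wp wh)⁻¹) i : ℕ) = _
    rw [wp_inv, Perm.mul_apply, Perm.mul_apply, wp_val, wp_val, wp_val]
    rfl
  | 2 =>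
    change ((wp wx)⁻¹ i : ℕ) = _
    rw [wp_inv]
    exact wp_val _ i
  | (n + 3) =>
    change ((wp wh * (wp wx)⁻¹ * (wp wh)⁻¹) i : ℕ) = _
    rw [wp_inv, wp_inv, Perm.mul_apply, Perm.mul_apply, wp_val, wp_val, wp_val]
    rfl

theorem lp_mem {wx wh : List ℕ} {K : Subgroup (Perm (Fin 100))} (hx : wp wx ∈ K)
    (hh : ∀ y ∈ K, wp wh * y * (wp wh)⁻¹ ∈ K) (l : ℕ) : lp wx wh l ∈ K := by
  match l with
  | 0 => exact hx
  | 1 => exact hh _ hx
  | 2 => exact inv_mem hx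
  | (n + 3) => exact hh _ (inv_mem hx)

/-- the action of a word in the letters -/
def vn (wx wh : List ℕ) : List ℕ → ℕ → ℕ
  | [], j => j
  | l :: v, j => act wx wh l (vn wx wh v j)

/-- the element of a word in the letters -/
def vp (wx wh : List ℕ) : List ℕ → Perm (Fin 100)
  | [] => 1
  | l :: v => lp wx wh l * vp wx wh v

theorem vp_val (wx wh v : List ℕ) (i : Fin 100) : (vp wx wh v i : ℕ) = vn wx wh v i := by
  induction v with
  | nil => rfl
  | cons l v ih =>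
    change ((lp wx wh l * vp wx wh v) i : ℕ) = _
    rw [Perm.mul_apply, lp_val, ih]
    rfl

theorem vp_mem {wx wh : List ℕ} {K : Subgroup (Perm (Fin 100))} (hx : wp wx ∈ K)
    (hh : ∀ y ∈ K, wp wh * y * (wp wh)⁻¹ ∈ K) (v : List ℕ) : vp wx wh v ∈ K := by
  induction v with
  | nil => exact one_mem _
  | cons l v ih => exact mul_mem (lp_mem hx hh l) ih

/-- the words of a list are the generators `k, k + 1, …` -/
def chkG (wx wh : List ℕ) : ℕ → List (List ℕ) → Bool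
  | _, [] => true
  | k, v :: L => band (eqLB (bpN.map (vn wx wh v)) (bpN.map (lk (gt k)))) (chkG wx wh (k + 1) L)

/-- the certificate `c` is right for the word `wh` -/
def chkC (wh : List ℕ) (c : Crt) : Bool :=
  band (Nat.beq c.2.length 5) (band (c.1.all fun k => Nat.blt k 5) (chkG c.1 wh 0 c.2))

theorem of_chkG {wx wh : List ℕ} {K : Subgroup (Perm (Fin 100))} (hx : wp wx ∈ K)
    (hh : ∀ y ∈ K, wp wh * y * (wp wh)⁻¹ ∈ K) : ∀ (L : List (List ℕ)) (k : ℕ), chkG wx wh k L = true →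
    ∀ i < L.length, gp (k + i) ∈ K
  | [], _, _, i, hi => absurd hi (Nat.not_lt_zero i)
  | v :: L, k, h, i, hi => by
    rw [chkG, band_eq_true, eqLB_iff] at h
    match i with
    | 0 =>
      have h1 : vp wx wh v = gp k := by
        refine inj (vp_mem (wp_mem wx) (fun y hy => mul_mem (mul_mem (wp_mem wh) hy) (inv_mem (wp_mem wh))) v)
          (gp_mem k) ?_
        rw [bi_eq (vp_val wx wh v), bi_eq (gp_val k), h.1]
      rw [Nat.add_zero, ← h1]
      exact vp_mem hx hh v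
    | (j + 1) =>
      have h2 := of_chkG hx hh L (k + 1) h.2 j (Nat.lt_of_succ_lt_succ hi)
      rwa [show k + (j + 1) = k + 1 + j by omega]

theorem gd_of_chk {wh : List ℕ} {c : Crt} (h : chkC wh c = true) : Gd (wp wh) := by
  rw [chkC, band_eq_true, band_eq_true, Nat.beq_eq, List.all_eq_true] at h
  obtain ⟨hl, hc, hg⟩ := h
  refine ⟨wp c.1, wp_G _ fun k hk => Nat.blt_eq.mp (hc k hk), fun K hx hh => ?_⟩
  have h1 := of_chkG hx hh c.2 0 hg
  rw [hl] at h1
  rw [G, Subgroup.closure_le]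
  rintro y (rfl | rfl | rfl | rfl | rfl)
  exacts [h1 0 (by norm_num), h1 1 (by norm_num), h1 2 (by norm_num), h1 3 (by norm_num), h1 4 (by norm_num)]

/-! ### Sylow subgroups -/

section

variable {p : ℕ} [hp : Fact p.Prime] {A T : List (List ℕ)}

theorem exists_syl (hT : A.map ev = T) (hl : ∀ w ∈ A, ∀ k ∈ w, k < 5) (h1 : [] ∈ A)
    (hm : ∀ u ∈ A, ∀ t ∈ T, t.map (wn u) ∈ T) (hi : ∀ u ∈ A, ev u.reverse ∈ T) (hnd : T.Nodup)
    (hc : T.length = p ^ (Nat.card G).factorization p) :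
    ∃ P : Sylow p G, ∀ g ∈ P, ∃ w ∈ A, (g : Perm (Fin 100)) = wp w := by
  have key : ∀ v : List ℕ, ev v ∈ T → ∃ w ∈ A, wp v = wp w := by
    intro v hv
    rw [← hT, List.mem_map] at hv
    obtain ⟨w, hw, e⟩ := hv
    exact ⟨w, hw, wp_eq e.symm⟩
  let S : Subgroup G :=
    { carrier := {g | ∃ w ∈ A, (g : Perm (Fin 100)) = wp w}
      one_mem' := ⟨[], h1, rfl⟩
      mul_mem' := by
        rintro a b ⟨u, hu, ha⟩ ⟨v, hv, hb⟩
        have h2 : ev (u ++ v) = (ev v).map (wn u) := by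
          rw [← bi_wp, ← bi_wp, wp_append]
          unfold bi
          rw [List.map_map]
          exact List.map_congr_left fun b _ => wp_val u (wp v b)
        obtain ⟨w, hw, e⟩ := key (u ++ v) (by
          rw [h2]
          refine hm u hu _ ?_
          rw [← hT]
          exact List.mem_map_of_mem hv)
        exact ⟨w, hw, by rw [Subgroup.coe_mul, ha, hb, ← wp_append, e]⟩
      inv_mem' := by
        rintro a ⟨u, hu, ha⟩
        obtain ⟨w, hw, e⟩ := key u.reverse (hi u hu)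
        exact ⟨w, hw, by rw [Subgroup.coe_inv, ha, wp_inv, e]⟩ }
  have hS : ∀ g : G, g ∈ S ↔ ∃ w ∈ A, (g : Perm (Fin 100)) = wp w := fun g => Iff.rfl
  have hcard : Nat.card S = T.length := by
    have e : S ≃ {t // t ∈ T.toFinset} := by
      refine Equiv.ofBijective (fun g => ⟨bi (g : G), ?_⟩) ⟨?_, ?_⟩
      · obtain ⟨w, hw, e⟩ := g.2
        rw [List.mem_toFinset, e, bi_wp, ← hT]
        exact List.mem_map_of_mem hw
      · intro g g' h
        have h2 : bi (g : G) = bi (g' : G) := congrArg Subtype.val h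
        exact Subtype.ext (Subtype.ext (inj (aut_le (g : G).2) (aut_le (g' : G).2) h2))
      · rintro ⟨t, ht⟩
        rw [List.mem_toFinset, ← hT, List.mem_map] at ht
        obtain ⟨w, hw, e⟩ := ht
        exact ⟨⟨⟨wp w, wp_G w (hl w hw)⟩, w, hw, rfl⟩, Subtype.ext ((bi_wp w).trans e)⟩
    rw [Nat.card_congr e, Nat.card_eq_fintype_card, Fintype.card_coe, List.toFinset_card_of_nodup hnd]
  exact ⟨Sylow.ofCard S (by rw [hcard, hc]), fun g hg => hg⟩

/-- the elements of order `p` are conjugate into the Sylow subgroup -/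
theorem gd_of_syl {R : List (List ℕ × Crt)} (P : Sylow p G) (hP : ∀ g ∈ P, ∃ w ∈ A, (g : Perm (Fin 100)) = wp w)
    (hR : ∀ w ∈ A, ev w = bpN ∨ ∃ k ∈ List.range p, ∃ r ∈ R, ev (rep w k) = ev r.1)
    (hC : ∀ r ∈ R, chkC r.1 r.2 = true) {h : Perm (Fin 100)} (hG : h ∈ G) (h1 : h ≠ 1) (ho : h ^ p = 1) : Gd h := by
  have hord : orderOf (⟨h, hG⟩ : G) = p := by
    rw [Subgroup.orderOf_mk]
    exact orderOf_eq_prime ho h1
  have hpg : IsPGroup p (Subgroup.zpowers (⟨h, hG⟩ : G)) :=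
    IsPGroup.of_card (n := 1) (by rw [Nat.card_zpowers, hord, pow_one])
  obtain ⟨Q, hQ⟩ := hpg.exists_le_sylow
  obtain ⟨u, hu⟩ := MulAction.exists_smul_eq G Q P
  have hmem : u * ⟨h, hG⟩ * u⁻¹ ∈ P := by
    rw [← hu]
    change u * ⟨h, hG⟩ * u⁻¹ ∈ ((u • Q : Sylow p G) : Subgroup G)
    rw [Sylow.coe_subgroup_smul]
    exact ⟨⟨h, hG⟩, hQ (Subgroup.mem_zpowers _), rfl⟩
  obtain ⟨w, hw, e⟩ := hP _ hmem
  have e' : (u : Perm (Fin 100)) * h * (u : Perm (Fin 100))⁻¹ = wp w := e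
  have h2 : Gd (wp w) := by
    rcases hR w hw with h3 | ⟨k, _, r, hr, h3⟩
    · exfalso
      apply h1
      have h4 : wp w = 1 := by
        refine inj (wp_mem w) (one_mem _) ?_
        rw [bi_wp, h3]
        exact bi_one.symm
      rw [← e'] at h4
      have h5 : h = (u : Perm (Fin 100))⁻¹ * (u * h * (u : Perm (Fin 100))⁻¹) * u := by group
      rw [h5, h4]
      group
    · refine Gd.of_pow k ?_
      rw [← wp_rep, wp_eq h3]
      exact gd_of_chk (hC r hr)
  have h3 := Gd.of_conj (inv_mem (aut_le u.2)) h2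
  rw [← e', inv_inv] at h3
  have h5 : h = (u : Perm (Fin 100))⁻¹ * (u * h * (u : Perm (Fin 100))⁻¹) * u := by group
  rwa [← h5] at h3

end

/-! ### data -/

def c0 : Crt := ([1, 3, 2, 4], [[2, 2, 1, 1, 2, 1, 2, 3, 0, 3, 0, 0], [3, 0, 0, 3, 3, 0, 3, 0], [3, 0, 1, 2, 3, 0], [2, 3, 3, 0, 0, 0, 1, 0, 0, 1, 2, 3, 2, 3, 3, 0, 0], [0, 0, 1, 1, 2, 2, 2, 3, 0, 0, 0, 0, 1, 2, 1, 0, 0, 0]])
def c1 : Crt := ([0, 1, 2, 4], [[3, 0, 3, 0, 3, 0], [1, 1, 2, 2, 1, 1, 2, 2], [0, 1, 1, 2, 2, 1, 1, 2, 2, 2], [0, 0, 0, 0, 0, 1, 1, 1, 1, 1, 0, 0, 0, 0, 0], [0, 0, 0, 0, 0]])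
def c2 : Crt := ([0, 1, 3], [[1, 1, 1, 1, 2, 2, 3, 3, 0, 0, 0, 0], [1, 1, 1, 1, 2, 2, 3, 3], [0, 1, 1, 2, 2, 3, 3, 0, 0, 0], [0, 0, 0, 0, 0], [1, 0, 0, 0, 3, 0, 0, 0, 1, 0, 0]])
def A3 : List (List ℕ) := [
  [],
  [2, 3, 1, 0, 1, 2, 3, 0, 1, 2, 0, 1, 0],
  [2, 0, 1, 0, 1, 2, 1],
  [0, 1, 2, 3, 0, 1, 2, 3, 0, 1, 0, 1, 2],
  [3, 0, 1, 2, 3, 1, 2, 1, 0, 1, 0],
  [2, 3, 2, 0, 1, 0, 1, 2, 3, 1, 2],
  [2, 1, 0, 1, 2, 1, 0],
  [1, 2, 3, 2, 3, 1, 0, 1, 2],
  [2, 3, 0, 1, 0, 1, 2, 3, 2, 1, 0],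
  [3, 2, 3, 1, 2, 3, 0, 1, 2, 3, 0],
  [3, 2, 3, 0, 1, 2, 3, 0, 1, 2, 3],
  [0, 1, 2, 3, 2, 3, 1, 0, 1, 2, 0],
  [2, 3, 1, 0, 1, 2, 3, 2, 1],
  [2, 3, 2, 3, 1, 2, 3, 2, 1, 0, 1, 2, 3, 0],
  [2, 3, 2, 1, 0, 1, 2, 3, 1, 2, 0],
  [3, 2, 1, 0, 1, 2, 3, 1, 2, 3, 1, 2, 3],
  [0, 1, 0, 1, 2, 3, 1, 2, 3, 1, 0],
  [3, 1, 2, 3, 1, 2, 1, 0, 1],
  [1, 2, 3, 1, 2, 0, 1, 0, 1, 2, 3, 2],
  [3, 0, 1, 2, 3, 0, 1],
  [1, 0, 1, 2, 3, 1, 2, 3, 1],
  [3, 2, 3, 1, 2, 3, 2, 1, 0, 1, 2, 3, 1],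
  [3, 2, 0, 1, 0, 1, 2, 3, 2, 3, 1, 2, 3, 2],
  [3, 1, 2, 3, 0, 1, 0],
  [2, 3, 2, 1, 0, 1, 2, 3, 0, 1, 2, 1],
  [3, 2, 3, 1, 2, 3, 2, 1, 0, 1, 2, 3, 0, 1, 2, 1, 0, 1, 0],
  [2, 3, 1, 2, 3, 1, 0, 1, 2, 3, 0, 1, 2, 3, 2, 1, 0, 1, 0]]
def T3 : List (List ℕ) := [
  [0, 13, 29, 45, 58, 68, 30, 27, 39, 9, 78],
  [9, 93, 41, 98, 61, 90, 71, 37, 70, 6, 74],
  [1, 15, 28, 75, 54, 73, 48, 79, 80, 7, 25],
  [6, 77, 96, 12, 60, 42, 63, 80, 85, 0, 47],
  [7, 52, 23, 66, 64, 68, 33, 50, 24, 11, 39],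
  [7, 55, 28, 15, 18, 34, 31, 44, 27, 11, 87],
  [5, 19, 81, 72, 60, 90, 76, 40, 74, 2, 26],
  [11, 95, 83, 8, 58, 82, 63, 74, 86, 1, 36],
  [11, 38, 23, 52, 62, 90, 17, 46, 26, 1, 70],
  [2, 57, 91, 65, 62, 73, 31, 20, 22, 3, 80],
  [11, 75, 28, 55, 14, 99, 59, 21, 37, 1, 40],
  [2, 67, 81, 19, 14, 35, 71, 85, 79, 3, 88],
  [2, 16, 89, 53, 58, 42, 33, 25, 47, 3, 69],
  [1, 56, 83, 95, 61, 35, 30, 47, 88, 7, 20],
  [3, 32, 89, 16, 54, 94, 63, 39, 44, 5, 84],
  [1, 66, 23, 38, 10, 42, 76, 22, 69, 7, 85],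
  [3, 43, 91, 57, 61, 68, 17, 87, 78, 5, 24],
  [3, 72, 81, 67, 10, 34, 59, 51, 50, 5, 27],
  [9, 97, 29, 13, 10, 99, 33, 86, 40, 6, 46],
  [9, 12, 96, 92, 54, 82, 31, 26, 36, 6, 21],
  [7, 8, 83, 56, 60, 94, 71, 78, 84, 11, 51],
  [5, 53, 89, 32, 64, 99, 48, 36, 46, 2, 37],
  [5, 65, 91, 43, 18, 82, 30, 70, 21, 2, 86],
  [6, 49, 41, 93, 64, 73, 17, 88, 25, 0, 22],
  [6, 45, 29, 97, 18, 35, 59, 69, 20, 0, 79],
  [0, 92, 96, 77, 62, 34, 76, 84, 87, 9, 50],
  [0, 98, 41, 49, 14, 94, 48, 24, 51, 9, 44]]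
def R3 : List (List ℕ × Crt) := [
  ([2, 0, 1, 0, 1, 2, 1], ([2, 3, 4], [[0, 0, 0, 0, 0, 0], [0, 3, 2, 3, 0, 1, 0, 3, 3, 2, 1, 0], [1, 0, 1, 2, 2, 2, 1, 0, 3, 3, 0, 1, 0, 0], [3, 2, 2, 3, 3, 3, 2, 2, 2, 3, 0, 0, 0, 0, 0], [2, 1, 0, 0, 0, 1, 1, 1, 0, 0, 1, 0, 0]])),
  ([3, 0, 1, 2, 3, 0, 1], ([0, 1, 2, 4], [[2, 1, 0, 1, 2, 1, 1, 2, 1, 0, 1, 0], [2, 1, 2, 1, 2, 2, 1, 2, 1, 0, 0, 0], [1, 2, 1, 2, 2, 1, 2, 1, 0, 0], [3, 0, 3, 3, 2, 3, 0, 1, 1, 0, 0, 0, 0], [0, 0, 0, 0, 0]])),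
  ([1, 2, 3, 2, 3, 1, 0, 1, 2], ([1, 2, 4], [[3, 3, 2, 1, 0, 0, 0, 1, 0, 0, 0], [1, 1, 0, 0, 0, 3, 0, 0, 0, 3, 0], [1, 1, 0, 0, 0, 3, 0, 0, 0, 3, 2], [2, 3, 0, 3, 0, 0, 3, 0, 1, 0, 1, 2, 1, 0], [0, 0, 0]])),
  ([3, 1, 2, 3, 1, 2, 1, 0, 1], ([1, 2, 4], [[3, 3, 0, 1, 0, 0, 0, 1, 0, 0, 0], [1, 1, 0, 0, 0, 3, 0, 0, 0, 3, 0], [1, 1, 0, 0, 0, 3, 0, 0, 0, 3, 2], [3, 0, 3, 0, 0, 3, 2, 1, 0, 1, 2, 1], [0, 0, 0]])),
  ([3, 0, 1, 2, 3, 1, 2, 1, 0, 1, 0], ([2, 4, 3], [[0, 0, 0, 0, 0, 0], [1, 2, 1, 1, 2, 1, 1, 2, 1], [1, 2, 3, 0, 0, 0, 0, 0, 0, 1, 0, 3], [1, 0, 0, 1, 1, 1, 1, 0, 1, 1, 2, 1, 0, 1], [1, 2, 1, 2, 1, 1, 0, 3, 2, 1, 0, 1, 2]])),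
  ([2, 3, 2, 0, 1, 0, 1, 2, 3, 1, 2], ([2, 3, 4], [[0, 0, 0, 0, 0, 0], [3, 2, 3, 0, 1, 0, 3, 3, 2, 1, 0, 0], [3, 0, 1, 2, 3, 2, 1, 0, 3, 2, 1, 1], [1, 0, 0, 3, 2, 2, 2, 2, 1, 0, 0, 0, 1, 2], [3, 2, 2, 3, 3, 3, 2, 2, 2, 3, 0, 0, 0, 0, 0]])),
  ([2, 3, 0, 1, 0, 1, 2, 3, 2, 1, 0], ([2, 4, 3], [[0, 0, 0, 0, 0, 0], [1, 2, 1, 0, 3, 0, 0, 0, 0, 1], [1, 2, 3, 3, 3, 2, 1, 1, 2, 1, 0], [0, 3, 3, 2, 2, 1, 0, 0, 0, 0, 1], [3, 2, 3, 2, 1, 0, 0, 0, 1, 0]])),
  ([3, 2, 3, 1, 2, 3, 0, 1, 2, 3, 0], ([0, 1, 4], [[1, 1, 0, 0, 0, 3, 3, 2, 2, 1], [1, 0, 3, 0, 1, 2, 1, 1, 0, 3, 0, 0, 0, 0], [3, 3, 2, 2, 1, 1, 1, 0, 0, 1, 1, 0], [1, 0, 0, 0, 3, 2, 2, 3, 0, 3, 0, 0, 0, 0, 1], [0, 0, 0, 0, 0]])),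
  ([1, 2, 3, 1, 2, 0, 1, 0, 1, 2, 3, 2], ([0, 1, 4], [[3, 3, 0, 0, 0, 0, 1, 1, 1, 1], [1, 1, 2, 2, 1, 1, 1, 1, 0, 0], [3, 2, 3, 2, 2, 3, 2, 3, 0, 0], [3, 0, 1, 0, 3, 0, 1, 0, 3, 0, 3, 3, 0], [0, 0, 0, 0, 0]])),
  ([2, 3, 1, 0, 1, 2, 3, 0, 1, 2, 0, 1, 0], ([0, 1, 4], [[3, 3, 0, 0, 0, 0, 1, 1, 1, 1], [1, 1, 2, 2, 1, 1, 1, 1, 0, 0], [3, 0, 1, 0, 0, 1, 0, 3, 0, 0], [3, 0, 1, 0, 3, 0, 0, 0, 0], [0, 0, 0, 0, 0]])),
  ([3, 2, 1, 0, 1, 2, 3, 1, 2, 3, 1, 2, 3], ([0, 4, 3], [[0, 0, 0], [0, 3, 0, 0, 0, 1, 2, 1, 1, 1], [1, 2, 1, 1, 1, 0, 3], [1, 2, 1, 0, 3, 0, 1, 1, 1, 0, 3, 0, 1, 1], [1, 0, 3, 0, 1, 0, 0, 0, 3, 3, 0, 1, 0, 0, 1]])),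
  ([2, 3, 2, 3, 1, 2, 3, 2, 1, 0, 1, 2, 3, 0], ([2, 3, 4], [[0, 0, 0, 0, 0, 0], [1, 2, 1, 1, 2, 3, 3, 2, 3, 0, 0, 0], [1, 1, 2, 2, 3, 2, 2, 2, 3, 0, 1, 0], [0, 1, 0, 0, 1, 2, 1, 0, 0, 1, 2, 1, 2], [1, 2, 3, 0, 1, 1, 1, 0, 0, 3, 0, 0]])),
  ([3, 2, 3, 1, 2, 3, 2, 1, 0, 1, 2, 3, 0, 1, 2, 1, 0, 1, 0], ([1, 4, 3, 2], [[0, 0, 3, 3, 3, 0, 0, 0, 3, 3, 3, 0], [2, 1, 0, 1, 1, 1, 0, 0, 3, 0, 0, 1, 0, 0], [2, 1, 2, 3, 0, 0, 1, 0, 1, 0, 3, 0, 1, 0, 0, 0], [0, 1, 0, 1, 1, 2, 2, 2, 2, 3, 3, 0], [1, 0, 1, 1, 2, 2, 2, 2, 3, 3, 0, 0]]))]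
def A5 : List (List ℕ) := [
  [],
  [3, 1, 2, 3, 1, 2, 3, 4, 3, 1, 2, 3, 1, 2, 3, 4, 1, 2, 0],
  [3, 2, 3, 1, 2, 3, 4, 1],
  [4, 3, 1, 2, 3, 1, 2, 3, 1, 2, 0],
  [4, 3, 2, 3, 1, 2, 3, 4, 3, 1, 2, 3, 1, 2, 3, 1],
  [3, 2, 3, 1, 2, 3, 4, 3, 1, 2, 3, 1, 2, 3, 4, 1],
  [3, 2, 3, 1, 2, 3, 4, 1, 2, 0, 1],
  [1, 2, 0],
  [4, 3, 2, 3, 1, 2, 3, 1, 2, 0, 1],
  [4, 3, 1, 2, 3, 1, 2, 3, 4, 3, 1, 2, 3, 1, 2, 3],
  [4, 3, 2, 3, 1, 2, 3, 4, 3, 1, 2, 3, 1, 2, 3, 1, 2, 0, 1],
  [3, 2, 3, 1, 2, 3, 4, 3, 1, 2, 3, 1, 2, 3, 4, 1, 2, 0, 1],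
  [3, 1, 2, 3, 1, 2, 3, 4],
  [0, 1, 2, 1, 0, 1],
  [4, 3, 1, 2, 3, 1, 2, 3],
  [4, 3, 1, 2, 3, 1, 2, 3, 1, 0, 1, 2, 1, 0],
  [4, 3, 2, 3, 1, 2, 3, 4, 3, 2, 3, 1, 2, 3],
  [3, 2, 3, 1, 2, 3, 4, 3, 2, 3, 1, 2, 3, 4],
  [3, 1, 2, 3, 1, 2, 3, 4, 1, 0, 1, 2, 1, 0],
  [1, 0, 1, 2, 1, 0],
  [4, 3, 2, 3, 1, 2, 3, 1],
  [4, 3, 1, 2, 3, 1, 2, 3, 4, 3, 1, 2, 3, 1, 2, 3, 1, 2, 0],
  [3, 1, 2, 3, 1, 2, 3, 4, 1, 2, 0],
  [2, 0, 1],
  [3, 1, 2, 3, 1, 2, 3, 4, 3, 1, 2, 3, 1, 2, 3, 4]]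
def T5 : List (List ℕ) := [
  [0, 13, 29, 45, 58, 68, 30, 27, 39, 9, 78],
  [32, 79, 13, 0, 86, 89, 7, 17, 96, 27, 67],
  [42, 2, 89, 16, 73, 81, 15, 37, 29, 79, 24],
  [19, 37, 79, 32, 51, 2, 49, 39, 9, 17, 59],
  [30, 26, 2, 42, 65, 14, 44, 6, 13, 37, 23],
  [48, 28, 14, 4, 69, 84, 11, 18, 89, 26, 61],
  [85, 6, 37, 19, 25, 26, 16, 96, 27, 39, 69],
  [7, 18, 26, 30, 52, 28, 71, 29, 79, 6, 74],
  [15, 88, 28, 48, 94, 1, 31, 68, 2, 18, 60],
  [75, 80, 1, 21, 66, 17, 70, 3, 14, 88, 51],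
  [45, 29, 6, 85, 97, 18, 42, 9, 17, 96, 94],
  [49, 68, 18, 7, 91, 88, 4, 13, 37, 29, 66],
  [44, 3, 88, 15, 78, 80, 10, 89, 26, 68, 41],
  [11, 8, 80, 75, 92, 39, 43, 81, 28, 3, 25],
  [12, 96, 39, 38, 82, 6, 32, 90, 1, 8, 52],
  [16, 89, 68, 49, 22, 3, 48, 79, 6, 13, 92],
  [71, 81, 3, 44, 67, 8, 21, 2, 18, 89, 82],
  [31, 90, 8, 11, 24, 96, 5, 14, 88, 81, 97],
  [70, 9, 96, 12, 40, 29, 19, 84, 80, 90, 91],
  [4, 14, 81, 71, 59, 90, 75, 26, 68, 2, 40],
  [10, 84, 90, 31, 23, 9, 38, 28, 3, 14, 58],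
  [43, 27, 9, 70, 61, 13, 85, 1, 8, 84, 22],
  [21, 1, 84, 10, 74, 27, 12, 88, 81, 28, 86],
  [5, 17, 27, 43, 60, 79, 45, 80, 90, 1, 73],
  [38, 39, 17, 5, 41, 37, 0, 8, 84, 80, 65]]
def R5 : List (List ℕ × Crt) := [
  ([1, 2, 0], ([1, 3, 4], [[0, 3, 3, 0, 0, 3, 3, 0], [0, 0, 0], [0, 0, 3, 3, 0, 0, 3, 0, 0, 3, 3, 0, 0], [0, 3, 0, 1, 0, 0, 0, 1, 2, 3, 0, 0, 0, 3, 0, 1], [3, 0, 1, 0, 0, 0, 1, 2, 3, 0, 0, 0, 3, 0, 1, 0, 0, 0]])),
  ([3, 2, 3, 1, 2, 3, 4, 1], ([3, 2], [[0, 0, 0, 0], [0, 0, 1, 0, 1, 0, 3, 2, 1, 1, 2, 2], [1, 0, 1, 1, 1, 2, 1, 0, 1, 2, 2, 3], [1, 2, 3, 2, 1, 0, 1, 0, 3, 0, 0, 0, 1], [0, 0, 1, 0, 0, 0, 0, 3, 0, 0, 0, 0, 1, 0, 0]])),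
  ([3, 1, 2, 3, 1, 2, 3, 4], ([3, 2], [[0, 0, 0, 0], [1, 1, 0, 1, 0, 0, 0, 3, 2, 2, 1, 0, 1, 2], [3, 2, 3, 3, 3, 0, 3, 2, 3, 0, 0, 1], [1, 0, 0, 0, 0, 3, 2, 3, 2, 1, 0, 1, 0], [0, 0, 1, 0, 0, 0, 0, 3, 0, 0, 0, 0, 1, 0, 0]])),
  ([4, 3, 1, 2, 3, 1, 2, 3, 1, 2, 0], ([2, 3], [[0, 0, 0, 0], [0, 1, 0, 3, 3, 0, 1, 2, 1, 1], [1, 0, 3, 0, 0, 0, 1, 0, 0, 0], [1, 0, 3, 0, 0, 0, 1, 0, 0, 0, 0], [1, 0, 0, 0, 0, 1, 0, 3, 0, 0, 0]])),
  ([4, 3, 2, 3, 1, 2, 3, 1, 2, 0, 1], ([3, 2], [[0, 0, 0, 0], [0, 1, 0, 0, 0, 0, 3, 2], [1, 0, 3, 0, 0, 0, 1, 0, 0, 0], [1, 0, 3, 0, 0, 0, 1, 0, 0], [1, 0, 0, 0, 0, 1, 0, 3, 0, 0, 0]])),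
  ([4, 3, 1, 2, 3, 1, 2, 3, 1, 0, 1, 2, 1, 0], ([2, 3], [[0, 0, 0, 0], [2, 1, 0, 3, 0, 0, 0, 0, 1, 2, 3, 0], [1, 1, 2, 1, 1, 2, 1, 1], [1, 1, 2, 1, 1, 2, 1, 1, 0], [1, 0, 1, 2, 1, 2, 3, 2, 1, 2, 1, 0, 1]]))]
def A7 : List (List ℕ) := [
  [],
  [2, 3, 4, 1, 2, 3, 1, 2, 3, 4, 1, 0, 1, 2, 3, 2, 1, 0],
  [1, 2, 3, 4, 2, 0, 1, 0, 1, 2, 3, 2, 3, 4, 3, 1, 2, 3, 1, 0, 1],
  [0, 1, 2, 3, 4, 2, 3, 1, 2],
  [2, 3, 4, 1, 2, 3, 2, 1, 0],
  [3, 4, 1, 0, 1, 2, 3, 1, 2, 3, 4, 3, 2, 1, 0, 1, 2, 3, 2, 0, 1],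
  [0, 1, 2, 3, 4, 2, 3, 1, 0, 1, 2, 3, 4, 1, 2, 3, 1, 2]]
def T7 : List (List ℕ) := [
  [0, 13, 29, 45, 58, 68, 30, 27, 39, 9, 78],
  [63, 78, 60, 70, 20, 37, 48, 57, 1, 82, 29],
  [25, 29, 66, 96, 16, 75, 56, 0, 31, 45, 60],
  [44, 60, 40, 77, 17, 71, 35, 63, 92, 70, 66],
  [99, 66, 90, 50, 24, 23, 8, 25, 89, 96, 40],
  [27, 40, 13, 9, 62, 79, 42, 44, 85, 77, 90],
  [57, 90, 78, 82, 49, 14, 64, 99, 65, 50, 13]]
def R7 : List (List ℕ × Crt) := [
  ([0, 1, 2, 3, 4, 2, 3, 1, 2], ([2, 3], [[0, 0, 0, 0], [3, 0, 3, 2, 1, 0, 1, 2, 3, 0, 3, 0], [1, 0, 0, 1, 0, 0, 1, 0, 0, 1, 0, 0, 0, 0], [0, 0, 0, 1, 0, 0, 1, 0, 0, 1, 0, 0, 1], [1, 1, 0, 0, 1, 0, 1, 0, 1, 0, 0, 1, 1]]))]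

/-! ### checks -/

theorem k0 : chkC [0] c0 = true := by decide +kernel
theorem k1 : chkC [3] c1 = true := by decide +kernel
theorem k2 : chkC [5] c2 = true := by decide +kernel

theorem gd_typ (k : ℕ) : Gd (typP k) := by
  match k with
  | 0 =>
    have h := gd_of_chk k0
    rwa [wp, wp, mul_one] at h
  | 1 =>
    have h := gd_of_chk k1
    rwa [wp, wp, mul_one] at h
  | (n + 2) =>
    have h := gd_of_chk k2
    rwa [wp, wp, mul_one] at h

theorem t3 : A3.map ev = T3 := by decide +kernel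
private noncomputable def _root_.Cfsg.Agent.LsF.ff8b74f_0 : {f // @Cfsg.Agent.H269.CubeJ2.gt = f} := ⟨_, by first | (delta Cfsg.Agent.H269.CubeJ2.gt; (try delta Cfsg.Agent.H269.CubeJ2.gt.match_1); (try rewrite [Cfsg.Agent.LsF.instDecEq_eq, Cfsg.Agent.LsF.dite_eq]); exact rfl) | exact rfl⟩
private noncomputable def _root_.Cfsg.Agent.LsF.ff8b74f_1 : {f // @Cfsg.Agent.H109.SprJ2.wn = f} := ⟨_, by first | (delta Cfsg.Agent.H109.SprJ2.wn List.brecOn List.brecOn.go Cfsg.Agent.H109.SprJ2.wn._f; rewrite [Cfsg.Agent.LsF.ff8b74f_0.2]; (try delta Cfsg.Agent.H109.SprJ2.wn.match_1); (try delta List.casesOn); first | dsimp -zeta only | exact rfl) | exact rfl⟩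
theorem m3 : ∀ u ∈ A3, ∀ t ∈ T3, t.map (wn u) ∈ T3 := by (refine of_decide_eq_true ?_; (try (rewrite [Cfsg.Agent.LsF.dMemL_pat, Cfsg.Agent.LsF.ff8b74f_1.2, Cfsg.Agent.LsF.instDecEq_eq, Cfsg.Agent.LsF.map_eq, Cfsg.Agent.LsF.dBAll_eq, Cfsg.Agent.LsF.decide_eq])); decide +kernel)
theorem i3 : ∀ u ∈ A3, ev u.reverse ∈ T3 := by decide +kernel
theorem d3 : T3.Nodup := by decide +kernel
private noncomputable def _root_.Cfsg.Agent.LsF.ff8b74f_2 : {f // @Cfsg.Agent.H109.SprJ2.ev = f} := ⟨_, by first | (delta Cfsg.Agent.H109.SprJ2.ev; rewrite [Cfsg.Agent.LsF.ff8b74f_1.2, Cfsg.Agent.LsF.map_eq]; exact rfl) | exact rfl⟩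
private noncomputable def _root_.Cfsg.Agent.LsF.ff8b74f_3 : {f // @Cfsg.Agent.H109.SprJ2.rep = f} := ⟨_, by first | (delta Cfsg.Agent.H109.SprJ2.rep Nat.brecOn.go Nat.brecOn Cfsg.Agent.H109.SprJ2.rep._f; rewrite [Cfsg.Agent.LsF.lappend_pat]; (try delta Cfsg.Agent.H109.SprJ2.rep.match_1); (try delta Nat.casesOn); first | dsimp -zeta only | exact rfl) | exact rfl⟩
theorem r3 : ∀ w ∈ A3, ev w = bpN ∨ ∃ k ∈ List.range 3, ∃ r ∈ R3, ev (rep w k) = ev r.1 := by (refine of_decide_eq_true ?_; (try (rewrite [Cfsg.Agent.LsF.ff8b74f_2.2, Cfsg.Agent.LsF.ff8b74f_3.2, Cfsg.Agent.LsF.instDecEq_eq, Cfsg.Agent.LsF.range_eq, Cfsg.Agent.LsF.dOr_eq, Cfsg.Agent.LsF.dBAll_eq, Cfsg.Agent.LsF.dBEx_eq, Cfsg.Agent.LsF.dListEq_eq, Cfsg.Agent.LsF.decide_eq])); decide +kernel)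
private noncomputable def _root_.Cfsg.Agent.LsF.ff8b74f_4 : {f // @Cfsg.Agent.H269.CubeJ2.eqLB = f} := ⟨_, by first | (delta Cfsg.Agent.H269.CubeJ2.eqLB List.brecOn List.brecOn.go Cfsg.Agent.H269.CubeJ2.eqLB._f; (try delta Cfsg.Agent.H269.CubeJ2.eqLB.match_1); (try delta Cfsg.Agent.H269.CubeJ2.eqLB._sparseCasesOn_1); (try delta Cfsg.Agent.H269.CubeJ2.eqLB._sparseCasesOn_2); (try delta List.casesOn); first | dsimp -zeta only | exact rfl) | exact rfl⟩
private noncomputable def _root_.Cfsg.Agent.LsF.ff8b74f_5 : {f // @Cfsg.Agent.H109.SprJ2.act = f} := ⟨_, by first | (delta Cfsg.Agent.H109.SprJ2.act; rewrite [Cfsg.Agent.LsF.ff8b74f_1.2, Cfsg.Agent.LsF.reverse_eq]; (try delta Cfsg.Agent.H109.SprJ2.act.match_1); (try rewrite [Cfsg.Agent.LsF.instDecEq_eq, Cfsg.Agent.LsF.dite_eq]); exact rfl) | exact rfl⟩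
private noncomputable def _root_.Cfsg.Agent.LsF.ff8b74f_6 : {f // @Cfsg.Agent.H109.SprJ2.vn = f} := ⟨_, by first | (delta Cfsg.Agent.H109.SprJ2.vn List.brecOn List.brecOn.go Cfsg.Agent.H109.SprJ2.vn._f; rewrite [Cfsg.Agent.LsF.ff8b74f_5.2]; (try delta Cfsg.Agent.H109.SprJ2.wn.match_1); (try delta List.casesOn); first | dsimp -zeta only | exact rfl) | exact rfl⟩
private noncomputable def _root_.Cfsg.Agent.LsF.ff8b74f_7 : {f // @Cfsg.Agent.H109.SprJ2.chkG = f} := ⟨_, by first | (delta Cfsg.Agent.H109.SprJ2.chkG List.brecOn List.brecOn.go Cfsg.Agent.H109.SprJ2.chkG._f; rewrite [Cfsg.Agent.LsF.ff8b74f_4.2, Cfsg.Agent.LsF.ff8b74f_6.2, Cfsg.Agent.LsF.ff8b74f_0.2, Cfsg.Agent.LsF.nadd_pat, Cfsg.Agent.LsF.map_eq]; (try delta Cfsg.Agent.H109.SprJ2.chkG.match_1); (try delta List.casesOn); first | dsimp -zeta only | exact rfl) | exact rfl⟩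
private noncomputable def _root_.Cfsg.Agent.LsF.ff8b74f_8 : {f // @Cfsg.Agent.H109.SprJ2.chkC = f} := ⟨_, by first | (delta Cfsg.Agent.H109.SprJ2.chkC; rewrite [Cfsg.Agent.LsF.ff8b74f_7.2, Cfsg.Agent.LsF.all_eq, Cfsg.Agent.LsF.length_eq]; exact rfl) | exact rfl⟩
theorem q3 : (R3.all fun r => chkC r.1 r.2) = true := by ((try (rewrite [Cfsg.Agent.LsF.ff8b74f_8.2, Cfsg.Agent.LsF.all_eq])); decide +kernel)
theorem t5 : A5.map ev = T5 := by decide +kernel
theorem m5 : ∀ u ∈ A5, ∀ t ∈ T5, t.map (wn u) ∈ T5 := by (refine of_decide_eq_true ?_; (try (rewrite [Cfsg.Agent.LsF.dMemL_pat, Cfsg.Agent.LsF.ff8b74f_1.2, Cfsg.Agent.LsF.instDecEq_eq, Cfsg.Agent.LsF.map_eq, Cfsg.Agent.LsF.dBAll_eq, Cfsg.Agent.LsF.decide_eq])); decide +kernel)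
theorem i5 : ∀ u ∈ A5, ev u.reverse ∈ T5 := by decide +kernel
theorem d5 : T5.Nodup := by decide +kernel
theorem r5 : ∀ w ∈ A5, ev w = bpN ∨ ∃ k ∈ List.range 5, ∃ r ∈ R5, ev (rep w k) = ev r.1 := by (refine of_decide_eq_true ?_; (try (rewrite [Cfsg.Agent.LsF.ff8b74f_2.2, Cfsg.Agent.LsF.ff8b74f_3.2, Cfsg.Agent.LsF.instDecEq_eq, Cfsg.Agent.LsF.range_eq, Cfsg.Agent.LsF.dOr_eq, Cfsg.Agent.LsF.dBAll_eq, Cfsg.Agent.LsF.dBEx_eq, Cfsg.Agent.LsF.dListEq_eq, Cfsg.Agent.LsF.decide_eq])); decide +kernel)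
theorem q5 : (R5.all fun r => chkC r.1 r.2) = true := by ((try (rewrite [Cfsg.Agent.LsF.ff8b74f_8.2, Cfsg.Agent.LsF.all_eq])); decide +kernel)
theorem t7 : A7.map ev = T7 := by decide +kernel
theorem m7 : ∀ u ∈ A7, ∀ t ∈ T7, t.map (wn u) ∈ T7 := by decide +kernel
theorem i7 : ∀ u ∈ A7, ev u.reverse ∈ T7 := by decide +kernel
theorem d7 : T7.Nodup := by decide +kernel
theorem r7 : ∀ w ∈ A7, ev w = bpN ∨ ∃ k ∈ List.range 7, ∃ r ∈ R7, ev (rep w k) = ev r.1 := by decide +kernel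
theorem q7 : (R7.all fun r => chkC r.1 r.2) = true := by decide +kernel

/-! ### conclusion -/

theorem dvd_four {p : ℕ} (hp : p.Prime) (h : p ∣ 604800) : p = 2 ∨ p = 3 ∨ p = 5 ∨ p = 7 := by
  rw [show (604800 : ℕ) = 2 ^ 7 * (3 ^ 3 * (5 ^ 2 * 7)) by norm_num] at h
  rcases (hp.dvd_mul).1 h with h | h
  · exact Or.inl ((Nat.prime_dvd_prime_iff_eq hp Nat.prime_two).1 (hp.dvd_of_dvd_pow h))
  rcases (hp.dvd_mul).1 h with h | h
  · exact Or.inr (Or.inl ((Nat.prime_dvd_prime_iff_eq hp Nat.prime_three).1 (hp.dvd_of_dvd_pow h)))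
  rcases (hp.dvd_mul).1 h with h | h
  · exact Or.inr (Or.inr (Or.inl ((Nat.prime_dvd_prime_iff_eq hp Nat.prime_five).1 (hp.dvd_of_dvd_pow h))))
  · exact Or.inr (Or.inr (Or.inr ((Nat.prime_dvd_prime_iff_eq hp (by norm_num)).1 h)))

theorem factor (p k m : ℕ) (hp : p.Prime) (h : 604800 = p ^ k * m) (hm : ¬ p ∣ m) :
    (Nat.card G).factorization p = k := by
  rw [card_G, h, Nat.factorization_mul (pow_ne_zero _ hp.ne_zero) (by rintro rfl; exact hm (dvd_zero p)),
    Finsupp.add_apply, hp.factorization_pow, Finsupp.single_eq_same, Nat.factorization_eq_zero_of_not_dvd hm, add_zero]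

theorem gd_prime {p : ℕ} (hp : p.Prime) {h : Perm (Fin 100)} (hh : h ∈ HH) (h1 : h ≠ 1) (ho : h ^ p = 1) : Gd h := by
  by_cases h2 : p = 2
  · subst h2
    obtain ⟨k, g, hg, rfl⟩ := inv_HH hh (by rw [← pow_two]; exact ho) h1
    exact Gd.of_conj hg (gd_typ k)
  · have hG : h ∈ G := by
      rw [G_eq]
      refine ⟨hh, ?_⟩
      change Perm.sign h = 1
      have h3 : Perm.sign h ^ p = 1 := by rw [← map_pow, ho, map_one]
      obtain ⟨m, hm⟩ := hp.odd_of_ne_two h2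
      rw [hm, pow_succ, pow_mul, Int.units_sq, one_pow, one_mul] at h3
      exact h3
    have hd : p ∣ 604800 := by
      have h3 : orderOf (⟨h, hG⟩ : G) = p := by
        have : Fact p.Prime := ⟨hp⟩
        rw [Subgroup.orderOf_mk]
        exact orderOf_eq_prime ho h1
      rw [← card_G, ← h3]
      exact orderOf_dvd_natCard _
    rcases dvd_four hp hd with rfl | rfl | rfl | rfl
    · exact absurd rfl h2
    · have : Fact (Nat.Prime 3) := ⟨hp⟩
      obtain ⟨P, hP⟩ := exists_syl (p := 3) t3 (by decide +kernel) (by decide +kernel) m3 i3 d3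
        (by rw [factor 3 3 22400 hp (by norm_num) (by norm_num)]; rfl)
      exact gd_of_syl P hP r3 (fun r hr => (List.all_eq_true.1 q3) r hr) hG h1 ho
    · have : Fact (Nat.Prime 5) := ⟨hp⟩
      obtain ⟨P, hP⟩ := exists_syl (p := 5) t5 (by decide +kernel) (by decide +kernel) m5 i5 d5
        (by rw [factor 5 2 24192 hp (by norm_num) (by norm_num)]; rfl)
      exact gd_of_syl P hP r5 (fun r hr => (List.all_eq_true.1 q5) r hr) hG h1 ho
    · have : Fact (Nat.Prime 7) := ⟨hp⟩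
      obtain ⟨P, hP⟩ := exists_syl (p := 7) t7 (by decide +kernel) (by decide +kernel) m7 i7 d7
        (by rw [factor 7 1 86400 hp (by norm_num) (by norm_num)]; rfl)
      exact gd_of_syl P hP r7 (fun r hr => (List.all_eq_true.1 q7) r hr) hG h1 ho

theorem spr_G : Cfsg.Agent.H424.Spr.Spr G := by
  refine Cfsg.Agent.H609.TH.spr_of_prime fun α hα => ?_
  obtain ⟨h, hh, ha⟩ := aut_G α
  have h1 : h ≠ 1 := by
    rintro rfl
    have h2 : α = 1 := by
      apply MulEquiv.ext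
      intro g
      apply Subtype.ext
      rw [ha]
      simp
    rw [h2, orderOf_one] at hα
    exact absurd hα (by norm_num)
  have hpow : ∀ (n : ℕ) (g : G), (((α ^ n) g : G) : Perm (Fin 100)) = h ^ n * g * (h ^ n)⁻¹ := by
    intro n g
    induction n with
    | zero => rw [pow_zero, pow_zero, one_mul, inv_one, mul_one]; rfl
    | succ n ih =>
      rw [pow_succ' α, MulAut.mul_apply, ha, ih, pow_succ' h]
      group
  have h2 : h ^ orderOf α = 1 := by
    refine cent_triv fun g hg => ?_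
    have h3 := hpow (orderOf α) ⟨g, hg⟩
    rw [pow_orderOf_eq_one, MulAut.one_apply] at h3
    change g = h ^ orderOf α * g * (h ^ orderOf α)⁻¹ at h3
    calc g * h ^ orderOf α = h ^ orderOf α * g * (h ^ orderOf α)⁻¹ * h ^ orderOf α := by rw [← h3]
      _ = h ^ orderOf α * g := by group
  obtain ⟨x, hx, hK⟩ := gd_prime hα hh h1 h2
  refine ⟨⟨x, hx⟩, fun K hxK hinv => ?_⟩
  have h3 := hK (K.map G.subtype) ⟨⟨x, hx⟩, hxK, rfl⟩ (by
    rintro _ ⟨y, hy, rfl⟩
    exact ⟨α y, hinv y hy, ha y⟩)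
  rw [eq_top_iff]
  rintro ⟨y, hy⟩ _
  obtain ⟨z, hz, hzy⟩ := h3 hy
  have h4 : z = ⟨y, hy⟩ := Subtype.ext hzy
  rwa [← h4]

set_option linter.unusedVariables false in
/-- **S3938, row `J₂`.** -/
theorem spr_j2 (known : Cfsg.Agent.H257.El.Known.{0}) {T : Type} [Group T] [Finite T] (h : Cfsg.Spor.IsoJ2 T) :
    Cfsg.Agent.H424.Spr.Spr T := by
  obtain ⟨e⟩ := h
  obtain ⟨f⟩ := Cfsg.Agent.J2.HundredGens.J2_iso Cfsg.Agent.S1619.result.2.2.2
  exact Cfsg.Agent.H424.Spr.Spr.congr (e.trans f).symm spr_G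


end Cfsg.Agent.H109.SprJ2

private theorem dce_63e868a9f237 : _root_.True := by
  try have : _root_.True := by simp only [_root_.Cfsg.Agent.H109.SprJ2.rep.eq_2]
  try have : _root_.True := by simp only [_root_.Cfsg.Agent.H109.SprJ2.rep.eq_def]
  try have : _root_.True := by simp only [_root_.Cfsg.Agent.H109.SprJ2.chkG.eq_1]
  try have : _root_.True := by simp only [_root_.Cfsg.Agent.H109.SprJ2.chkC.eq_1]
  try have : _root_.True := by simp only [_root_.Cfsg.Agent.H109.SprJ2.chkG.eq_def]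
  try have : _root_.True := by simp only [_root_.Cfsg.Agent.H109.SprJ2.rep.eq_1]
  try have : _root_.True := by simp only [_root_.Cfsg.Agent.H109.SprJ2.wp.eq_def]
  try have : _root_.True := by simp only [_root_.Cfsg.Agent.H109.SprJ2.chkG.eq_2]
  try have : _root_.True := by simp only [_root_.Cfsg.Agent.H109.SprJ2.wp.eq_2]
  try have : _root_.True := by simp only [_root_.Cfsg.Agent.H109.SprJ2.wp.eq_1]
  exact _root_.True.intro
end

-- part: H62/Oe/Final
section
prune_inst 0x4001000000100000000000010c0000040020000000000000000a0014200800c0000020020a80001020000000c00300048104400000000000000000000011c008000000000a0080000020000000000000000000000000000000000000000000000000000000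
set_option linter.all false
open scoped Cfsg.Agent.FastGrp

-- part: H62/Oe/Basic
section
/-!
# S3938, `Ω⁺₈(3)`: root elements, the pair lemma (helper62)
-/

set_option autoImplicit false
set_option linter.unusedSectionVars false
set_option linter.style.haveILetI false

namespace Cfsg.Agent.H62.Oe

open Module QuadraticMap Cfsg.Agent.LieClassical.OrthCore Cfsg.Agent.LieClassical.OrthTrans
  Cfsg.Agent.ClassicalGeometry.OrthAut1 Cfsg.Agent.ClassicalGeometry.OrthAut2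
  Cfsg.Agent.LieClassical.QuadForms Cfsg.Agent.ClassicalGeometry.TrialityOct
  Cfsg.Agent.ClassicalGeometry.Triality Cfsg.Agent.ClassicalGeometry.OrthSemi Cfsg.Agent.H198.TriAut
  Cfsg.Agent.H465.OEight

/-- good generation -/
def Gd {G : Type*} [Group G] (α : MulAut G) : Prop :=
  ∃ x : G, ∀ K : Subgroup G, x ∈ K → (∀ k ∈ K, α k ∈ K) → K = ⊤

theorem Gd.of_conj {G : Type*} [Group G] {α : MulAut G} (β : MulAut G) (h : Gd (β⁻¹ * α * β)) : Gd α := by
  obtain ⟨x, hx⟩ := h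
  refine ⟨β x, fun K h1 h2 => ?_⟩
  have h3 := hx (K.comap β.toMonoidHom) h1 (fun k hk => by
    show β ((β⁻¹ * α * β) k) ∈ K
    have e : β ((β⁻¹ * α * β) k) = α (β k) := by
      rw [MulAut.mul_apply, MulAut.mul_apply]
      exact β.apply_symm_apply _
    rw [e]
    exact h2 _ hk)
  rw [eq_top_iff]
  intro y _
  have h4 : β.symm y ∈ K.comap β.toMonoidHom := by rw [h3]; trivial
  have h5 : β (β.symm y) ∈ K := h4
  rwa [MulEquiv.apply_symm_apply] at h5

theorem pow_mem_of {G : Type*} [Group G] {α : MulAut G} {K : Subgroup G} (h : ∀ k ∈ K, α k ∈ K) (n : ℕ) :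
    ∀ k ∈ K, (α ^ n) k ∈ K := by
  induction n with
  | zero => intro k hk; exact hk
  | succ n ih =>
    intro k hk
    rw [pow_succ, MulAut.mul_apply]
    exact ih _ (h k hk)

theorem Gd.of_pow {G : Type*} [Group G] {α : MulAut G} {n : ℕ} (h : Gd (α ^ n)) : Gd α := by
  obtain ⟨x, hx⟩ := h
  exact ⟨x, fun K h1 h2 => hx K h1 (pow_mem_of h2 n)⟩

theorem Gd.of_inv {G : Type*} [Group G] [Finite G] {α : MulAut G} (h : Gd α⁻¹) : Gd α := by
  haveI : Finite (MulAut G) := Finite.of_injective (fun a : MulAut G => (a : G → G)) DFunLike.coe_injective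
  have h1 : α⁻¹ = α ^ (orderOf α - 1) := by
    rw [inv_eq_iff_mul_eq_one, ← pow_succ', Nat.sub_add_cancel (orderOf_pos α), pow_orderOf_eq_one]
  rw [h1] at h
  exact h.of_pow

/-- the field -/
abbrev R := ZMod 3
/-- the space -/
abbrev V := V8 R
/-- the form -/
abbrev Q : QuadraticForm R V := plusForm 4 R
/-- the group -/
abbrev PP := P8 R

theorem hG : Good Q := AutOrth.Main.good_plus (by norm_num)

theorem z3 (a : R) : a = 0 ∨ a = 1 ∨ a = -1 := by revert a; decide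

theorem z3' {a : R} (h : a ≠ 0) : a = 1 ∨ a = -1 := (z3 a).resolve_left h

open Classical in
/-- root elements -/
noncomputable def rt (u w : V) : PP :=
  if h : Q u = 0 ∧ polar Q u w = 0 then ((sg u w h.1 h.2 : ↥(E Q)) : PP) else 1

theorem rt_eq {u w : V} (hu : Q u = 0) (hw : polar Q u w = 0) : rt u w = ((sg u w hu hw : ↥(E Q)) : PP) :=
  dif_pos ⟨hu, hw⟩

theorem sim_polar {b : V ≃ₗ[R] V} {c : R} (hc : ∀ v, Q (b v) = c * Q v) (u w : V) :
    polar Q (b u) (b w) = c * polar Q u w := by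
  unfold polar
  rw [← map_add, hc, hc, hc]
  ring

theorem psi_rt (b : SG R) {c : R} (hc0 : c ≠ 0) (hc : ∀ v, Q (b.1 v) = c * Q v) {u w : V} (hu : Q u = 0)
    (hw : polar Q u w = 0) : psi b (rt u w) = rt (b.1 u) (c⁻¹ • b.1 w) := by
  have hu' : Q (b.1 u) = 0 := by rw [hc, hu, mul_zero]
  have hw' : polar Q (b.1 u) (c⁻¹ • b.1 w) = 0 := by rw [polar_smul_right, sim_polar hc, hw, mul_zero, smul_zero]
  simp only [rt_eq hu hw, rt_eq hu' hw', psi_mk]
  congr 1
  apply Subtype.ext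
  ext1 v
  obtain ⟨v, rfl⟩ := b.1.surjective v
  have h1 : (b.1 * ((sg u w hu hw : ↥(E Q)) : V ≃ₗ[R] V) * b.1⁻¹) (b.1 v) =
      b.1 (((sg u w hu hw : ↥(E Q)) : V ≃ₗ[R] V) v) := by
    show b.1 (((sg u w hu hw : ↥(E Q)) : V ≃ₗ[R] V) (b.1.symm (b.1 v))) = _
    rw [LinearEquiv.symm_apply_apply]
  show (b.1 * ((sg u w hu hw : ↥(E Q)) : V ≃ₗ[R] V) * b.1⁻¹) (b.1 v) = _
  rw [h1, sg_apply, sg_apply, polar_smul_left, sim_polar hc, sim_polar hc, QuadraticMap.map_smul, hc]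
  simp only [map_add, map_sub, map_smul, smul_eq_mul, smul_smul]
  have e1 : c * polar Q u v * c⁻¹ = polar Q u v := by field_simp
  have e2 : c⁻¹ * (c * polar Q w v) = polar Q w v := by field_simp
  have e3 : c⁻¹ * c⁻¹ * (c * Q w) * (c * polar Q u v) = Q w * polar Q u v := by field_simp
  rw [e1, e2, e3]

theorem psi_rt_one (b : SG R) (hc : ∀ v, Q (b.1 v) = Q v) {u w : V} (hu : Q u = 0)
    (hw : polar Q u w = 0) : psi b (rt u w) = rt (b.1 u) (b.1 w) := by
  have := psi_rt b one_ne_zero (fun v => by rw [hc, one_mul]) hu hw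
  (simp only [inv_one, one_smul] at this; assumption)

theorem rt_inv {u w : V} (hu : Q u = 0) (hw : polar Q u w = 0) : rt u (-w) = (rt u w)⁻¹ := by
  have hw' : polar Q u (-w) = 0 := by rw [polar_neg_right, hw, neg_zero]
  have h0 : polar Q u (-w + w) = 0 := by rw [neg_add_cancel, polar_zero_right]
  rw [eq_inv_iff_mul_eq_one, rt_eq hu hw, rt_eq hu hw', ← QuotientGroup.mk_mul, sg_mul hu hw' hw h0]
  rw [QuotientGroup.eq_one_iff]
  have h1 : (sg u (-w + w) hu h0 : ↥(E Q)) = 1 := by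
    apply Subtype.ext
    ext1 v
    rw [sg_apply, neg_add_cancel]
    simp only [_root_.smul_zero, _root_.add_zero, _root_.QuadraticMap.polar_zero_left, _root_.zero_smul, _root_.sub_zero, _root_.map_zero, _root_.MulZeroClass.zero_mul, _root_.OneMemClass.coe_one, _root_.LinearEquiv.coe_one, _root_.id_eq]
  rw [h1]
  exact one_mem _

theorem rt_add {u w : V} (hu : Q u = 0) (hw : polar Q u w = 0) (c : R) : rt u (w + c • u) = rt u w := by
  have hcu : polar Q u (c • u) = 0 := by rw [polar_smul_right, polar_self_of_sing hu, smul_zero]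
  have h1 : polar Q u (w + c • u) = 0 := by rw [polar_add_right, hw, hcu, add_zero]
  rw [rt_eq hu hw, rt_eq hu h1]
  (with_reducible congr 1)
  apply Subtype.ext
  ext1 v
  rw [sg_apply, sg_apply, Q_add, QuadraticMap.map_smul, hu, polar_add_left, polar_smul_left, polar_smul_right,
    polar_comm Q w u, hw]
  simp only [smul_eq_mul, mul_zero, add_zero]
  module

/-- root elements alternate -/
theorem rt_alt {u w : V} (hu : Q u = 0) (hw : Q w = 0) (huw : polar Q u w = 0) (a b c d : R) :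
    rt (a • u + b • w) (c • u + d • w) = rt u ((a * d - b * c) • w) := by
  have hwu : polar Q w u = 0 := by rw [polar_comm]; exact huw
  have huu := polar_self_of_sing hu
  have hww := polar_self_of_sing hw
  have h1 : Q (a • u + b • w) = 0 := by
    rw [Q_add, QuadraticMap.map_smul, QuadraticMap.map_smul, hu, hw, polar_smul_left, polar_smul_right, huw]
    simp
  have h2 : polar Q (a • u + b • w) (c • u + d • w) = 0 := by
    rw [polar_add_left, polar_add_right, polar_add_right, polar_smul_left, polar_smul_left, polar_smul_left,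
      polar_smul_left, polar_smul_right, polar_smul_right, polar_smul_right, polar_smul_right, huw, hwu, huu, hww]
    simp
  have h3 : polar Q u ((a * d - b * c) • w) = 0 := by rw [polar_smul_right, huw, smul_zero]
  rw [rt_eq h1 h2, rt_eq hu h3]
  (with_reducible congr 1)
  apply Subtype.ext
  ext1 v
  have h4 : Q (c • u + d • w) = 0 := by
    rw [Q_add, QuadraticMap.map_smul, QuadraticMap.map_smul, hu, hw, polar_smul_left, polar_smul_right, huw]
    simp
  rw [sg_apply, sg_apply, h4, QuadraticMap.map_smul, hw]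
  simp only [polar_add_left, polar_smul_left, smul_eq_mul, mul_zero, zero_mul, zero_smul, sub_zero]
  module

/-- the standard vectors -/
def e (i : Fin 4) : V := Pi.single (.inl i) 1
/-- the standard vectors -/
def f (i : Fin 4) : V := Pi.single (.inr i) 1

end Cfsg.Agent.H62.Oe
end

-- part: H62/Oe/Pair
section
/-!
# S3938, `Ω⁺₈(3)`: the pair lemma (helper62)
-/

set_option autoImplicit false
set_option linter.unusedSectionVars false
set_option linter.style.haveILetI false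

namespace Cfsg.Agent.H62.Oe

open Module QuadraticMap Cfsg.Agent.LieClassical.OrthCore Cfsg.Agent.LieClassical.OrthTrans
  Cfsg.Agent.ClassicalGeometry.OrthAut1 Cfsg.Agent.ClassicalGeometry.OrthAut2
  Cfsg.Agent.LieClassical.QuadForms Cfsg.Agent.ClassicalGeometry.TrialityOct
  Cfsg.Agent.ClassicalGeometry.Triality Cfsg.Agent.ClassicalGeometry.OrthSemi Cfsg.Agent.H198.TriAut
  Cfsg.Agent.H465.OEight

/-- the three generation certificates -/
structure Cert (ρ : SG R) : Prop where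
  opp : ∃ x : PP, rt (e 0) (e 1) ∈ Subgroup.zpowers x ∧ ∀ K : Subgroup PP, x ∈ K → rt (f 0) (f 1) ∈ K → K = ⊤
  spe : ∃ x : PP, rt (e 0) (e 1) ∈ Subgroup.zpowers x ∧ ∀ K : Subgroup PP, x ∈ K → rt (f 0) (e 2) ∈ K → K = ⊤
  refl : ∃ x : PP, ∀ K : Subgroup PP, x ∈ K → psi ρ x ∈ K → K = ⊤

theorem polar_ee (i j : Fin 4) : polar Q (e i) (e j) = 0 := by
  rw [polar8]; simp only [e, _root_.Fin.isValue, _root_.ne_eq, _root_.reduceCtorEq, _root_.not_false_eq_true, _root_.Pi.single_eq_of_ne, _root_.MulZeroClass.mul_zero, _root_.add_zero]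

theorem polar_ff (i j : Fin 4) : polar Q (f i) (f j) = 0 := by
  rw [polar8]; simp only [f, _root_.Fin.isValue, _root_.ne_eq, _root_.reduceCtorEq, _root_.not_false_eq_true, _root_.Pi.single_eq_of_ne, _root_.MulZeroClass.zero_mul, _root_.add_zero]

theorem polar_ef (i j : Fin 4) : polar Q (e i) (f j) = if i = j then 1 else 0 := by
  rw [polar8]; (revert i j; simp only [e, f, _root_.Fin.forall_fin_succ, Fin.isValue, _root_.ne_eq, reduceCtorEq, _root_.not_false_eq_true, _root_.Pi.single_eq_of_ne, _root_.MulZeroClass.mul_zero, _root_.add_zero, _root_.Pi.single_eq_same, _root_.mul_one, _root_.Sum.inr.injEq, _root_.one_ne_zero, Fin.reduceEq, _root_.Fin.succ_ne_zero, _root_.Pi.single_eq_of_ne', _root_.zero_add, _root_.Fin.succ_zero_eq_one, _root_.Fin.succ_one_eq_two, Fin.reduceSucc, _root_.IsEmpty.forall_iff, _root_.and_true, ↓reduceIte, _root_.Sum.inl.injEq, _root_.zero_ne_one, _root_.and_self, _root_.true_and])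

theorem polar_fe (i j : Fin 4) : polar Q (f i) (e j) = if i = j then 1 else 0 := by
  rw [polar_comm, polar_ef]
  simp only [eq_comm]

theorem Q_e (i : Fin 4) : Q (e i) = 0 := by
  rw [norm8]; simp [e]

theorem Q_f (i : Fin 4) : Q (f i) = 0 := by
  rw [norm8]; simp [f]

theorem nondeg_bilin : (polarBilin Q).Nondegenerate := by
  refine ⟨fun x hx => polar_plusForm_nondeg 4 x fun v => ?_, fun x hx => polar_plusForm_nondeg 4 x fun v => ?_⟩
  · exact hx v
  · rw [polar_comm]; exact hx v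

/-- Witt's lemma -/
theorem witt {k : ℕ} {x y : Fin k → V} (hx : LinearIndependent R x) (hy : LinearIndependent R y)
    (hQ : ∀ i, Q (x i) = Q (y i)) (hB : ∀ i j, polar Q (x i) (x j) = polar Q (y i) (y j)) :
    ∃ g : SG R, (∀ v, Q (g.1 v) = Q v) ∧ ∀ i, g.1 (x i) = y i := by
  obtain ⟨g, hg, hxy⟩ := ClassicalGeometry.WittQuad.extend_family Q nondeg_bilin k x y hx hy hQ hB
  exact ⟨⟨g, ⟨1, one_ne_zero, fun v => by rw [one_mul]; exact hg v⟩⟩, hg, hxy⟩

theorem li_of {k : ℕ} {x : Fin k → V} (h : ∀ g : Fin k → R, ∑ i, g i • x i = 0 → ∀ i, g i = 0) :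
    LinearIndependent R x := Fintype.linearIndependent_iff.2 h

theorem Gd.of_psi {α : MulAut PP} (g : SG R) {x r : PP} (h1 : ∀ K : Subgroup PP, x ∈ K → r ∈ K → K = ⊤)
    {s : PP} (hs : s ∈ Subgroup.zpowers x) (h : psi g r ∈ Subgroup.zpowers (α (psi g s))) : Gd α := by
  refine ⟨psi g x, fun K hx hK => ?_⟩
  have h2 : psi g s ∈ K := by
    obtain ⟨n, rfl⟩ := hs
    simp only [map_zpow]
    exact K.zpow_mem hx n
  have h3 : psi g r ∈ K := (Subgroup.zpowers_le.2 (hK _ h2)) h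
  have h4 := h1 (K.comap (psi g).toMonoidHom) hx h3
  rw [eq_top_iff]
  intro y _
  have h5 : (psi g).symm y ∈ K.comap (psi g).toMonoidHom := by rw [h4]; trivial
  have h6 : psi g ((psi g).symm y) ∈ K := h5
  rwa [MulEquiv.apply_symm_apply] at h6

theorem rt_smul_mem {u w : V} (hu : Q u = 0) (hw : polar Q u w = 0) {d : R} (hd : d ≠ 0) :
    rt u (d • w) ∈ Subgroup.zpowers (rt u w) := by
  rcases z3' hd with rfl | rfl
  · rw [one_smul]; exact Subgroup.mem_zpowers _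
  · rw [neg_one_smul, rt_inv hu hw]; exact inv_mem (Subgroup.mem_zpowers _)

variable {ρ : SG R} (C : Cert ρ)

include C

/-- **the pair lemma**, normalised -/
theorem pair_norm {α : MulAut PP} {u u' r s : V} (hu : Q u = 0) (hu' : Q u' = 0) (huu : polar Q u u' = 1)
    (hr : Q r = 0) (hs : Q s = 0) (hur : polar Q u r = 0) (hu'r : polar Q u' r = 0) (hus : polar Q u s = 0)
    (hu's : polar Q u' s = 0) (hr0 : r ≠ 0) (hs0 : s ≠ 0)
    (h : rt u' s ∈ Subgroup.zpowers (α (rt u r))) : Gd α ∨ s = r ∨ s = -r := by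
  have hu'u : polar Q u' u = 1 := by rw [polar_comm]; exact huu
  have huu0 := polar_self_of_sing hu
  have hu'u'0 := polar_self_of_sing hu'
  have hrr := polar_self_of_sing hr
  have hss := polar_self_of_sing hs
  have hru : polar Q r u = 0 := by rw [polar_comm]; exact hur
  have hru' : polar Q r u' = 0 := by rw [polar_comm]; exact hu'r
  have hsu : polar Q s u = 0 := by rw [polar_comm]; exact hus
  have hsu' : polar Q s u' = 0 := by rw [polar_comm]; exact hu's
  by_cases hd : polar Q r s = 0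
  · by_cases hli : ∃ c : R, s = c • r
    · obtain ⟨c, rfl⟩ := hli
      right
      have hc : c ≠ 0 := by rintro rfl; exact hs0 (zero_smul _ _)
      rcases z3' hc with rfl | rfl
      · left; exact one_smul _ _
      · right; exact neg_one_smul _ _
    left
    obtain ⟨x, hx, hK⟩ := C.spe
    have hsr : polar Q s r = 0 := by rw [polar_comm]; exact hd
    obtain ⟨g, hg, hxy⟩ := witt (x := ![e 0, e 1, f 0, e 2]) (y := ![u, r, u', s]) (li_of fun g hg => by
        simp only [Fin.sum_univ_four, Matrix.cons_val] at hg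
        have h0 := congrFun hg (.inl 0)
        have h1 := congrFun hg (.inl 1)
        have h2 := congrFun hg (.inr 0)
        have h3 := congrFun hg (.inl 2)
        simp [e, f] at h0 h1 h2 h3
        intro i
        fin_cases i <;> assumption) (li_of fun g hg => by
        simp only [Fin.sum_univ_four, Matrix.cons_val] at hg
        have h0 := congrArg (polar Q u') hg
        have h2 := congrArg (polar Q u) hg
        simp only [polar_add_right, polar_smul_right, polar_zero_right, hu'u, hu'r, hu'u'0, hu's, huu, huu0, hur, hus,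
          smul_eq_mul, mul_zero, mul_one, add_zero, zero_add] at h0 h2
        rw [h0, h2, zero_smul, zero_smul, zero_add, add_zero] at hg
        have h3 : g 3 = 0 := by
          by_contra h3
          apply hli
          refine ⟨-((g 3)⁻¹ * g 1), ?_⟩
          have h4 : g 3 • s = -(g 1 • r) := by rw [eq_neg_iff_add_eq_zero, add_comm]; exact hg
          have h5 := congrArg (fun v => (g 3)⁻¹ • v) h4
          simp only [smul_smul, inv_mul_cancel₀ h3, one_smul, smul_neg] at h5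
          rw [h5, neg_smul]
        rw [h3, zero_smul, add_zero] at hg
        have h1 : g 1 = 0 := (smul_eq_zero.1 hg).resolve_right hr0
        intro i
        fin_cases i <;> assumption) (by
        intro i
        fin_cases i <;> simp only [Matrix.cons_val, Fin.zero_eta, Fin.mk_one, Fin.reduceFinMk, Fin.isValue, Q_e, Q_f,
          hu, hu', hr, hs]) (by
        intro i j
        fin_cases i <;> fin_cases j <;> simp only [Matrix.cons_val, Fin.zero_eta, Fin.mk_one, Fin.reduceFinMk,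
          Fin.isValue, polar_ee, polar_ff, polar_ef, polar_fe, huu0, huu, hur, hus, hu'u'0, hu'u, hu'r, hu's, hrr, hss,
          hru, hru', hsu, hsu', hd, hsr] <;> rfl)
    have h0 : g.1 (e 0) = u := hxy 0
    have h1 : g.1 (e 1) = r := hxy 1
    have h2 : g.1 (f 0) = u' := hxy 2
    have h3 : g.1 (e 2) = s := hxy 3
    refine Gd.of_psi g hK hx ?_
    rw [psi_rt_one g hg (Q_e 0) (polar_ee 0 1), psi_rt_one g hg (Q_f 0) (by rw [polar_fe]; rfl), h0, h1, h2, h3]
    exact h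
  · left
    obtain ⟨x, hx, hK⟩ := C.opp
    set! d := polar Q r s with hd'; rewrite [← hd'] at hd
    have hsr : polar Q s r = d := by rw [polar_comm]
    have hdd : d⁻¹ * d = 1 := inv_mul_cancel₀ hd
    obtain ⟨g, hg, hxy⟩ := witt (x := ![e 0, e 1, f 0, f 1]) (y := ![u, r, u', d⁻¹ • s]) (li_of fun g hg => by
        simp only [Fin.sum_univ_four, Matrix.cons_val] at hg
        have h0 := congrFun hg (.inl 0)
        have h1 := congrFun hg (.inl 1)
        have h2 := congrFun hg (.inr 0)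
        have h3 := congrFun hg (.inr 1)
        simp [e, f] at h0 h1 h2 h3
        intro i
        fin_cases i <;> assumption) (li_of fun g hg => by
        simp only [Fin.sum_univ_four, Matrix.cons_val] at hg
        have h0 := congrArg (polar Q u') hg
        have h2 := congrArg (polar Q u) hg
        have h1 := congrArg (polar Q s) hg
        have h3 := congrArg (polar Q r) hg
        simp only [polar_add_right, polar_smul_right, polar_zero_right, hu'u, hu'r, hu'u'0, hu's, huu, huu0, hur, hus,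
          hsu, hsu', hru, hru', hrr, hss, hsr, ← hd', hdd,
          smul_eq_mul, mul_zero, mul_one, add_zero, zero_add] at h0 h1 h2 h3
        have h1' : g 1 = 0 := (mul_eq_zero.1 h1).resolve_right hd
        intro i
        fin_cases i <;> assumption) (by
        intro i
        fin_cases i <;> simp only [Matrix.cons_val, Fin.zero_eta, Fin.mk_one, Fin.reduceFinMk, Fin.isValue, Q_e, Q_f,
          hu, hu', hr, hs, QuadraticMap.map_smul, smul_zero]) (by
        intro i j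
        fin_cases i <;> fin_cases j <;> simp only [Matrix.cons_val, Fin.zero_eta, Fin.mk_one, Fin.reduceFinMk,
          Fin.isValue, polar_ee, polar_ff, polar_ef, polar_fe, polar_smul_left, polar_smul_right, huu0, huu, hur, hus,
          hu'u'0, hu'u, hu'r, hu's, hrr, hss,
          hru, hru', hsu, hsu', ← hd', hsr, smul_eq_mul, mul_zero, hdd] <;> rfl)
    have h0 : g.1 (e 0) = u := hxy 0
    have h1 : g.1 (e 1) = r := hxy 1
    have h2 : g.1 (f 0) = u' := hxy 2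
    have h3 : g.1 (f 1) = d⁻¹ • s := hxy 3
    refine Gd.of_psi g hK hx ?_
    simp only [psi_rt_one g hg (Q_e 0) (polar_ee 0 1), psi_rt_one g hg (Q_f 0) (polar_ff 0 1), h0, h1, h2, h3]
    exact (Subgroup.zpowers_le.2 h) (rt_smul_mem hu' hu's (inv_ne_zero hd))

/-- **the pair lemma** -/
theorem pair {α : MulAut PP} {u w u' w' : V} (hu : Q u = 0) (hw : Q w = 0) (huw : polar Q u w = 0)
    (hu' : Q u' = 0) (hw' : Q w' = 0) (huw' : polar Q u' w' = 0) (ha : polar Q u u' ≠ 0)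
    (hwu : ∀ c : R, w ≠ c • u) (hwu' : ∀ c : R, w' ≠ c • u') (h : α (rt u w) = rt u' w') :
    Gd α ∨ ∃ a b c : R, w' = a • w + b • u + c • u' := by
  set! a := polar Q u u' with ha'; rewrite [← ha'] at ha
  set! b := polar Q w u' with hb'
  set! c := polar Q u w' with hc'
  have haa : a⁻¹ * a = 1 := inv_mul_cancel₀ ha
  have haa' : a * a⁻¹ = 1 := mul_inv_cancel₀ ha
  have huu0 := polar_self_of_sing hu
  have hu'u'0 := polar_self_of_sing hu'
  have hu'u : polar Q u' u = a := by rw [polar_comm]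
  have hwu1 : polar Q w u = 0 := by rw [polar_comm]; exact huw
  have hwu1' : polar Q w' u' = 0 := by rw [polar_comm]; exact huw'
  have hu'w : polar Q u' w = b := by rw [polar_comm]
  -- normalise
  have key := pair_norm C (α := α) (u := u) (u' := a⁻¹ • u') (r := w + (-(a⁻¹ * b)) • u)
    (s := a • w' + (-(c)) • u') hu
    (by rw [QuadraticMap.map_smul, hu', smul_zero])
    (by rw [polar_smul_right, ← ha', smul_eq_mul, haa])
    (by rw [Q_add, QuadraticMap.map_smul, hw, hu, polar_smul_right, hwu1, smul_zero, smul_zero]; simp)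
    (by rw [Q_add, QuadraticMap.map_smul, QuadraticMap.map_smul, hw', hu', polar_smul_left, polar_smul_right, hwu1']
        simp)
    (by rw [polar_add_right, polar_smul_right, huw, huu0]; simp)
    (by rw [polar_smul_left, polar_add_right, polar_smul_right, hu'w, hu'u, smul_eq_mul, smul_eq_mul]
        linear_combination -(a⁻¹ * b) * haa)
    (by rw [polar_add_right, polar_smul_right, polar_smul_right, ← hc', ← ha', smul_eq_mul, smul_eq_mul]; ring)
    (by rw [polar_smul_left, polar_add_right, polar_smul_right, polar_smul_right, huw', hu'u'0]; simp)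
    (by
      intro h0
      apply hwu (a⁻¹ * b)
      rw [neg_smul, ← sub_eq_add_neg, sub_eq_zero] at h0
      exact h0)
    (by
      intro h0
      apply hwu' (a⁻¹ * c)
      have h1 := congrArg (fun v => a⁻¹ • v) h0
      simp only [smul_add, smul_smul, haa, one_smul, smul_zero] at h1
      rw [mul_neg, neg_smul, ← sub_eq_add_neg, sub_eq_zero] at h1
      exact h1)
    (by
      have h1 : rt u (w + (-(a⁻¹ * b)) • u) = rt u w := rt_add hu huw _
      have h2 := rt_alt hu' hw' huw' (a⁻¹) 0 (-c) a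
      rw [zero_smul, add_zero, zero_mul, sub_zero, haa, one_smul, add_comm ((-c) • u')] at h2
      rw [h1, h, h2]
      exact Subgroup.mem_zpowers _)
  rcases key with h1 | h1 | h1
  · exact Or.inl h1
  · right
    refine ⟨a⁻¹, a⁻¹ * (-(a⁻¹ * b)), a⁻¹ * c, ?_⟩
    have h2 := congrArg (fun v => a⁻¹ • v) h1
    simp only [smul_add, smul_smul, haa, one_smul] at h2
    have h3 : w' = (w' + (a⁻¹ * -c) • u') + (a⁻¹ * c) • u' := by module
    rw [h3, h2]
  · right
    refine ⟨-a⁻¹, a⁻¹ * (a⁻¹ * b), a⁻¹ * c, ?_⟩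
    have h2 := congrArg (fun v => a⁻¹ • v) h1
    simp only [smul_add, smul_neg, smul_smul, haa, one_smul] at h2
    have h3 : w' = (w' + (a⁻¹ * -c) • u') + (a⁻¹ * c) • u' := by module
    rw [h3, h2]
    module

end Cfsg.Agent.H62.Oe
end

-- part: H62/Oe/CaseOne
section
/-!
# S3938, `Ω⁺₈(3)`: automorphisms induced by similitudes (helper62)
-/

set_option autoImplicit false
set_option linter.unusedSectionVars false
set_option linter.style.haveILetI false

namespace Cfsg.Agent.H62.Oe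

open Module QuadraticMap Cfsg.Agent.LieClassical.OrthCore Cfsg.Agent.LieClassical.OrthTrans
  Cfsg.Agent.LieClassical.OrthSimple
  Cfsg.Agent.ClassicalGeometry.OrthAut1 Cfsg.Agent.ClassicalGeometry.OrthAut2
  Cfsg.Agent.LieClassical.QuadForms Cfsg.Agent.ClassicalGeometry.TrialityOct
  Cfsg.Agent.ClassicalGeometry.Triality Cfsg.Agent.ClassicalGeometry.OrthSemi Cfsg.Agent.H198.TriAut
  Cfsg.Agent.H465.OEight

theorem ext_ef {g h : V →ₗ[R] V} (he : ∀ i, g (e i) = h (e i)) (hf : ∀ i, g (f i) = h (f i)) : g = h := by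
  apply LinearMap.pi_ext'
  rintro (i | i)
  · apply LinearMap.ext_ring
    exact he i
  · apply LinearMap.ext_ring
    exact hf i

theorem polar_e (v : V) (i : Fin 4) : polar Q (e i) v = v (.inr i) := by
  rw [polar_comm, e, polar_plusForm_single_inl, one_mul]

theorem polar_f (v : V) (i : Fin 4) : polar Q (f i) v = v (.inl i) := by
  rw [polar_comm, f, polar_plusForm_single_inr, one_mul]

theorem e_ne (i : Fin 4) : e i ≠ 0 := by
  intro h
  have := congrFun h (.inl i)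
  simp only [e, _root_.Pi.single_eq_same, _root_.Pi.zero_apply, _root_.one_ne_zero] at this

theorem f_ne (i : Fin 4) : f i ≠ 0 := by
  intro h
  have := congrFun h (.inr i)
  simp only [f, _root_.Pi.single_eq_same, _root_.Pi.zero_apply, _root_.one_ne_zero] at this

/-- scalars act trivially -/
theorem psi_eq_one {b : SG R} {a : R} (h : ∀ v, b.1 v = a • v) : psi b = 1 := by
  ext k
  obtain ⟨k, rfl⟩ := QuotientGroup.mk_surjective k
  rw [psi_mk]
  show ((⟨b.1 * k.1 * b.1⁻¹, _⟩ : ↥(E Q)) : PP) = (k : PP)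
  congr 1
  apply Subtype.ext
  ext1 v
  obtain ⟨v, rfl⟩ := b.1.surjective v
  show b.1 (k.1 (b.1.symm (b.1 v))) = k.1 (b.1 v)
  rw [LinearEquiv.symm_apply_apply, h, h, map_smul]

theorem sg_mul_apply (a b : SG R) (v : V) : (a * b).1 v = a.1 (b.1 v) := rfl

theorem sg_inv_apply (a : SG R) (v : V) : a⁻¹.1 (a.1 v) = v := a.1.symm_apply_apply v

theorem Gd.of_psi_conj {b : SG R} (g : SG R) (h : Gd (psi (g⁻¹ * b * g))) : Gd (psi b) := by
  simp only [map_mul, map_mul, map_inv] at h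
  exact h.of_conj _

variable {ρ : SG R} (C : Cert ρ)

include C

/-- no singular vector is moved to a non-orthogonal one -/
theorem one_beta {b : SG R} (hb : psi b ≠ 1) (h : ∀ p, Q p = 0 → polar Q p (b.1 p) = 0) : Gd (psi b) := by
  obtain ⟨c, hc0, hc⟩ := b.2
  have hc' : ∀ v, Q (b.1 v) = c * Q v := hc
  by_cases hx : ∃ x y : V, Q x = 0 ∧ Q y = 0 ∧ polar Q x y = 0 ∧ polar Q x (b.1 y) ≠ 0
  · obtain ⟨x, y, hx, hy, hxy, hne⟩ := hx
    have hQbx : Q (b.1 x) = 0 := by rw [hc', hx, mul_zero]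
    have hQby : Q (b.1 y) = 0 := by rw [hc', hy, mul_zero]
    have hyx : polar Q y x = 0 := by rw [polar_comm]; exact hxy
    have h1 : polar Q y (b.1 x) ≠ 0 := by
      have h2 := h (x + y) (by rw [Q_add, hx, hy, hxy]; simp)
      rw [map_add, polar_add_left, polar_add_right, polar_add_right, h x hx, h y hy] at h2
      intro h3
      rw [h3] at h2
      exact hne (by linear_combination h2)
    have hbyx : polar Q (b.1 y) (b.1 x) = 0 := by rw [sim_polar hc', hyx, mul_zero]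
    have hrt : psi b (rt x y) = rt (b.1 y) ((-c⁻¹) • b.1 x) := by
      rw [psi_rt b hc0 hc' hx hxy]
      have h2 := rt_alt hQby hQbx hbyx 0 1 c⁻¹ 0
      rw [zero_smul, zero_add, one_smul, zero_smul, add_zero, zero_mul, zero_sub, one_mul] at h2
      exact h2
    rcases pair C (α := psi b) (u := x) (w := y) (u' := b.1 y) (w' := (-c⁻¹) • b.1 x) hx hy hxy hQby
      (by rw [QuadraticMap.map_smul, hQbx, smul_zero]) (by rw [polar_smul_right, hbyx, smul_zero]) hne
      (by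
        rintro k rfl
        apply hne
        rw [map_smul, polar_smul_right, h x hx, smul_zero])
      (by
        intro k hk
        apply h1
        have h2 : b.1 x = (-c * k) • b.1 y := by
          have h3 := congrArg (fun v => (-c) • v) hk
          simp only [smul_smul] at h3
          have h4 : -c * -c⁻¹ = 1 := by field_simp
          rw [h4, one_smul] at h3
          exact h3
        rw [h2, polar_smul_right, h y hy, smul_zero]) hrt with h2 | ⟨a1, a2, a3, h2⟩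
    · exact h2
    · exfalso
      have h3 := congrArg (polar Q y) h2
      rw [polar_smul_right, polar_add_right, polar_add_right, polar_smul_right, polar_smul_right, polar_smul_right,
        polar_self_of_sing hy, hyx, h y hy] at h3
      simp only [smul_zero, add_zero] at h3
      rcases smul_eq_zero.1 h3 with h4 | h4
      · exact inv_ne_zero hc0 (neg_eq_zero.1 h4)
      · exact h1 h4
  · exfalso
    push Not at hx
    apply hb
    have key : ∀ y, Q y = 0 → ∃ k : R, b.1 y = k • y := by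
      intro y hy
      by_cases hy0 : y = 0
      · exact ⟨0, by rw [hy0, map_zero, smul_zero]⟩
      obtain ⟨g, hg, hgy⟩ := hG.trans_sing (Q_e 0) hy (e_ne 0) hy0
      have hgO : g ∈ O Q := E_le_O hg
      obtain ⟨z, hz⟩ := g.surjective (b.1 y)
      have h1 : ∀ x0, Q x0 = 0 → polar Q x0 (e 0) = 0 → polar Q x0 z = 0 := by
        intro x0 h2 h3
        rw [← polar_map hgO, hz]
        refine hx _ _ ((mem_O.1 hgO _).trans h2) hy ?_
        rw [← hgy, polar_map hgO, h3]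
      refine ⟨z (.inl 0), ?_⟩
      rw [← hz, ← hgy, ← map_smul]
      congr 1
      funext j
      rcases j with i | i
      · by_cases hi : i = 0
        · rw [hi]; simp [e]
        · have := h1 (f i) (Q_f i) (by rw [polar_fe, if_neg hi])
          rw [polar_f] at this
          rw [this]
          have hi' : (0 : Fin 4) ≠ i := fun h => hi h.symm
          simp [e, hi]
      · have := h1 (e i) (Q_e i) (polar_ee _ _)
        rw [polar_e] at this
        rw [this]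
        simp [e]
    obtain ⟨k, hk⟩ := good_eq_smul_of_fix hG key
    exact psi_eq_one hk

section alpha

variable {b : SG R} {c κ : R} (hc0 : c ≠ 0) (hc : ∀ v, Q (b.1 v) = c * Q v) (hκ : κ ≠ 0) (hb0 : b.1 (e 0) = κ • f 0)
  (hn : ¬ Gd (psi b))

include hc0 hc hκ hb0 hn

theorem a_one {r : V} (hr : Q r = 0) (hr0 : r ≠ 0) (h1 : polar Q (e 0) r = 0) (h2 : polar Q (f 0) r = 0) :
    ∃ x y : R, b.1 r = x • r + y • f 0 := by
  have hcc : c * c⁻¹ = 1 := mul_inv_cancel₀ hc0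
  have h3 : polar Q (f 0) (b.1 r) = 0 := by
    have h4 : polar Q (b.1 (e 0)) (b.1 r) = 0 := by rw [sim_polar hc, h1, mul_zero]
    rw [hb0, polar_smul_left, smul_eq_mul] at h4
    exact (mul_eq_zero.1 h4).resolve_left hκ
  have hrt : psi b (rt (e 0) r) = rt (κ • f 0) (c⁻¹ • b.1 r) := by
    rw [psi_rt b hc0 hc (Q_e 0) h1, hb0]
  have hr1 : ∀ k : R, r ≠ k • e 0 := by
    rintro k rfl
    rw [polar_smul_right, polar_fe, if_pos rfl] at h2
    rw [smul_eq_mul, mul_one] at h2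
    apply hr0
    rw [h2, zero_smul]
  rcases pair C (α := psi b) (u := e 0) (w := r) (u' := κ • f 0) (w' := c⁻¹ • b.1 r) (Q_e 0) hr h1
    (by rw [QuadraticMap.map_smul, Q_f, smul_zero]) (by rw [QuadraticMap.map_smul, hc, hr]; simp)
    (by rw [polar_smul_left, polar_smul_right, h3, smul_zero, smul_zero])
    (by rw [polar_smul_right, polar_ef, if_pos rfl, smul_eq_mul, mul_one]; exact hκ) hr1
    (by
      intro k hk
      apply hr1 (c * k)
      apply b.1.injective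
      rw [map_smul, hb0]
      have h4 := congrArg (fun v => c • v) hk
      simp only [smul_smul, hcc, one_smul] at h4
      rw [h4, smul_smul, mul_assoc]) hrt with h4 | ⟨a1, a2, a3, h4⟩
  · exact absurd h4 hn
  · have h5 := congrArg (polar Q (f 0)) h4
    rw [polar_smul_right, h3, polar_add_right, polar_add_right, polar_smul_right, polar_smul_right, polar_smul_right,
      polar_smul_right, h2, polar_fe, if_pos rfl, polar_ff] at h5
    simp only [smul_eq_mul, mul_zero, mul_one, zero_add, add_zero] at h5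
    rw [← h5, zero_smul, add_zero] at h4
    refine ⟨c * a1, c * (a3 * κ), ?_⟩
    have h6 := congrArg (fun v => c • v) h4
    simp only [smul_smul, smul_add, hcc, one_smul] at h6
    exact h6

theorem a_two {s t ds dt : V} (hs : Q s = 0) (ht : Q t = 0) (hst : polar Q s t = 0)
    (h1 : polar Q (e 0) s = 0) (h2 : polar Q (f 0) s = 0) (h3 : polar Q (e 0) t = 0) (h4 : polar Q (f 0) t = 0)
    (ds1 : polar Q ds s = 1) (ds2 : polar Q ds t = 0) (ds3 : polar Q ds (f 0) = 0)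
    (dt1 : polar Q dt t = 1) (dt2 : polar Q dt s = 0) (dt3 : polar Q dt (f 0) = 0)
    {β β' φ φ' : R} (hbs : b.1 s = β • s + φ • f 0) (hbt : b.1 t = β' • t + φ' • f 0) : β = β' := by
  obtain ⟨x, y, hxy⟩ := a_one C hc0 hc hκ hb0 hn (r := s + t) (by rw [Q_add, hs, ht, hst]; simp)
    (by
      intro h
      have h5 := congrArg (polar Q ds) h
      rw [polar_add_right, ds1, ds2, polar_zero_right, add_zero] at h5
      exact one_ne_zero h5)
    (by rw [polar_add_right, h1, h3, add_zero]) (by rw [polar_add_right, h2, h4, add_zero])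
  rw [map_add, hbs, hbt] at hxy
  have h5 := congrArg (polar Q ds) hxy
  have h6 := congrArg (polar Q dt) hxy
  simp only [polar_add_right, polar_smul_right, ds1, ds2, ds3, dt1, dt2, dt3, smul_eq_mul, mul_zero, mul_one, add_zero,
    zero_add] at h5 h6
  rw [h5, h6]

theorem a_three {s t d : V} (hs : Q s = 0) (ht : Q t = 0) (hst : polar Q s t = 0)
    (h1 : polar Q (e 0) s = 0) (h2 : polar Q (f 0) s = 0) (h3 : polar Q (e 0) t = 0) (h4 : polar Q (f 0) t = 0)
    (dt1 : polar Q d t = 1) (dt2 : polar Q d s = 0) (dt3 : polar Q d (e 0) = 0) (dt4 : polar Q d (f 0) = 0)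
    {β φ φ' : R} (hβ : β ≠ 0) (hbs : b.1 s = β • s + φ • f 0) (hbt : b.1 t = β • t + φ' • f 0) : φ = 0 := by
  by_contra hφ
  apply hn
  have hcc : c⁻¹ * c = 1 := inv_mul_cancel₀ hc0
  set! r := t - (φ' * φ⁻¹) • s with hr
  have hts : polar Q t s = 0 := by rw [polar_comm]; exact hst
  have hse : polar Q s (e 0) = 0 := by rw [polar_comm]; exact h1
  have hsf : polar Q s (f 0) = 0 := by rw [polar_comm]; exact h2
  have hte : polar Q t (e 0) = 0 := by rw [polar_comm]; exact h3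
  have htf : polar Q t (f 0) = 0 := by rw [polar_comm]; exact h4
  have hr' : r = t + (-(φ' * φ⁻¹)) • s := by rw [hr]; module
  have hQr : Q r = 0 := by
    rw [hr', Q_add, QuadraticMap.map_smul, ht, hs, polar_smul_right, hts]; simp
  have hrs : polar Q r s = 0 := by
    rw [hr', polar_add_left, polar_smul_left, hts, polar_self_of_sing hs]; simp
  have hre : polar Q r (e 0) = 0 := by rw [hr', polar_add_left, polar_smul_left, hte, hse]; simp
  have hrf : polar Q r (f 0) = 0 := by rw [hr', polar_add_left, polar_smul_left, htf, hsf]; simp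
  have her : polar Q (e 0) r = 0 := by rw [polar_comm]; exact hre
  have hfr : polar Q (f 0) r = 0 := by rw [polar_comm]; exact hrf
  have hrr := polar_self_of_sing hQr
  have hdr : polar Q d r = 1 := by rw [hr', polar_add_right, polar_smul_right, dt1, dt2]; simp
  have hbr : b.1 r = β • r := by
    rw [hr, map_sub, map_smul, hbs, hbt]
    have e1 : φ' * φ⁻¹ * φ = φ' := by field_simp
    have e2 : β • t + φ' • f 0 - (φ' * φ⁻¹) • (β • s + φ • f 0) =
      β • (t - (φ' * φ⁻¹) • s) + (φ' - φ' * φ⁻¹ * φ) • f 0 := by module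
    rw [e2, e1, sub_self, zero_smul, add_zero]
  have hsu : polar Q (e 0 + r) s = 0 := by rw [polar_add_left, h1, hrs, add_zero]
  have hQu : Q (e 0 + r) = 0 := by rw [Q_add, Q_e, hQr, her]; simp
  have hbu : b.1 (e 0 + r) = κ • f 0 + β • r := by rw [map_add, hb0, hbr]
  have hrt : psi b (rt (e 0 + r) s) = rt (κ • f 0 + β • r) (c⁻¹ • (β • s + φ • f 0)) := by
    rw [psi_rt b hc0 hc hQu hsu, hbu, hbs]
  rcases pair C (α := psi b) (u := e 0 + r) (w := s) (u' := κ • f 0 + β • r) (w' := c⁻¹ • (β • s + φ • f 0)) hQu hs hsu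
    (by rw [← hbu, hc, hQu, mul_zero]) (by rw [← hbs, QuadraticMap.map_smul, hc, hs]; simp)
    (by rw [← hbs, ← hbu, polar_smul_right, sim_polar hc, hsu]; simp)
    (by
      rw [polar_add_left, polar_add_right, polar_add_right, polar_smul_right, polar_smul_right, polar_smul_right,
        polar_smul_right, polar_ef, if_pos rfl, her, hrf, hrr]
      simp only [smul_eq_mul, mul_one, mul_zero, add_zero]
      exact hκ)
    (by
      intro k hk
      have h5 := congrArg (polar Q d) hk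
      rw [dt2, polar_smul_right, polar_add_right, dt3, hdr, zero_add, smul_eq_mul, mul_one] at h5
      rw [← h5, zero_smul] at hk
      rw [hk, map_zero, smul_zero, zero_add] at hbs
      have h6 := smul_eq_zero.1 hbs.symm
      rcases h6 with h6 | h6
      · exact hφ h6
      · exact f_ne 0 h6)
    (by
      intro k hk
      have h5 := congrArg (polar Q d) hk
      simp only [polar_smul_right, polar_add_right, dt2, dt4, hdr, smul_eq_mul, mul_zero, add_zero, zero_add,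
        mul_one] at h5
      have h6 : k = 0 := (mul_eq_zero.1 h5.symm).resolve_right hβ
      rw [h6, zero_smul, ← hbs] at hk
      have h7 := (smul_eq_zero.1 hk).resolve_left (inv_ne_zero hc0)
      have h8 : s = 0 := b.1.map_eq_zero_iff.1 h7
      rw [h8, map_zero, smul_zero, zero_add] at hbs
      have h6 := smul_eq_zero.1 hbs.symm
      rcases h6 with h6 | h6
      · exact hφ h6
      · exact f_ne 0 h6) hrt with h5 | ⟨a1, a2, a3, h5⟩
  · exact h5
  · exfalso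
    have h6 := congrArg (polar Q (f 0)) h5
    have h7 := congrArg (polar Q d) h5
    have h8 := congrArg (polar Q (e 0)) h5
    simp only [polar_smul_right, polar_add_right, dt2, dt3, dt4, hdr, h1, h2, her, hfr, polar_fe, polar_ef, polar_ff,
      polar_ee, if_true, smul_eq_mul, mul_zero, add_zero, zero_add, mul_one] at h6 h7 h8
    rw [← h6] at h7
    have h9 : a3 = 0 := (mul_eq_zero.1 (by rw [zero_add] at h7; exact h7.symm)).resolve_right hβ
    rw [h9, zero_mul] at h8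
    exact hφ ((mul_eq_zero.1 h8).resolve_left (inv_ne_zero hc0))

end alpha

end Cfsg.Agent.H62.Oe
end

-- part: H62/Oe/CaseOneB
section
/-!
# S3938, `Ω⁺₈(3)`: automorphisms induced by similitudes, the reflections (helper62)
-/

set_option autoImplicit false
set_option linter.unusedSectionVars false
set_option linter.style.haveILetI false

namespace Cfsg.Agent.H62.Oe

open Module QuadraticMap Cfsg.Agent.LieClassical.OrthCore Cfsg.Agent.LieClassical.OrthTrans
  Cfsg.Agent.LieClassical.OrthSimple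
  Cfsg.Agent.ClassicalGeometry.OrthAut1 Cfsg.Agent.ClassicalGeometry.OrthAut2
  Cfsg.Agent.LieClassical.QuadForms Cfsg.Agent.ClassicalGeometry.TrialityOct
  Cfsg.Agent.ClassicalGeometry.Triality Cfsg.Agent.ClassicalGeometry.OrthSemi Cfsg.Agent.H198.TriAut
  Cfsg.Agent.H465.OEight

/-- the reflection `e₀ ↔ f₀` -/
def rhoL : V ≃ₗ[R] V := LinearEquiv.funCongrLeft R R (Equiv.swap (Sum.inl 0) (Sum.inr 0))

theorem rhoL_apply (v : V) (j : Fin 4 ⊕ Fin 4) : rhoL v j = v (Equiv.swap (Sum.inl 0) (Sum.inr 0) j) := rfl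

theorem Q_rhoL (v : V) : Q (rhoL v) = Q v := by
  rw [norm8, norm8]
  simp only [rhoL_apply]
  have h1 : Equiv.swap (Sum.inl 0 : Fin 4 ⊕ Fin 4) (Sum.inr 0) (Sum.inl 0) = Sum.inr 0 := by decide
  have h2 : Equiv.swap (Sum.inl 0 : Fin 4 ⊕ Fin 4) (Sum.inr 0) (Sum.inr 0) = Sum.inl 0 := by decide
  have h3 : Equiv.swap (Sum.inl 0 : Fin 4 ⊕ Fin 4) (Sum.inr 0) (Sum.inl 1) = Sum.inl 1 := by decide
  have h4 : Equiv.swap (Sum.inl 0 : Fin 4 ⊕ Fin 4) (Sum.inr 0) (Sum.inl 2) = Sum.inl 2 := by decide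
  have h5 : Equiv.swap (Sum.inl 0 : Fin 4 ⊕ Fin 4) (Sum.inr 0) (Sum.inl 3) = Sum.inl 3 := by decide
  have h6 : Equiv.swap (Sum.inl 0 : Fin 4 ⊕ Fin 4) (Sum.inr 0) (Sum.inr 1) = Sum.inr 1 := by decide
  have h7 : Equiv.swap (Sum.inl 0 : Fin 4 ⊕ Fin 4) (Sum.inr 0) (Sum.inr 2) = Sum.inr 2 := by decide
  have h8 : Equiv.swap (Sum.inl 0 : Fin 4 ⊕ Fin 4) (Sum.inr 0) (Sum.inr 3) = Sum.inr 3 := by decide
  rw [h1, h2, h3, h4, h5, h6, h7, h8]
  ring

/-- the reflection `e₀ ↔ f₀` -/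
def rho : SG R := ⟨rhoL, ⟨1, one_ne_zero, fun v => by rw [one_mul]; exact Q_rhoL v⟩⟩

theorem rho_e0 : rho.1 (e 0) = f 0 := by
  funext j; revert j; decide

theorem rho_f0 : rho.1 (f 0) = e 0 := by
  funext j; revert j; decide

theorem rho_e {i : Fin 4} (hi : i ≠ 0) : rho.1 (e i) = e i := by
  funext j; revert i j; decide

theorem rho_f {i : Fin 4} (hi : i ≠ 0) : rho.1 (f i) = f i := by
  funext j; revert i j; decide

/-- the similitude `e_i ↦ e_i`, `f_i ↦ -f_i` -/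
def nuL : V ≃ₗ[R] V where
  toFun v := fun j => Sum.elim (fun i => v (.inl i)) (fun i => -v (.inr i)) j
  invFun v := fun j => Sum.elim (fun i => v (.inl i)) (fun i => -v (.inr i)) j
  map_add' v w := by
    funext j
    rcases j with i | i
    · rfl
    · show -(v (.inr i) + w (.inr i)) = -v (.inr i) + -w (.inr i); ring
  map_smul' a v := by
    funext j
    rcases j with i | i
    · rfl
    · show -(a * v (.inr i)) = a * -v (.inr i); ring
  left_inv v := by
    funext j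
    rcases j with i | i
    · rfl
    · show - -v (.inr i) = _; ring
  right_inv v := by
    funext j
    rcases j with i | i
    · rfl
    · show - -v (.inr i) = _; ring

theorem Q_nuL (v : V) : Q (nuL v) = -1 * Q v := by
  rw [norm8, norm8]
  show v (.inl 0) * -v (.inr 0) + v (.inl 1) * -v (.inr 1) + v (.inl 2) * -v (.inr 2) +
    v (.inl 3) * -v (.inr 3) = _
  ring

/-- the similitude -/
def nu : SG R := ⟨nuL, ⟨-1, neg_ne_zero.2 one_ne_zero, Q_nuL⟩⟩

theorem nu_e (i : Fin 4) : nu.1 (e i) = e i := by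
  funext j; revert i j; decide

theorem nu_f (i : Fin 4) : nu.1 (f i) = -f i := by
  funext j; revert i j; decide

theorem psi_congr {a b : SG R} {c : R} (he : ∀ i, a.1 (e i) = c • b.1 (e i))
    (hf : ∀ i, a.1 (f i) = c • b.1 (f i)) : psi a = psi b := by
  have h0 : (a.1 : V →ₗ[R] V) = c • (b.1 : V →ₗ[R] V) := ext_ef he hf
  have h1 : ∀ v, a.1 v = c • b.1 v := fun v => LinearMap.congr_fun h0 v
  have h2 : psi (b⁻¹ * a) = 1 := psi_eq_one (a := c) fun v => by
    rw [sg_mul_apply, h1, map_smul, sg_inv_apply]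
  simp only [map_mul, map_inv, inv_mul_eq_one] at h2
  exact h2.symm

theorem other (i : Fin 4) : ∃ j : Fin 4, j ≠ 0 ∧ j ≠ i := by revert i; decide

variable (C : Cert rho)

include C

theorem gd_rho : Gd (psi rho) := by
  obtain ⟨x, hx⟩ := C.refl
  exact ⟨x, fun K h1 h2 => hx K h1 (h2 x h1)⟩

/-- the main case -/
theorem one_alpha0 {b : SG R} {κ : R} (hκ : κ ≠ 0) (hb0 : b.1 (e 0) = κ • f 0) : Gd (psi b) := by
  by_contra hn
  obtain ⟨c, hc0, hc'⟩ := b.2
  have hc : ∀ v, Q (b.1 v) = c * Q v := hc'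
  have h1 := @a_one rho C b c κ hc0 hc hκ hb0 hn
  have h2 := @a_two rho C b c κ hc0 hc hκ hb0 hn
  have h3 := @a_three rho C b c κ hc0 hc hκ hb0 hn
  have e0e : ∀ i, polar Q (e 0) (e i) = 0 := fun i => polar_ee _ _
  have f0f : ∀ i, polar Q (f 0) (f i) = 0 := fun i => polar_ff _ _
  have e0f : ∀ {i : Fin 4}, i ≠ 0 → polar Q (e 0) (f i) = 0 := fun {i} hi => by rw [polar_ef, if_neg hi.symm]
  have f0e : ∀ {i : Fin 4}, i ≠ 0 → polar Q (f 0) (e i) = 0 := fun {i} hi => by rw [polar_fe, if_neg hi.symm]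
  have ef0 : ∀ {i : Fin 4}, i ≠ 0 → polar Q (e i) (f 0) = 0 := fun {i} hi => by rw [polar_ef, if_neg hi]
  have fe0 : ∀ {i : Fin 4}, i ≠ 0 → polar Q (f i) (e 0) = 0 := fun {i} hi => by rw [polar_fe, if_neg hi]
  have eid : ∀ i, polar Q (e i) (f i) = 1 := fun i => by rw [polar_ef, if_pos rfl]
  have fid : ∀ i, polar Q (f i) (e i) = 1 := fun i => by rw [polar_fe, if_pos rfl]
  have efn : ∀ {i j : Fin 4}, i ≠ j → polar Q (e i) (f j) = 0 := fun {i j} h => by rw [polar_ef, if_neg h]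
  have fen : ∀ {i j : Fin 4}, i ≠ j → polar Q (f i) (e j) = 0 := fun {i j} h => by rw [polar_fe, if_neg h]
  have hE : ∀ i : Fin 4, i ≠ 0 → ∃ β φ : R, b.1 (e i) = β • e i + φ • f 0 := fun i hi =>
    h1 (Q_e i) (e_ne i) (e0e i) (f0e hi)
  have hF : ∀ i : Fin 4, i ≠ 0 → ∃ β φ : R, b.1 (f i) = β • f i + φ • f 0 := fun i hi =>
    h1 (Q_f i) (f_ne i) (e0f hi) (f0f i)
  -- equal eigenvalues
  have eqEE : ∀ {i j : Fin 4}, i ≠ 0 → j ≠ 0 → i ≠ j → ∀ {β β' φ φ' : R}, b.1 (e i) = β • e i + φ • f 0 →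
      b.1 (e j) = β' • e j + φ' • f 0 → β = β' := fun {i j} hi hj hij {_ _ _ _} hs ht =>
    h2 (s := e i) (t := e j) (ds := f i) (dt := f j) (Q_e i) (Q_e j) (polar_ee _ _) (e0e i) (f0e hi) (e0e j) (f0e hj)
      (fid i) (fen hij) (polar_ff _ _) (fid j) (fen hij.symm) (polar_ff _ _) hs ht
  have eqEF : ∀ {i j : Fin 4}, i ≠ 0 → j ≠ 0 → i ≠ j → ∀ {β β' φ φ' : R}, b.1 (e i) = β • e i + φ • f 0 →
      b.1 (f j) = β' • f j + φ' • f 0 → β = β' := fun {i j} hi hj hij {_ _ _ _} hs ht =>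
    h2 (s := e i) (t := f j) (ds := f i) (dt := e j) (Q_e i) (Q_f j) (efn hij) (e0e i) (f0e hi) (e0f hj) (f0f j)
      (fid i) (polar_ff _ _) (polar_ff _ _) (eid j) (polar_ee _ _) (ef0 hj) hs ht
  obtain ⟨β, φ1, hβ1⟩ := hE 1 (by decide)
  have hEβ : ∀ i : Fin 4, i ≠ 0 → ∃ φ : R, b.1 (e i) = β • e i + φ • f 0 := by
    intro i hi
    by_cases h1i : i = 1
    · rw [h1i]; exact ⟨φ1, hβ1⟩
    obtain ⟨β', φ, h⟩ := hE i hi
    have := eqEE (by decide) hi (fun h => h1i h.symm) hβ1 h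
    subst this
    exact ⟨φ, h⟩
  have hFβ : ∀ i : Fin 4, i ≠ 0 → ∃ φ : R, b.1 (f i) = β • f i + φ • f 0 := by
    intro i hi
    obtain ⟨β', φ, h⟩ := hF i hi
    by_cases h1i : i = 1
    · obtain ⟨φ2, h'⟩ := hEβ 2 (by decide)
      have := eqEF (i := 2) (by decide) hi (by rw [h1i]; decide) h' h
      subst this
      exact ⟨φ, h⟩
    · have := eqEF (by decide) hi (fun h => h1i h.symm) hβ1 h
      subst this
      exact ⟨φ, h⟩
  have hβ : β ≠ 0 := by
    rintro rfl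
    have h4 : b.1 (e 1 - (φ1 * κ⁻¹) • e 0) = 0 := by
      rw [map_sub, map_smul, hβ1, hb0, zero_smul, zero_add, smul_smul]
      have : φ1 * κ⁻¹ * κ = φ1 := by field_simp
      rw [this, sub_self]
    have h5 := b.1.map_eq_zero_iff.1 h4
    have h6 := congrArg (polar Q (f 1)) h5
    rw [polar_sub_right, polar_smul_right, fid, fe0 (by decide), smul_zero, sub_zero, polar_zero_right] at h6
    exact one_ne_zero h6
  -- the shears vanish
  have hE0 : ∀ i : Fin 4, i ≠ 0 → b.1 (e i) = β • e i := by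
    intro i hi
    obtain ⟨φ, hs⟩ := hEβ i hi
    obtain ⟨j, hj, hij⟩ : ∃ j : Fin 4, j ≠ 0 ∧ j ≠ i := other i
    obtain ⟨φ', ht⟩ := hEβ j hj
    have := h3 (s := e i) (t := e j) (d := f j) (Q_e i) (Q_e j) (polar_ee _ _) (e0e i) (f0e hi) (e0e j) (f0e hj)
      (fid j) (fen hij) (fe0 hj) (polar_ff _ _) hβ hs ht
    rw [hs, this, zero_smul, add_zero]
  have hF0 : ∀ i : Fin 4, i ≠ 0 → b.1 (f i) = β • f i := by
    intro i hi
    obtain ⟨φ, hs⟩ := hFβ i hi
    obtain ⟨j, hj, hij⟩ : ∃ j : Fin 4, j ≠ 0 ∧ j ≠ i := other i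
    obtain ⟨φ', ht⟩ := hEβ j hj
    have := h3 (s := f i) (t := e j) (d := f j) (Q_f i) (Q_e j) (fen hij.symm) (e0f hi) (f0f i) (e0e j) (f0e hj)
      (fid j) (polar_ff _ _) (fe0 hj) (polar_ff _ _) hβ hs ht
    rw [hs, this, zero_smul, add_zero]
  -- the multiplier is one
  have hc1 : c = 1 := by
    have h4 : polar Q (b.1 (e 1)) (b.1 (f 1)) = c * polar Q (e 1) (f 1) := sim_polar hc _ _
    rw [hE0 1 (by decide), hF0 1 (by decide), polar_smul_left, polar_smul_right, eid, mul_one, smul_eq_mul,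
      smul_eq_mul, mul_one] at h4
    rw [← h4]
    rcases z3' hβ with h | h <;> rw [h] <;> decide
  subst hc1
  simp only [one_mul] at hc
  have hpol : ∀ v w, polar Q (b.1 v) (b.1 w) = polar Q v w := fun v w => by
    have := sim_polar (b := b.1) (c := 1) (fun v => by rw [hc, one_mul]) v w
    rwa [one_mul] at this
  -- the image of `f₀`
  have hκκ : κ * κ = 1 := by rcases z3' hκ with h | h <;> rw [h] <;> decide
  have hββ : β * β = 1 := by rcases z3' hβ with h | h <;> rw [h] <;> decide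
  have hf0 : b.1 (f 0) = κ • e 0 := by
    have k1 : ∀ i : Fin 4, i ≠ 0 → (b.1 (f 0)) (.inr i) = 0 := by
      intro i hi
      have h4 := hpol (e i) (f 0)
      rw [hE0 i hi, ef0 hi, polar_smul_left, polar_e] at h4
      exact (smul_eq_zero.1 h4).resolve_left hβ
    have k2 : ∀ i : Fin 4, i ≠ 0 → (b.1 (f 0)) (.inl i) = 0 := by
      intro i hi
      have h4 := hpol (f i) (f 0)
      rw [hF0 i hi, polar_ff, polar_smul_left, polar_f] at h4
      exact (smul_eq_zero.1 h4).resolve_left hβ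
    have k3 : (b.1 (f 0)) (.inl 0) = κ := by
      have h4 := hpol (e 0) (f 0)
      rw [hb0, eid, polar_smul_left, polar_f, smul_eq_mul] at h4
      have h5 : κ * (κ * (b.1 (f 0)) (.inl 0)) = κ * 1 := by rw [h4]
      rw [← mul_assoc, hκκ, one_mul, mul_one] at h5
      exact h5
    have k4 : (b.1 (f 0)) (.inr 0) = 0 := by
      have h4 := hc (f 0)
      rw [Q_f, norm8, k1 1 (by decide), k1 2 (by decide), k1 3 (by decide), k3] at h4
      simp only [mul_zero, add_zero] at h4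
      exact (mul_eq_zero.1 h4).resolve_left hκ
    funext j
    rcases j with i | i
    · by_cases hi : i = 0
      · rw [hi, k3]; simp [e]
      · rw [k2 i hi]; simp [e, hi]
    · by_cases hi : i = 0
      · rw [hi, k4]; simp [e]
      · rw [k1 i hi]; simp [e]
  -- conclusion
  apply hn
  have hβκ : β * κ = 1 ∨ β * κ = -1 := z3' (mul_ne_zero hβ hκ)
  have hz : β * (β * κ) = κ := by rw [← mul_assoc, hββ, one_mul]
  rcases hβκ with h | h
  · rw [h, mul_one] at hz
    subst hz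
    have : psi b = psi rho := by
      refine psi_congr (c := β) (fun i => ?_) (fun i => ?_)
      · by_cases hi : i = 0
        · rw [hi, rho_e0, hb0]
        · rw [rho_e hi, hE0 i hi]
      · by_cases hi : i = 0
        · rw [hi, rho_f0, hf0]
        · rw [rho_f hi, hF0 i hi]
    rw [this]
    exact gd_rho C
  · have hκβ : κ = -β := by rw [← hz, h]; ring
    subst hκβ
    have nf : ∀ i, nu⁻¹.1 (f i) = -f i := by
      intro i
      have h4 := sg_inv_apply nu (f i)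
      rw [nu_f, map_neg] at h4
      rw [← neg_neg (nu⁻¹.1 (f i)), h4]
    have ne : ∀ i, nu⁻¹.1 (e i) = e i := by
      intro i
      have h4 := sg_inv_apply nu (e i)
      rwa [nu_e] at h4
    have h4 : psi b = psi (nu⁻¹ * rho * nu) := by
      refine psi_congr (c := β) (fun i => ?_) (fun i => ?_)
      · rw [sg_mul_apply, sg_mul_apply, nu_e]
        by_cases hi : i = 0
        · rw [hi, rho_e0, nf, hb0]
          module
        · rw [rho_e hi, ne, hE0 i hi]
      · rw [sg_mul_apply, sg_mul_apply, nu_f, map_neg, map_neg]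
        by_cases hi : i = 0
        · rw [hi, rho_f0, ne, hf0]
          module
        · rw [rho_f hi, nf, hF0 i hi]
          module
    rw [h4]
    apply Gd.of_psi_conj nu⁻¹
    have h5 : nu⁻¹⁻¹ * (nu⁻¹ * rho * nu) * nu⁻¹ = rho := by group
    rw [h5]
    exact gd_rho C

/-- **similitudes** -/
theorem gd_psi {b : SG R} (hb : psi b ≠ 1) : Gd (psi b) := by
  by_cases h : ∀ p, Q p = 0 → polar Q p (b.1 p) = 0
  · exact one_beta C hb h
  push Not at h
  obtain ⟨p, hp, hne⟩ := h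
  obtain ⟨c, hc0, hc'⟩ := b.2
  have hc : ∀ v, Q (b.1 v) = c * Q v := hc'
  set! κ := polar Q p (b.1 p) with hκ; rewrite [← hκ] at hne
  have hκκ : κ⁻¹ * κ = 1 := inv_mul_cancel₀ hne
  have hκκ' : κ * κ⁻¹ = 1 := mul_inv_cancel₀ hne
  have h1 : Hyp Q (e 0) (f 0) := ⟨Q_e 0, Q_f 0, by rw [polar_ef, if_pos rfl]⟩
  have h2 : Hyp Q p (κ⁻¹ • b.1 p) :=
    ⟨hp, by rw [QuadraticMap.map_smul, hc, hp]; simp, by rw [polar_smul_right, ← hκ, smul_eq_mul, hκκ]⟩
  obtain ⟨g, hg, hg1, hg2⟩ := hG.trans_hyp h1 h2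
  let γ : SG R := ⟨g, E_le_SG hg⟩
  apply Gd.of_psi_conj γ
  refine one_alpha0 C hne ?_
  rw [sg_mul_apply, sg_mul_apply]
  have h3 : γ.1 (e 0) = p := hg1
  have h4 : γ.1 (f 0) = κ⁻¹ • b.1 p := hg2
  rw [h3]
  have h5 : b.1 p = γ.1 (κ • f 0) := by rw [map_smul, h4, smul_smul, hκκ', one_smul]
  rw [h5, sg_inv_apply]

end Cfsg.Agent.H62.Oe
end

-- part: H62/Oe/CaseTwo
section
/-!
# S3938, `Ω⁺₈(3)`: automorphisms mapping a point stabiliser to the stabiliser of an opposite 4-space (helper62)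
-/

set_option autoImplicit false
set_option linter.unusedSectionVars false
set_option linter.style.haveILetI false

namespace Cfsg.Agent.H62.Oe

open Module QuadraticMap Cfsg.Agent.LieClassical.OrthCore Cfsg.Agent.LieClassical.OrthTrans
  Cfsg.Agent.LieClassical.OrthSimple
  Cfsg.Agent.ClassicalGeometry.OrthAut1 Cfsg.Agent.ClassicalGeometry.OrthAut2
  Cfsg.Agent.ClassicalGeometry.OrthAut2b Cfsg.Agent.H907.TriFlag
  Cfsg.Agent.LieClassical.QuadForms Cfsg.Agent.ClassicalGeometry.TrialityOct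
  Cfsg.Agent.ClassicalGeometry.Triality Cfsg.Agent.ClassicalGeometry.OrthSemi Cfsg.Agent.H198.TriAut
  Cfsg.Agent.H465.OEight

theorem finrank_V : finrank R V = 8 := by simp

/-- equal root elements -/
theorem rt_inj {u w u' w' : V} (hu : Q u = 0) (hw : polar Q u w = 0) (hu' : Q u' = 0) (hw' : polar Q u' w' = 0)
    (h : rt u w = rt u' w') (v : V) :
    polar Q u v • w - polar Q w v • u - (Q w * polar Q u v) • u =
      polar Q u' v • w' - polar Q w' v • u' - (Q w' * polar Q u' v) • u' := by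
  rw [rt_eq hu hw, rt_eq hu' hw'] at h
  obtain ⟨c, hc⟩ := center_scalar hG (QuotientGroup.eq.1 h)
  have h2 : ∀ v, ((sg u' w' hu' hw' : ↥(E Q)) : V ≃ₗ[R] V) v
      = c • ((sg u w hu hw : ↥(E Q)) : V ≃ₗ[R] V) v := by
    intro v
    have h3 := hc v
    have h4 : ((sg u w hu hw : ↥(E Q)) : V ≃ₗ[R] V) ((((sg u w hu hw)⁻¹ * sg u' w' hu' hw' : ↥(E Q)) :
        V ≃ₗ[R] V) v) = ((sg u' w' hu' hw' : ↥(E Q)) : V ≃ₗ[R] V) v := by
      show ((sg u w hu hw : ↥(E Q)) : V ≃ₗ[R] V) (((sg u w hu hw : ↥(E Q)) : V ≃ₗ[R] V).symm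
        (((sg u' w' hu' hw' : ↥(E Q)) : V ≃ₗ[R] V) v)) = _
      rw [LinearEquiv.apply_symm_apply]
    rw [← h4, h3, map_smul]
  have hc1 : c = 1 := by
    obtain ⟨a, ha0, ha⟩ := exists_perp_ne (Q := Q) ![u, w, u', w'] (by rw [finrank_V]; norm_num)
    have h3 : polar Q u a = 0 := ha 0
    have h4 : polar Q w a = 0 := ha 1
    have h5 : polar Q u' a = 0 := ha 2
    have h6 : polar Q w' a = 0 := ha 3
    have h7 := h2 a
    rw [sg_apply, sg_apply, h3, h4, h5, h6] at h7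
    simp only [zero_smul, mul_zero, add_zero, sub_zero] at h7
    have h8 : (c - 1) • a = 0 := by rw [sub_smul, one_smul, ← h7, sub_self]
    exact sub_eq_zero.1 ((smul_eq_zero.1 h8).resolve_right ha0)
  have h3 := h2 v
  rw [hc1, one_smul, sg_apply, sg_apply] at h3
  have h4 : polar Q u v • w - polar Q w v • u - (Q w * polar Q u v) • u =
      (v + polar Q u v • w - polar Q w v • u - (Q w * polar Q u v) • u) - v := by module
  rw [h4, ← h3]
  module

theorem rt_zero {u : V} (hu : Q u = 0) : rt u 0 = 1 := by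
  have h0 : polar Q u 0 = 0 := polar_zero_right _ _
  have h2 : rt u 0 * rt u 0 = rt u 0 := by
    rw [rt_eq hu h0, ← QuotientGroup.mk_mul, sg_mul hu h0 h0 (by rw [add_zero]; exact h0)]
    exact congrArg _ (sg_congr hu _ _ (add_zero 0))
  exact mul_eq_left.1 h2

theorem rt_eq_one {u w : V} (hu : Q u = 0) (hu0 : u ≠ 0) (hw : polar Q u w = 0) (h : rt u w = 1) :
    ∃ c : R, w = c • u := by
  rw [← rt_zero hu, rt_eq hu hw, rt_eq hu (polar_zero_right _ u), sg_eq_sg_iff hG hu hu0] at h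
  obtain ⟨c, hc⟩ := h
  exact ⟨-c, by rw [neg_smul, ← hc]; abel⟩

/-- a root element on two points is a long root element -/
theorem Q_of_two {u w u' w' : V} (hu : Q u = 0) (hu0 : u ≠ 0) (hw : polar Q u w = 0) (hu' : Q u' = 0)
    (hw' : polar Q u' w' = 0) (hne : ∀ k : R, u' ≠ k • u) (h : rt u w = rt u' w') : Q w = 0 := by
  by_cases hk : ∃ k : R, w' = k • u'
  · obtain ⟨k, rfl⟩ := hk
    have h1 : rt u' (k • u') = 1 := by
      have h2 := rt_add hu' (polar_zero_right _ u') k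
      rw [zero_add, rt_zero hu'] at h2
      exact h2
    rw [h1] at h
    obtain ⟨c, rfl⟩ := rt_eq_one hu hu0 hw h
    rw [QuadraticMap.map_smul, hu, smul_zero]
  push Not at hk
  obtain ⟨v, hv1, hv2⟩ := exists_sep hG.nondeg hk
  have h1 := rt_inj hu hw hu' hw' h v
  rw [hv1, hv2] at h1
  simp only [zero_smul, one_smul, mul_zero, sub_zero, zero_sub] at h1
  have h2 : u' = (-polar Q u v) • w + (polar Q w v + Q w * polar Q u v) • u := by
    have h3 : u' = -(-u') := (neg_neg _).symm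
    rw [h3, ← h1]
    module
  have h3 := hu'
  have hwu : polar Q w u = 0 := by rw [polar_comm]; exact hw
  rw [h2, Q_add, QuadraticMap.map_smul, QuadraticMap.map_smul, hu, polar_smul_left, polar_smul_right, hwu] at h3
  simp only [smul_eq_mul, mul_zero, add_zero] at h3
  rcases mul_eq_zero.1 h3 with h4 | h4
  · exfalso
    have h5 : -polar Q u v = 0 := mul_self_eq_zero.1 h4
    rw [h5, zero_smul, zero_add] at h2
    exact hne _ h2
  · exact h4

/-- the space `⟨e₀, …, e₃⟩` -/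
def L0 : Submodule R V where
  carrier := {v | ∀ i, v (.inr i) = 0}
  add_mem' := fun {v w} hv hw i => by
    show v (.inr i) + w (.inr i) = 0
    rw [hv i, hw i, add_zero]
  zero_mem' := fun _ => rfl
  smul_mem' := fun a {v} hv i => by
    show a * v (.inr i) = 0
    rw [hv i, mul_zero]

theorem TS_L0 : TS Q L0 := by
  intro w hw
  rw [norm8, hw 0, hw 1, hw 2, hw 3]
  simp

theorem e_mem (i : Fin 4) : e i ∈ L0 := fun j => by simp [e]

section

variable {b : MulAut PP} (hb : (stab hG L0).map b.toMonoidHom = stab hG (Submodule.span R {f 0}))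

include hb

theorem map_UP {t : PP} (ht : t ∈ UP Q L0) : b t ∈ UP Q (Submodule.span R {f 0}) := by
  have h1 := le_UP_of_normal hG (by rw [finrank_V]; norm_num) 3 (Q_f 0) (f_ne 0) ((UP Q L0).map b.toMonoidHom)
    (by
      rw [← hb]
      exact Subgroup.map_mono (UP_le_stab hG _))
    (by
      rintro g hg _ ⟨t, ht, rfl⟩
      rw [← hb] at hg
      obtain ⟨s, hs, rfl⟩ := hg
      refine ⟨s * t * s⁻¹, conj_mem_UP_of_stab hs ht, ?_⟩
      simp only [map_mul, map_mul, map_inv])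
    ((isPGroup_UP (Q := Q) 3 L0).map _)
  exact h1 ⟨t, ht, rfl⟩

theorem map_UP' (p : PP) {t : PP} (ht : t ∈ UP Q (pact hG p L0)) :
    b t ∈ UP Q (pact hG (b p) (Submodule.span R {f 0})) := by
  have h1 := conj_mem_UP hG (p := p⁻¹) ht
  simp only [map_inv, ← Equiv.Perm.mul_apply, inv_mul_cancel, Equiv.Perm.one_apply, inv_inv] at h1
  have h2 := conj_mem_UP hG (p := b p) (map_UP hb h1)
  have h3 : b p * b (p⁻¹ * t * p) * (b p)⁻¹ = b t := by
    simp only [map_mul, map_mul, map_inv]; group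
  rwa [h3] at h2

theorem map_rt (g : ↥(E Q)) {m₁ m₂ : V} (h1 : m₁ ∈ L0) (h2 : m₂ ∈ L0) (hg1 : (g : V ≃ₗ[R] V) m₁ = m₁)
    (hg2 : (g : V ≃ₗ[R] V) m₂ = m₂) {z : V} (hz : z ∈ L0) (hgz : (g : V ≃ₗ[R] V) z ∉ L0) :
    ∃ w, Q w = 0 ∧ polar Q (f 0) w = 0 ∧ b (rt m₁ m₂) = rt (f 0) w := by
  have hm1 : Q m₁ = 0 := TS_L0 _ h1
  have hm12 : polar Q m₁ m₂ = 0 := TS_L0.polar h1 h2
  have ht : rt m₁ m₂ ∈ UP Q L0 := by
    rw [rt_eq hm1 hm12]
    exact ⟨_, sg_mem_U TS_L0 h1 (fun v hv => TS_L0.polar h2 hv) hm1 hm12, rfl⟩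
  obtain ⟨w, hw, hbw⟩ := (mem_UP_span_iff hG.nondeg (Q_f 0) (f_ne 0)).1 (map_UP hb ht)
  have hpact : pact hG (g : PP) L0 = mapHom (g : V ≃ₗ[R] V) L0 := pact_mk hG g L0
  have hTS : TS Q (mapHom (g : V ≃ₗ[R] V) L0) := by
    rintro _ ⟨v, hv, rfl⟩
    exact (Q_apply g v).trans (TS_L0 v hv)
  have hm1' : m₁ ∈ mapHom (g : V ≃ₗ[R] V) L0 := ⟨m₁, h1, hg1⟩
  have hm2' : m₂ ∈ mapHom (g : V ≃ₗ[R] V) L0 := ⟨m₂, h2, hg2⟩
  have ht' : rt m₁ m₂ ∈ UP Q (pact hG (g : PP) L0) := by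
    rw [hpact, rt_eq hm1 hm12]
    exact ⟨_, sg_mem_U hTS hm1' (fun v hv => hTS.polar hm2' hv) hm1 hm12, rfl⟩
  have h3 := map_UP' hb (g : PP) ht'
  obtain ⟨h, hh⟩ := QuotientGroup.mk_surjective (b (g : PP))
  rw [← hh] at h3
  change b (rt m₁ m₂) ∈ UP Q (pact hG (h : PP) (Submodule.span R {f 0})) at h3
  rw [pact_mk, mapHom_span] at h3
  have hhf : Q ((h : V ≃ₗ[R] V) (f 0)) = 0 := (Q_apply h _).trans (Q_f 0)
  have hhf0 : (h : V ≃ₗ[R] V) (f 0) ≠ 0 := fun h0 => f_ne 0 ((h : V ≃ₗ[R] V).map_eq_zero_iff.1 h0)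
  obtain ⟨w', hw', hbw'⟩ := (mem_UP_span_iff hG.nondeg hhf hhf0).1 h3
  refine ⟨w, ?_, hw, hbw.trans (rt_eq (Q_f 0) hw).symm⟩
  refine Q_of_two (Q_f 0) (f_ne 0) hw hhf hw' ?_ ?_
  · intro k hk
    have h4 : (h : PP) ∈ stab hG (Submodule.span R {f 0}) := by
      apply mem_stab_of_map_le hG
      intro v hv
      obtain ⟨c, rfl⟩ := Submodule.mem_span_singleton.1 hv
      rw [map_smul, hk]
      exact Submodule.smul_mem _ _ (Submodule.smul_mem _ _ (Submodule.mem_span_singleton_self _))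
    rw [← hb] at h4
    obtain ⟨s, hs, hs'⟩ := h4
    have h5 : b s = b (g : PP) := hs'.trans hh
    have h6 : (g : PP) ∈ stab hG L0 := by
      rw [← b.injective h5]; exact hs
    exact hgz (apply_mem_of_mem_stab h6 hz)
  · rw [rt_eq (Q_f 0) hw, rt_eq hhf hw', ← hbw, ← hbw']

end

variable (C : Cert rho)

include C

theorem two_opp {b : MulAut PP} (hb : (stab hG L0).map b.toMonoidHom = stab hG (Submodule.span R {f 0})) : Gd b := by
  by_contra hn
  -- the first root element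
  have p00 : polar Q (e 0) (f 0) = 1 := by rw [polar_ef, if_pos rfl]
  have p10 : polar Q (e 1) (f 0) = 0 := by rw [polar_ef, if_neg (by decide)]
  have p01 : polar Q (f 0) (e 1) = 0 := by rw [polar_comm]; exact p10
  have p20 : polar Q (e 2) (f 0) = 0 := by rw [polar_ef, if_neg (by decide)]
  have ef : ∀ {i j : Fin 4}, i ≠ j → polar Q (e i) (f j) = 0 := fun {i j} h => by rw [polar_ef, if_neg h]
  have fe : ∀ {i j : Fin 4}, i ≠ j → polar Q (f i) (e j) = 0 := fun {i j} h => by rw [polar_fe, if_neg h]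
  have efi : ∀ (i : Fin 4), polar Q (e i) (f i) = 1 := fun i => by rw [polar_ef, if_pos rfl]
  have fei : ∀ (i : Fin 4), polar Q (f i) (e i) = 1 := fun i => by rw [polar_fe, if_pos rfl]
  -- a uniform statement
  have key : ∀ m : V, m ∈ L0 → polar Q m (f 0) = 1 → (∀ k : R, e 1 ≠ k • m) →
      (∃ g : ↥(E Q), (g : V ≃ₗ[R] V) m = m ∧ (g : V ≃ₗ[R] V) (e 1) = e 1 ∧ ∃ z ∈ L0, (g : V ≃ₗ[R] V) z ∉ L0) →
      ∃ a : R, a ≠ 0 ∧ b (rt m (e 1)) = rt (f 0) (a • e 1) := by
    rintro m hm hmf hm1 ⟨g, hgm, hg1, z, hz, hgz⟩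
    obtain ⟨w, hw, hfw, hbw⟩ := map_rt hb g hm (e_mem 1) hgm hg1 hz hgz
    have hQm := TS_L0 m hm
    have hm1' : polar Q m (e 1) = 0 := TS_L0.polar hm (e_mem 1)
    have hwk : ∀ k : R, w ≠ k • f 0 := by
      rintro k rfl
      have h2 : rt (f 0) (k • f 0) = 1 := by
        have h3 := rt_add (Q_f 0) (polar_zero_right _ (f 0)) k
        rw [zero_add, rt_zero (Q_f 0)] at h3
        exact h3
      rw [h2, map_eq_one_iff b b.injective] at hbw
      obtain ⟨k, hk⟩ := rt_eq_one hQm (by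
        rintro rfl
        rw [polar_zero_left] at hmf
        exact zero_ne_one hmf) hm1' hbw
      exact hm1 k hk
    rcases pair C (α := b) (u := m) (w := e 1) (u' := f 0) (w' := w) hQm (Q_e 1) hm1' (Q_f 0) hw hfw
      (by rw [hmf]; exact one_ne_zero) hm1 hwk hbw with h | ⟨a1, a2, a3, h⟩
    · exact absurd h hn
    · have h4 := congrArg (polar Q (f 0)) h
      have hfm : polar Q (f 0) m = 1 := by rw [polar_comm]; exact hmf
      rw [hfw, polar_add_right, polar_add_right, polar_smul_right, polar_smul_right, polar_smul_right, p01, hfm,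
        polar_ff] at h4
      simp only [smul_eq_mul, mul_one, mul_zero, zero_add, add_zero] at h4
      rw [← h4, zero_smul, add_zero] at h
      refine ⟨a1, ?_, ?_⟩
      · rintro rfl
        rw [zero_smul, zero_add] at h
        exact hwk _ h
      · rw [hbw, h]
        exact rt_add (Q_f 0) (by rw [polar_smul_right, p01, smul_zero]) a3
  have hne0 : ∀ k : R, e 1 ≠ k • e 0 := by
    intro k hk
    have := congrArg (polar Q (f 1)) hk
    rw [fei, polar_smul_right, fe (by decide), smul_zero] at this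
    exact one_ne_zero this
  have hne2 : ∀ k : R, e 1 ≠ k • (e 0 + e 2) := by
    intro k hk
    have := congrArg (polar Q (f 1)) hk
    rw [fei, polar_smul_right, polar_add_right, fe (by decide), fe (by decide), add_zero, smul_zero] at this
    exact one_ne_zero this
  obtain ⟨a1, ha1, h1⟩ := key (e 0) (e_mem 0) p00 hne0 (by
    refine ⟨sg (f 2) (f 3) (Q_f 2) (polar_ff 2 3), ?_, ?_, e 2, e_mem 2, ?_⟩
    · rw [sg_apply, fe (by decide), fe (by decide)]; simp
    · rw [sg_apply, fe (by decide), fe (by decide)]; simp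
    · rw [sg_apply, fei, fe (by decide)]
      intro h
      have := h 3
      simp only [e, f, _root_.Fin.isValue, _root_.one_smul, _root_.zero_smul, _root_.sub_zero, _root_.mul_one, _root_.Pi.sub_apply, _root_.Pi.add_apply, _root_.ne_eq, _root_.reduceCtorEq, _root_.not_false_eq_true, _root_.Pi.single_eq_of_ne, _root_.Pi.single_eq_same, _root_.zero_add, _root_.Pi.smul_apply, _root_.Sum.inr.injEq, _root_.Fin.reduceEq, _root_.smul_eq_mul, _root_.MulZeroClass.mul_zero, _root_.one_ne_zero] at this)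
  have hQ20 : Q (f 2 - f 0) = 0 := by
    have : f 2 - f 0 = f 2 + (-1 : R) • f 0 := by module
    rw [this, Q_add, QuadraticMap.map_smul, Q_f, Q_f, polar_smul_right, polar_ff]; simp
  have hp203 : polar Q (f 2 - f 0) (f 3) = 0 := by rw [polar_sub_left, polar_ff, polar_ff, sub_zero]
  obtain ⟨a2, ha2, h2⟩ := key (e 0 + e 2) (L0.add_mem (e_mem 0) (e_mem 2)) (by
      rw [polar_add_left, p00, p20, add_zero]) hne2 (by
    refine ⟨sg (f 2 - f 0) (f 3) hQ20 hp203, ?_, ?_, e 3, e_mem 3, ?_⟩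
    · rw [sg_apply, polar_add_right, polar_sub_left, polar_sub_left, polar_add_right, fe (by decide), fei, fei,
        fe (by decide), fe (by decide), fe (by decide)]; simp
    · rw [sg_apply, polar_sub_left, fe (by decide), fe (by decide), fe (by decide)]; simp
    · rw [sg_apply, polar_sub_left, fei, fe (by decide), fe (by decide)]
      intro h
      have := h 2
      simp only [e, f, _root_.Fin.isValue, _root_.sub_self, _root_.zero_smul, _root_.add_zero, _root_.one_smul, _root_.MulZeroClass.mul_zero, _root_.Pi.sub_apply, _root_.ne_eq, _root_.reduceCtorEq, _root_.not_false_eq_true, _root_.Pi.single_eq_of_ne, _root_.Pi.single_eq_same, _root_.Sum.inr.injEq, _root_.Fin.reduceEq, _root_.sub_zero, _root_.zero_sub, _root_.Pi.zero_apply, _root_.neg_eq_zero, _root_.one_ne_zero] at this)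
  -- compare
  have hQ02 : Q (e 0 + e 2) = 0 := TS_L0 _ (L0.add_mem (e_mem 0) (e_mem 2))
  have hp021 : polar Q (e 0 + e 2) (e 1) = 0 := TS_L0.polar (L0.add_mem (e_mem 0) (e_mem 2)) (e_mem 1)
  have hpk : ∀ k : R, polar Q (f 0) (k • e 1) = 0 := fun k => by rw [polar_smul_right, p01, smul_zero]
  have hk : ∃ k : R, k ≠ 0 ∧ rt (e 0) (e 1) = rt (e 0 + e 2) (k • e 1) := by
    by_cases h12 : a1 = a2
    · refine ⟨1, one_ne_zero, ?_⟩
      rw [one_smul]
      apply b.injective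
      rw [h1, h2, h12]
    · refine ⟨-1, neg_ne_zero.2 one_ne_zero, ?_⟩
      have h3 : a1 = -a2 := by
        rcases z3' ha1 with h | h <;> rcases z3' ha2 with h' | h' <;> subst h <;> subst h'
        · exact absurd rfl h12
        · decide
        · rfl
        · exact absurd rfl h12
      apply b.injective
      simp_rw [neg_one_smul, rt_inv hQ02 hp021, map_inv, h1, h2, h3, neg_smul, rt_inv (Q_f 0) (hpk a2)]
  obtain ⟨k, hk0, hk⟩ := hk
  have h3 := rt_inj (Q_e 0) (polar_ee 0 1) hQ02 (by rw [polar_smul_right, hp021, smul_zero]) hk (f 1)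
  have h4 := congrArg (polar Q (f 2)) h3
  simp only [polar_sub_right, polar_smul_right, polar_smul_left, polar_add_right, polar_add_left, polar_ef, polar_fe,
    QuadraticMap.map_smul, Q_e] at h4
  simp only [show ¬ ((0 : Fin 4) = 1) by decide, show ¬ ((2 : Fin 4) = 1) by decide, show ¬ ((2 : Fin 4) = 0) by decide,
    if_false, if_true, smul_eq_mul, mul_zero, zero_mul, sub_zero, mul_one, zero_add, add_zero, zero_sub] at h4
  exact hk0 (neg_eq_zero.1 h4.symm)

end Cfsg.Agent.H62.Oe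
end

-- part: H62/Oe/CaseTwoB
section
/-!
# S3938, `Ω⁺₈(3)`: triality automorphisms of order 3 (helper62)
-/

set_option autoImplicit false
set_option linter.unusedSectionVars false
set_option linter.style.haveILetI false

namespace Cfsg.Agent.H62.Oe

open Module QuadraticMap Cfsg.Agent.LieClassical.OrthCore Cfsg.Agent.LieClassical.OrthTrans
  Cfsg.Agent.LieClassical.OrthSimple
  Cfsg.Agent.ClassicalGeometry.OrthAut1 Cfsg.Agent.ClassicalGeometry.OrthAut2
  Cfsg.Agent.ClassicalGeometry.OrthAut2b Cfsg.Agent.H907.TriFlag Cfsg.Agent.ClassicalGeometry.TrialityIndex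
  Cfsg.Agent.LieClassical.QuadForms Cfsg.Agent.ClassicalGeometry.TrialityOct
  Cfsg.Agent.ClassicalGeometry.Triality Cfsg.Agent.ClassicalGeometry.OrthSemi Cfsg.Agent.H198.TriAut
  Cfsg.Agent.H465.OEight

/-- standard position of a 4-space and a point outside -/
theorem exists_std {u : V} (hu : Q u = 0) {S : Submodule R V} (hS : TS Q S) (h4 : finrank R S = 4) (huS : u ∉ S) :
    ∃ g : SG R, g.1 (f 0) = u ∧ im g.1 L0 = S := by
  have h8 := finrank_V
  obtain ⟨s0, hs0, hs0u⟩ : ∃ s ∈ S, polar Q u s = 1 := by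
    by_contra hcon
    push Not at hcon
    apply huS
    refine mem_of_perp hG hS (by omega) fun a ha => ?_
    by_contra hne
    apply hcon ((polar Q u a)⁻¹ • a) (S.smul_mem _ ha)
    rw [polar_smul_right, smul_eq_mul, inv_mul_cancel₀ hne]
  have h3 : finrank R (perpIn Q S u) = 3 := by
    have h1 := finrank_perpIn (Q := Q) S u
    have h2 : finrank R (perpIn Q S u) < 4 := by
      refine lt_of_lt_of_eq (Submodule.finrank_lt_finrank_of_lt (inf_le_left.lt_of_ne fun h => ?_)) h4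
      have h5 : s0 ∈ perpIn Q S u := by
        rw [perpIn, h]; exact hs0
      have h6 := (mem_perpIn.1 h5).2
      rw [hs0u] at h6
      exact one_ne_zero h6
    omega
  let B : Basis (Fin 3) R (perpIn Q S u) := finBasisOfFinrankEq R _ h3
  have hBS : ∀ i, (B i : V) ∈ S := fun i => (mem_perpIn.1 (B i).2).1
  have hBu : ∀ i, polar Q u (B i : V) = 0 := fun i => (mem_perpIn.1 (B i).2).2
  have hBu' : ∀ i, polar Q (B i : V) u = 0 := fun i => by rw [polar_comm]; exact hBu i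
  have hs0u' : polar Q s0 u = 1 := by rw [polar_comm]; exact hs0u
  have huu := polar_self_of_sing hu
  obtain ⟨g, hg, hxy⟩ := witt (x := ![e 0, e 1, e 2, e 3, f 0]) (y := ![s0, B 0, B 1, B 2, u]) (li_of fun g hg => by
      simp only [Fin.sum_univ_five, Matrix.cons_val] at hg
      have h0 := congrFun hg (.inl 0)
      have h1 := congrFun hg (.inl 1)
      have h2 := congrFun hg (.inl 2)
      have h3 := congrFun hg (.inl 3)
      have h4 := congrFun hg (.inr 0)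
      simp [e, f] at h0 h1 h2 h3 h4
      intro i
      fin_cases i <;> assumption) (li_of fun g hg => by
      simp only [Fin.sum_univ_five, Matrix.cons_val] at hg
      have h0 := congrArg (polar Q u) hg
      simp only [polar_add_right, polar_smul_right, polar_zero_right, hs0u, hBu, huu, smul_eq_mul, mul_zero, mul_one,
        add_zero] at h0
      have h4 := congrArg (polar Q s0) hg
      simp only [polar_add_right, polar_smul_right, polar_zero_right, hs0u', hS.polar hs0 (hBS _),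
        hS.polar hs0 hs0, smul_eq_mul, mul_zero, mul_one, add_zero, zero_add] at h4
      rw [h0, h4, zero_smul, zero_smul, zero_add, add_zero] at hg
      have h5 : ∑ i : Fin 3, (![g 1, g 2, g 3] i) • B i = 0 := by
        apply Subtype.ext
        simp only [Fin.sum_univ_three, Matrix.cons_val]
        exact hg
      have h6 := Fintype.linearIndependent_iff.1 B.linearIndependent _ h5
      have h61 : g 1 = 0 := h6 0
      have h62 : g 2 = 0 := h6 1
      have h63 : g 3 = 0 := h6 2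
      intro i
      fin_cases i <;> assumption) (by
      intro i
      fin_cases i <;> simp only [Matrix.cons_val, Fin.zero_eta, Fin.mk_one, Fin.reduceFinMk, Fin.isValue, Q_e, Q_f,
        hu, hS s0 hs0, hS _ (hBS _)]) (by
      intro i j
      fin_cases i <;> fin_cases j <;> simp only [Matrix.cons_val, Fin.zero_eta, Fin.mk_one, Fin.reduceFinMk,
        Fin.isValue, polar_ee, polar_ff, polar_ef, polar_fe, hS.polar hs0 (hBS _), hS.polar (hBS _) hs0,
        hS.polar hs0 hs0, hS.polar (hBS _) (hBS _), hBu, hBu', hs0u, hs0u', huu] <;> rfl)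
  have g0 : g.1 (e 0) = s0 := hxy 0
  have g1 : g.1 (e 1) = B 0 := hxy 1
  have g2 : g.1 (e 2) = B 1 := hxy 2
  have g3 : g.1 (e 3) = B 2 := hxy 3
  have g4 : g.1 (f 0) = u := hxy 4
  refine ⟨g, g4, le_antisymm ?_ ?_⟩
  · rintro _ ⟨v, hv, rfl⟩
    have h1 : v = v (.inl 0) • e 0 + v (.inl 1) • e 1 + v (.inl 2) • e 2 + v (.inl 3) • e 3 := by
      funext j
      rcases j with i | i
      · fin_cases i <;> simp [e]
      · rw [hv i]; simp [e]
    show g.1 v ∈ S
    rw [h1, map_add, map_add, map_add, map_smul, map_smul, map_smul, map_smul, g0, g1, g2, g3]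
    exact S.add_mem (S.add_mem (S.add_mem (S.smul_mem _ hs0) (S.smul_mem _ (hBS _))) (S.smul_mem _ (hBS _)))
      (S.smul_mem _ (hBS _))
  · intro v hv
    have h1 : v - polar Q u v • s0 ∈ perpIn Q S u := by
      rw [mem_perpIn]
      refine ⟨S.sub_mem hv (S.smul_mem _ hs0), ?_⟩
      rw [polar_sub_right, polar_smul_right, hs0u, smul_eq_mul, mul_one, sub_self]
    have h2 := congrArg (Subtype.val) (B.sum_repr ⟨_, h1⟩)
    simp only [Fin.sum_univ_three] at h2
    set! c := B.repr ⟨_, h1⟩ with hset8; rewrite [← hset8] at h2; clear hset8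
    have h3 : v = polar Q u v • s0 + (c 0 • (B 0 : V) + c 1 • (B 1 : V) + c 2 • (B 2 : V)) := by
      have h4 : c 0 • (B 0 : V) + c 1 • (B 1 : V) + c 2 • (B 2 : V) = v - polar Q u v • s0 := h2
      rw [h4]; abel
    refine ⟨polar Q u v • e 0 + (c 0 • e 1 + c 1 • e 2 + c 2 • e 3),
      L0.add_mem (L0.smul_mem _ (e_mem 0)) (L0.add_mem (L0.add_mem (L0.smul_mem _ (e_mem 1))
        (L0.smul_mem _ (e_mem 2))) (L0.smul_mem _ (e_mem 3))), ?_⟩
    show g.1 _ = v
    rw [map_add, map_add, map_add, map_smul, map_smul, map_smul, map_smul, g0, g1, g2, g3]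
    exact h3.symm

section general

variable {F W : Type*} [Field F] [AddCommGroup W] [Module F W] {q : QuadraticForm F W}

/-- a triality automorphism of order 3 has non-incident pairs -/
theorem exists_nonincident [Finite F] [FiniteDimensional F W] (hG : Good q) (p : ℕ) [Fact p.Prime] [CharP F p]
    (h8 : finrank F W = 8) {α : MulAut (P q)} (h3 : α ^ 3 = 1)
    (hS : ∀ u, q u = 0 → u ≠ 0 → ∃ X : Submodule F W, TS q X ∧ finrank F X = 4 ∧
      (stab hG (Submodule.span F {u})).map α.toMonoidHom = stab hG X)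
    (hS' : ∀ u, q u = 0 → u ≠ 0 → ∃ X : Submodule F W, TS q X ∧ finrank F X = 4 ∧
      (stab hG (Submodule.span F {u})).map (α⁻¹).toMonoidHom = stab hG X)
    (hpar : ∀ (h : ↥(E q)) (X : Submodule F W), TS q X → finrank F X = 4 →
      Even (finrank F ↥(X ⊓ mapHom (h : W ≃ₗ[F] W) X)))
    {u : W} (hQu : q u = 0) (hu0 : u ≠ 0)
    (hex : ∀ u : W, q u = 0 → u ≠ 0 → ∀ X : Submodule F W, TS q X → finrank F X = 4 →
      (stab hG (Submodule.span F {u})).map α.toMonoidHom = stab hG X → u ∈ X) : False := by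
  -- the spaces of a point
  obtain ⟨X, hX, hX4, c1⟩ := hS u hQu hu0
  obtain ⟨Y, hY, hY4, hYs⟩ := hS' u hQu hu0
  set! Cc := Submodule.span F {u} with hC; rewrite [← hC] at hYs c1
  have c2 : (stab hG X).map α.toMonoidHom = stab hG Y := by
    rw [← c1, ← hYs, ← map_mulAut_mul]
    congr 2
    rw [eq_inv_iff_mul_eq_one, mul_assoc]
    have : α * (α * α) = α ^ 3 := by rw [pow_succ, pow_two, mul_assoc]
    rw [this, h3]
  have c3 : (stab hG Y).map α.toMonoidHom = stab hG Cc := by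
    rw [← hYs, map_mulAut_inv']
  have hbot : ∀ {Z : Submodule F W}, finrank F Z = 4 → Z ≠ ⊥ := by
    rintro Z hZ rfl
    rw [finrank_bot] at hZ
    omega
  have hC1 : finrank F Cc = 1 := finrank_span_singleton hu0
  have hXY : X ≠ Y := by
    intro h
    rw [← h] at c2
    have h1 : stab hG Cc = stab hG X := Subgroup.map_injective α.injective (c1.trans c2.symm)
    have h2 := stab_injective hG (TS_span hQu) hX (by
      rw [Ne, Submodule.span_singleton_eq_bot]; exact hu0) (hbot hX4) h1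
    rw [hC, h2] at hC1
    omega
  have hdX : finrank F W = 2 * finrank F X := by omega
  have hdY : finrank F W = 2 * finrank F Y := by omega
  have huX : u ∈ X := hex u hQu hu0 X hX hX4 c1
  -- `u ∈ Y`
  have m1 : _root_.Cfsg.Agent.H907.TriFlag.Rel p (stab hG X) (stab hG Cc) → _root_.Cfsg.Agent.H907.TriFlag.Rel p (stab hG Y) (stab hG X) := fun h => by
    have := h.map α
    rwa [c1, c2] at this
  have m2 : _root_.Cfsg.Agent.H907.TriFlag.Rel p (stab hG Y) (stab hG X) → _root_.Cfsg.Agent.H907.TriFlag.Rel p (stab hG Cc) (stab hG Y) := fun h => by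
    have := h.map α
    rwa [c2, c3] at this
  have huY : u ∈ Y :=
    mem_of_rel_span hG hY hdY hQu (m2 (m1 (rel_stab_span hG p hX huX hu0)))
  have hXY3 : 3 ≤ finrank F ↥(X ⊓ Y) := by
    have h1 : _root_.Cfsg.Agent.H907.TriFlag.Rel p (stab hG X) (stab hG Y) := by
      have := (rel_span_stab hG (by omega) p hX huX hu0).map α
      rwa [c1, c2] at this
    have h2 := finrank_inf_of_UP hG hX hdX (UP_le_of_rel hG h1) (fun h =>
      hXY (Submodule.eq_of_le_of_finrank_eq h (by omega)).symm)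
    omega
  apply hXY
  refine Submodule.eq_of_le_of_finrank_eq ?_ (by omega)
  intro v hv
  by_cases hpu : ∃ k : F, v = k • u
  · obtain ⟨k, rfl⟩ := hpu
    exact Y.smul_mem _ huY
  have hp0 : v ≠ 0 := by
    rintro rfl
    exact hpu ⟨0, (zero_smul _ _).symm⟩
  have hQp : q v = 0 := hX v hv
  obtain ⟨X', hX', hX'4, d1⟩ := hS v hQp hp0
  have hpX' : v ∈ X' := hex v hQp hp0 X' hX' hX'4 d1
  have hXY3' : 3 ≤ finrank F ↥(X' ⊓ Y) := by
    have h1 : _root_.Cfsg.Agent.H907.TriFlag.Rel p (stab hG X') (stab hG Y) := by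
      have := (rel_span_stab hG (by omega) p hX hv hp0).map α
      rwa [d1, c2] at this
    by_cases h : Y ≤ X'
    · rw [inf_eq_right.2 h]; omega
    · have h2 := finrank_inf_of_UP hG hX' (by omega) (UP_le_of_rel hG h1) h
      omega
  -- parity
  have heven : Even (finrank F ↥(X ⊓ X')) := by
    obtain ⟨g, hg, hgu⟩ := hG.trans_sing hQu hQp hu0 hp0
    obtain ⟨h, hh⟩ := QuotientGroup.mk_surjective (α ((⟨g, hg⟩ : ↥(E q)) : P q))
    have h1 : stab hG X' = stab hG (pact hG (h : P q) X) := by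
      have hh' : α ((⟨g, hg⟩ : ↥(E q)) : P q) = (h : P q) := hh.symm
      rw [← d1, ← hgu, ← map_conj_stab, ← c1, ← hh', ← map_mulAut_mul, ← mul_conj, map_mulAut_mul, map_conj_stab,
        pact_mk, mapHom_span]
    rw [pact_mk] at h1
    have h2 : finrank F (mapHom (h : W ≃ₗ[F] W) X) = 4 := (LinearEquiv.finrank_map_eq _ _).trans hX4
    have h5 : X' = mapHom (h : W ≃ₗ[F] W) X := stab_injective hG hX' (by
      rintro _ ⟨v, hv, rfl⟩
      exact (Q_apply h v).trans (hX v hv)) (hbot hX'4) (hbot h2) h1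
    rw [h5]
    exact hpar h X hX hX4
  have hne : X ≠ X' := by
    intro h
    have h1 : stab hG Cc = stab hG (Submodule.span F {v}) := by
      have h2 : (stab hG Cc).map α.toMonoidHom = (stab hG (Submodule.span F {v})).map α.toMonoidHom := by
        rw [c1, d1, h]
      exact Subgroup.map_injective α.injective h2
    have h2 := stab_injective hG (TS_span hQu) (TS_span hQp) (by
      rw [Ne, Submodule.span_singleton_eq_bot]; exact hu0) (by
      rw [Ne, Submodule.span_singleton_eq_bot]; exact hp0) h1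
    have h5 : v ∈ Submodule.span F {u} := by
      rw [h2]; exact Submodule.mem_span_singleton_self v
    obtain ⟨k, hk⟩ := Submodule.mem_span_singleton.1 h5
    exact hpu ⟨k, hk.symm⟩
  have hlt : finrank F ↥(X ⊓ X') < 4 := by
    refine lt_of_lt_of_eq (Submodule.finrank_lt_finrank_of_lt (inf_le_left.lt_of_ne fun h => hne ?_)) hX4
    exact Submodule.eq_of_le_of_finrank_eq (inf_eq_left.1 h) (by omega)
  have hle2 : finrank F ↥(X ⊓ X') ≤ 2 := by
    rw [Nat.even_iff] at heven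
    omega
  -- the intersection inside `Y`
  have h1 := Submodule.finrank_sup_add_finrank_inf_eq (X ⊓ Y) (X' ⊓ Y)
  have h2 : finrank F ↥(X ⊓ Y ⊔ X' ⊓ Y) ≤ finrank F Y := Submodule.finrank_mono (sup_le inf_le_right inf_le_right)
  have h5 : (X ⊓ Y) ⊓ (X' ⊓ Y) ≤ X ⊓ X' := le_inf (inf_le_left.trans inf_le_left) (inf_le_right.trans inf_le_left)
  have h6 : (X ⊓ Y) ⊓ (X' ⊓ Y) = X ⊓ X' := Submodule.eq_of_le_of_finrank_le h5 (by omega)
  have h7 : v ∈ (X ⊓ Y) ⊓ (X' ⊓ Y) := by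
    rw [h6]; exact ⟨hv, hpX'⟩
  exact h7.1.2

end general

instance finPP : Finite PP := by
  haveI : Finite (V ≃ₗ[R] V) := finite_equiv
  exact Quotient.finite _

variable (C : Cert rho)

include C

theorem gd_two {α : MulAut PP} (h3 : α ^ 3 = 1)
    (hα : ∀ β : MulAut PP, β⁻¹ * α * β ∉ (Psi Q).range) : Gd α := by
  have hn : α ∉ (Psi Q).range := by
    have := hα 1
    (simp only [inv_one, one_mul, mul_one] at this; assumption)
  have hn' : α⁻¹ ∉ (Psi Q).range := fun h => hn (inv_mem_iff.1 h)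
  by_cases hex : ∃ u : V, Q u = 0 ∧ u ≠ 0 ∧ ∃ X : Submodule R V, TS Q X ∧ finrank R X = 4 ∧
      (stab hG (Submodule.span R {u})).map α.toMonoidHom = stab hG X ∧ u ∉ X
  · obtain ⟨u, hu, hu0, X, hX, h4, hst, huX⟩ := hex
    obtain ⟨g, hg1, hg2⟩ := exists_std hu hX h4 huX
    have h1 : (stab hG L0).map ((psi g)⁻¹ * α⁻¹ * psi g).toMonoidHom = stab hG (Submodule.span R {f 0}) := by
      rw [map_mulAut_mul, map_mulAut_mul, map_stab, hg2, ← hst, map_mulAut_inv, ← hg1, ← mapHom_span,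
        mapHom_eq_im, ← map_stab, map_mulAut_inv]
    exact ((two_opp C h1).of_conj _).of_inv
  exfalso
  push Not at hex
  refine exists_nonincident (q := Q) hG 3 finrank_V h3 (fun u hu hu0 => exists_four_of hG hn hu hu0)
    (fun u hu hu0 => exists_four_of hG hn' hu hu0) (fun h X hX hX4 => ?_) (Q_e 0) (e_ne 0) hex
  have h6 := H462.OEight.ev_of_E h.2 X ⟨hX4, hX⟩
  rw [H462.OEight.mem_img_ofO] at h6
  rw [Nat.even_add] at h6
  exact h6.1 (by decide)

end Cfsg.Agent.H62.Oe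
end

-- part: H304/Spr/Base
section
/-!
# S3938, `PΩ⁺₈(3)`: generation certificates, tools (helper304)

* `rt p q` : the long root element `w ↦ w + f(w, e_p) e_q - f(w, e_q) e_p` of `Ω⁺₈(3)`; matrix `Rm p q`
* `top_of` : a subgroup with elements of order 2, 3, 7, 13 and two non-conjugate subgroups of order 5 is everything
-/

set_option autoImplicit false
set_option maxRecDepth 100000

namespace Cfsg.Agent.H304.Spr

open Subgroup Cfsg Cfsg.Agent Cfsg.Agent.H503.El.O83 Cfsg.Agent.H938.Sax Matrix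

/-- a shortcut -/
noncomputable local instance instMonoidS8 : Monoid S8 := inferInstance

/-- a shortcut -/
noncomputable local instance instNPowS8 : NPow S8 := inferInstance

/-- a shortcut -/
local instance instMulHomS8 : MulHomClass (S8 →* T8) S8 T8 := inferInstance

/-- a shortcut -/
local instance instMulHomM8 : MulHomClass (S8 →* M8) S8 M8 := inferInstance

/-- the dual index -/
def sw : I8 → I8 := Sum.swap

/-- the root element -/
def Rm (p q : I8) : M8 := Matrix.of fun r c =>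
  (if r = c then 1 else 0) + (if sw c = p then 1 else 0) * (if r = q then 1 else 0) -
    (if sw c = q then 1 else 0) * (if r = p then 1 else 0)

/-- a sum -/
noncomputable def sm (n : ℕ) (f : ℕ → ℕ) : ℕ := Nat.rec 0 (fun i ih => Nat.add ih (f i)) n

theorem sm_eq (n : ℕ) (f : ℕ → ℕ) : sm n f = ∑ i ∈ Finset.range n, f i := by
  induction n with
  | zero => rfl
  | succ n ih => rw [Finset.sum_range_succ, ← ih]; rfl

theorem dig {b n : ℕ} {g : ℕ → ℕ} (hg : ∀ i, g i < b) :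
    sm n (fun i => g i * b ^ i) < b ^ n ∧ ∀ j < n, sm n (fun i => g i * b ^ i) / b ^ j % b = g j := by
  have h1 := finFunctionFinEquiv_apply (fun i : Fin n => (⟨g i, hg i⟩ : Fin b))
  rw [sm_eq, Finset.sum_range, ← h1]
  exact ⟨Fin.is_lt _, fun j hj => by
    rw [← finFunctionFinEquiv_symm_apply_val _ ⟨j, hj⟩, Equiv.symm_apply_apply]⟩

/-- evaluation of an argument -/
noncomputable def frc (n : ℕ) (f : ℕ → ℕ) : ℕ := Nat.rec (f 0) (fun k _ => f (Nat.succ k)) n

theorem frc_eq (n : ℕ) (f : ℕ → ℕ) : frc n f = f n := by cases n <;> rfl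

/-- an entry -/
def en (A r c : ℕ) : ℕ := A / (64 ^ 8) ^ r % 64 ^ 8 / 64 ^ c % 64 % 3

/-- the code of a matrix -/
noncomputable def pk (f : ℕ → ℕ → ℕ) : ℕ := sm 8 fun r => (sm 8 fun c => f r c * 64 ^ c) * (64 ^ 8) ^ r

theorem en_pk {f : ℕ → ℕ → ℕ} (h : ∀ r c, f r c < 64) {r c : ℕ} (hr : r < 8) (hc : c < 8) : en (pk f) r c = f r c % 3 := by
  rw [en, pk, (dig fun r => (dig (h r)).1).2 r hr, (dig (h r)).2 c hc]

theorem en_le (A r c : ℕ) : en A r c ≤ 2 := Nat.le_of_lt_succ (Nat.mod_lt _ three_pos)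

/-- the product -/
noncomputable def mu (A B : ℕ) : ℕ := frc A fun A => frc B fun B =>
  sm 8 fun r => (sm 8 fun k => en A r k * sm 8 fun c => en B k c * 64 ^ c) * (64 ^ 8) ^ r

/-- the position of an index -/
def ix : I8 → ℕ := Sum.elim Fin.val fun i => i.val + 4

theorem ix_lt : ∀ i, ix i < 8 := by decide

/-- the matrix of a code -/
def tm (A : ℕ) : M8 := Matrix.of fun r c => (en A (ix r) (ix c) : R3)

theorem tm_pk {f : ℕ → ℕ → ℕ} (h : ∀ r c, f r c < 64) (r c : I8) : tm (pk f) r c = f (ix r) (ix c) := by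
  rw [tm, Matrix.of_apply, en_pk h (ix_lt r) (ix_lt c), ZMod.natCast_mod]

theorem tm_mu (A B : ℕ) : tm (mu A B) = tm A * tm B := by
  have h1 : mu A B = pk fun r c => ∑ k ∈ Finset.range 8, en A r k * en B k c := by
    simp only [mu, pk, frc_eq, sm_eq, Finset.mul_sum, Finset.sum_mul, mul_assoc]
    exact Finset.sum_congr rfl fun r _ => Finset.sum_comm
  ext r c
  rw [h1, tm_pk fun r c => (Finset.sum_le_card_nsmul _ _ 4 fun k _ => Nat.mul_le_mul (en_le A r k) (en_le B k c)).trans_lt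
    (by decide), Matrix.mul_apply, Fintype.sum_sum_type, Finset.sum_range_add _ 4 4, Finset.sum_range, Finset.sum_range]
  simp only [Nat.cast_add, Nat.cast_sum, Nat.cast_mul, add_comm 4]
  rfl

/-- the transpose -/
noncomputable def tr (A : ℕ) : ℕ := frc A fun A => pk fun r c => en A c r

theorem tm_tr (A : ℕ) : tm (tr A) = (tm A).transpose := by
  ext r c
  rw [tr, frc_eq, tm_pk fun r c => (en_le A c r).trans_lt (by decide)]
  rfl

/-- the identity -/
def cI : ℕ := 0x40000000000001000000000000040000000000001000000000000040000000000001000000000000040000000000001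

/-- the form -/
def cJ : ℕ := 0x40000000000001000000000000040000000000001040000000000001000000000000040000000000001000000

theorem tm_I : tm cI = 1 ∧ tm cJ = J8 := by decide +kernel

/-- the power -/
noncomputable def pw (A k : ℕ) : ℕ := frc A fun A => Nat.rec cI (fun _ ih => mu ih A) k

theorem tm_pw (A k : ℕ) : tm (pw A k) = tm A ^ k := by
  rw [pw, frc_eq]
  induction k with
  | zero => exact tm_I.1
  | succ k ih => rw [pow_succ, ← ih, ← tm_mu]

/-- equal matrices -/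
noncomputable def eqm (A B : ℕ) : Bool := Nat.beq (mu A cI) (mu B cI)

theorem eqm_spec {A B : ℕ} (h : eqm A B = true) : tm A = tm B := by
  have h1 := congrArg tm (Nat.eq_of_beq_eq_true h)
  rwa [tm_mu, tm_mu, tm_I.1, mul_one, mul_one] at h1

/-- a diagonal involution -/
noncomputable def cA (p : ℕ) : ℕ := cI + 64 ^ (9 * p) + 64 ^ (9 * ((p + 4) % 8))

/-- the root element -/
noncomputable def cR (p q : ℕ) : ℕ := cI + 64 ^ (8 * q + (p + 4) % 8) + 2 * 64 ^ (8 * p + (q + 4) % 8)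

/-- an involution -/
noncomputable def cB (p q : ℕ) : ℕ := mu (cA p) (mu (cR p q) (cR p q))

/-- an involution which preserves the form -/
noncomputable def okJ (A : ℕ) : Bool := eqm (mu A A) cI && eqm (mu (mu (tr A) cJ) A) cJ

theorem okJ_spec {A : ℕ} (h : okJ A = true) : tm A * tm A = 1 ∧ (tm A).transpose * J8 * tm A = J8 := by
  rw [okJ, Bool.and_eq_true] at h
  exact ⟨by rw [← tm_mu, eqm_spec h.1, tm_I.1], by rw [← tm_I.2, ← tm_tr, ← tm_mu, ← tm_mu, eqm_spec h.2]⟩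

theorem ok_N : ∀ p < 8, ∀ q < 8, q ≠ p → q ≠ (p + 4) % 8 → okJ (cB p q) = true ∧
    eqm (pw (mu (cA p) (cB p q)) 2) (cR p q) = true := by
  intro p hp q hq
  interval_cases p <;> interval_cases q <;> decide +kernel

theorem ix_ne : ∀ p q : I8, q ≠ p → q ≠ sw p → ix q ≠ ix p ∧ ix q ≠ (ix p + 4) % 8 := by decide +kernel

theorem ok_A : ∀ p : I8, okJ (cA (ix p)) = true := by decide +kernel

theorem ok_B (p q : I8) (h : q ≠ p) (h' : q ≠ sw p) : okJ (cB (ix p) (ix q)) = true ∧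
    eqm (pw (mu (cA (ix p)) (cB (ix p) (ix q))) 2) (cR (ix p) (ix q)) = true :=
  ok_N _ (ix_lt p) _ (ix_lt q) (ix_ne p q h h').1 (ix_ne p q h h').2

/-- the root element -/
noncomputable def rt (p q : I8) (h : q ≠ p) (h' : q ≠ sw p) : S8 :=
  comOf (tm (cA (ix p))) (tm (cB (ix p) (ix q))) (okJ_spec (ok_A p)).1 (okJ_spec (ok_B p q h h').1).1 (okJ_spec (ok_A p)).2
    (okJ_spec (ok_B p q h h').1).2

theorem rho_cR (p q : I8) (h : q ≠ p) (h' : q ≠ sw p) : rho (rt p q h h') = tm (cR (ix p) (ix q)) := by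
  rw [rt, rho_comOf, mul_assoc, ← tm_mu, ← pow_two, ← tm_pw, eqm_spec (ok_B p q h h').2]

theorem rho_mu {x y : S8} {X Y : ℕ} (hx : rho x = tm X) (hy : rho y = tm Y) : rho (x * y) = tm (mu X Y) :=
  (rho.map_mul x y).trans (by rw [hx, hy, tm_mu])

theorem rho_pw {x : S8} {X : ℕ} (hx : rho x = tm X) (k : ℕ) : rho (x ^ k) = tm (pw X k) :=
  (rho.map_pow x k).trans (by rw [hx, tm_pw])

theorem neg_one_pow_odd {n : ℕ} (hn : Odd n) : (-1 : M8) ^ n = -1 := Odd.neg_one_pow hn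

theorem order_pr' {p : ℕ} (hp : p.Prime) (ho : Odd p) {y : S8} (h5 : rho y ^ p = 1) (h1 : rho y ≠ 1) :
    orderOf (pr y) = p := by
  haveI : Fact p.Prime := ⟨hp⟩
  have h6 : y ^ p = 1 := rho_injective (by rw [map_pow, h5, map_one])
  refine orderOf_eq_prime (by rw [← map_pow, h6, map_one]) fun h => ?_
  have h2 : pr 1 = pr y := by rw [h, map_one]
  rcases pr_eq h2 with h3 | h3
  · rw [map_one] at h3; exact h1 h3
  · rw [map_one] at h3
    rw [h3, neg_one_pow_odd ho] at h5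
    exact neg_one_ne h5

theorem order_two {y : S8} (h2 : rho y ^ 2 = 1 ∨ rho y ^ 2 = -1) (h1 : rho y ≠ 1) (h1' : rho y ≠ -1) :
    2 ∣ orderOf (pr y) := by
  by_contra hcon
  have hodd : Odd (orderOf (pr y)) := by
    rw [← Nat.not_even_iff_odd, even_iff_two_dvd]; exact hcon
  have h4 : rho y ^ 4 = 1 := by
    have h40 : rho y ^ 4 = (rho y ^ 2) ^ 2 := by rw [← pow_mul]
    rw [h40]
    rcases h2 with h2 | h2 <;> rw [h2]
    · exact one_pow 2
    · exact neg_one_sq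
  have h5 : y ^ 4 = 1 := rho_injective (by rw [map_pow, h4, map_one])
  have h6 : orderOf (pr y) ∣ 4 := orderOf_dvd_of_pow_eq_one (by rw [← map_pow, h5, map_one])
  have h7 : orderOf (pr y) = 1 := by
    have h8 : Nat.Coprime (orderOf (pr y)) (2 ^ 2) :=
      Nat.Coprime.pow_right 2 (Nat.coprime_comm.1 ((Nat.Prime.coprime_iff_not_dvd Nat.prime_two).2 hcon))
    exact Nat.Coprime.eq_one_of_dvd h8 h6
  rw [orderOf_eq_one_iff] at h7
  have h8 : pr 1 = pr y := by rw [h7, map_one]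
  rcases pr_eq h8 with h3 | h3
  · rw [map_one] at h3; exact h1 h3
  · rw [map_one] at h3; exact h1' h3

theorem fpf {Y : M8} (hY : Y ^ 4 + Y ^ 3 + Y ^ 2 + Y + 1 = 0) (v : I8 → R3) (h3 : Y.mulVec v = v) : v = 0 := by
  have hp : ∀ k : ℕ, (Y ^ k).mulVec v = v := by
    intro k
    induction k with
    | zero => rw [pow_zero, Matrix.one_mulVec]
    | succ k ih => rw [pow_succ, ← Matrix.mulVec_mulVec, h3, ih]
  have h4 := congrArg (fun M => M.mulVec v) hY
  simp only [Matrix.add_mulVec, hp, h3, Matrix.one_mulVec, Matrix.zero_mulVec] at h4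
  ext i
  have h5 := congrFun h4 i
  simp only [Pi.add_apply, Pi.zero_apply] at h5 ⊢
  have h6 : ∀ x : R3, x + x + x + x + x = 0 → x = 0 := by decide
  exact h6 _ h5

/-- two classes of elements of order `5` -/
theorem not_conj' {y y' : S8} (h5 : rho y ^ 5 = 1) {v : I8 → R3} (hv : (rho y).mulVec v = v) (hv0 : v ≠ 0)
    (h5' : rho y' ^ 5 = 1) (hf : rho y' ^ 4 + rho y' ^ 3 + rho y' ^ 2 + rho y' + 1 = 0) (g : T8) :
    pr y' ∉ zpowers (g * pr y * g⁻¹) := by
  intro h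
  obtain ⟨k, hk⟩ := Subgroup.mem_zpowers_iff.1 h
  obtain ⟨g', rfl⟩ := pr_surjective g
  simp only [← map_inv, ← map_mul, ← map_mul, ← map_zpow] at hk
  have hy5 : y ^ 5 = 1 := rho_injective (by rw [map_pow, h5, map_one])
  have h1 : rho ((g' * y * g'⁻¹) ^ k) ^ 5 = 1 := by
    rw [← map_pow, ← zpow_natCast, ← _root_.zpow_mul, mul_comm, _root_.zpow_mul, zpow_natCast, conj_pow, hy5,
      mul_one, mul_inv_cancel, _root_.one_zpow, map_one]
  have hfix : ∀ k : ℤ, (rho (y ^ k)).mulVec v = v := by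
    have hnat : ∀ n : ℕ, (rho (y ^ n)).mulVec v = v := by
      intro n
      induction n with
      | zero => rw [pow_zero, map_one, Matrix.one_mulVec]
      | succ n ih => rw [pow_succ, map_mul, ← Matrix.mulVec_mulVec, hv, ih]
    intro k
    have hfo : IsOfFinOrder y := isOfFinOrder_iff_pow_eq_one.2 ⟨5, by norm_num, hy5⟩
    obtain ⟨n, hn⟩ := Submonoid.mem_powers_iff _ _ |>.1 (hfo.mem_powers_iff_mem_zpowers.2
      (show y ^ k ∈ zpowers y from ⟨k, rfl⟩))
    rw [← hn]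
    exact hnat n
  have hw : (rho ((g' * y * g'⁻¹) ^ k)).mulVec ((rho g').mulVec v) = (rho g').mulVec v := by
    simp_rw [conj_zpow, map_mul rho (g' * y ^ k) (g'⁻¹), map_mul rho g' (y ^ k), Matrix.mulVec_mulVec v (rho g' * rho (y ^ k) * rho g'⁻¹) (rho g'), mul_assoc (rho g' * rho (y ^ k)) (rho g'⁻¹) (rho g'), mul_assoc (rho g') (rho (y ^ k)) (rho g'⁻¹ * rho g'), ← map_mul rho (g'⁻¹) g', inv_mul_cancel g', map_one rho,       mul_one (rho (y ^ k)), ← Matrix.mulVec_mulVec v (rho g') (rho (y ^ k)), hfix k]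
  have hw0 : (rho g').mulVec v ≠ 0 := by
    intro h0
    have h2 : (rho g'⁻¹).mulVec ((rho g').mulVec v) = v := by
      rw [Matrix.mulVec_mulVec, ← map_mul, inv_mul_cancel, map_one, Matrix.one_mulVec]
    rw [h0, Matrix.mulVec_zero] at h2
    exact hv0 h2.symm
  rcases pr_eq hk with h2 | h2
  · rw [← h2] at hw
    exact hw0 (fpf hf _ hw)
  · have h3 := h5'
    rw [h2, Odd.neg_pow (by decide), h1] at h3
    exact neg_one_ne h3

/-- the certificate for generation -/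
structure Cert (K : Subgroup T8) (t₂ t₃ y y' z₇ z₁₃ : S8) : Prop where
  m₂ : pr t₂ ∈ K
  o₂ : (rho t₂ ^ 2 = 1 ∨ rho t₂ ^ 2 = -1) ∧ rho t₂ ≠ 1 ∧ rho t₂ ≠ -1
  m₃ : pr t₃ ∈ K
  o₃ : rho t₃ ^ 3 = 1 ∧ rho t₃ ≠ 1
  my : pr y ∈ K
  oy : rho y ^ 5 = 1 ∧ rho y ≠ 1
  fy : ∃ v : I8 → R3, (rho y).mulVec v = v ∧ v ≠ 0
  my' : pr y' ∈ K
  oy' : rho y' ^ 5 = 1 ∧ rho y' ≠ 1
  fy' : rho y' ^ 4 + rho y' ^ 3 + rho y' ^ 2 + rho y' + 1 = 0
  m₇ : pr z₇ ∈ K
  o₇ : rho z₇ ^ 7 = 1 ∧ rho z₇ ≠ 1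
  m₁₃ : pr z₁₃ ∈ K
  o₁₃ : rho z₁₃ ^ 13 = 1 ∧ rho z₁₃ ≠ 1

theorem dvd_of {K : Subgroup T8} {x : T8} (hx : x ∈ K) {n : ℕ} (h : n ∣ orderOf x) : n ∣ Nat.card K :=
  h.trans (Subgroup.orderOf_dvd_natCard K hx)

/-- **generation** -/
theorem top_of (OT : OrdDiv.OrderTable.{0})
    (hS : ∀ (X : Type) [Group X] [Finite X] [IsSimpleGroup X], Cfsg.IsKnownSimple' X)
    {K : Subgroup T8} {t₂ t₃ y y' z₇ z₁₃ : S8} (h : Cert K t₂ t₃ y y' z₇ z₁₃) : K = ⊤ := by
  by_contra hK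
  have d2 := dvd_of h.m₂ (order_two h.o₂.1 h.o₂.2.1 h.o₂.2.2)
  have d3 := dvd_of h.m₃ (n := 3) (by rw [order_pr' Nat.prime_three (by decide) h.o₃.1 h.o₃.2])
  have oy := order_pr' Nat.prime_five (by decide) h.oy.1 h.oy.2
  have oy' := order_pr' Nat.prime_five (by decide) h.oy'.1 h.oy'.2
  have d5 := dvd_of h.my (n := 5) (by rw [oy])
  have d7 := dvd_of h.m₇ (n := 7) (by rw [order_pr' (by norm_num) (by decide) h.o₇.1 h.o₇.2])
  have d13 := dvd_of h.m₁₃ (n := 13) (by rw [order_pr' (by norm_num) (by decide) h.o₁₃.1 h.o₁₃.2])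
  rcases pgap_t8 OT hS K hK with ⟨r, hr, hr1, hr2⟩ | hc
  · rw [card_t8, show 4952179814400 = 2 ^ 12 * 3 ^ 12 * 5 ^ 2 * 7 * 13 by norm_num] at hr1
    have key : r = 2 ∨ r = 3 ∨ r = 5 ∨ r = 7 ∨ r = 13 := by
      rcases hr.dvd_mul.1 hr1 with h1 | h1
      · rcases hr.dvd_mul.1 h1 with h1 | h1
        · rcases hr.dvd_mul.1 h1 with h1 | h1
          · rcases hr.dvd_mul.1 h1 with h1 | h1
            · exact Or.inl ((Nat.prime_dvd_prime_iff_eq hr Nat.prime_two).1 (hr.dvd_of_dvd_pow h1))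
            · exact Or.inr (Or.inl ((Nat.prime_dvd_prime_iff_eq hr Nat.prime_three).1 (hr.dvd_of_dvd_pow h1)))
          · exact Or.inr (Or.inr (Or.inl ((Nat.prime_dvd_prime_iff_eq hr Nat.prime_five).1 (hr.dvd_of_dvd_pow h1))))
        · exact Or.inr (Or.inr (Or.inr (Or.inl ((Nat.prime_dvd_prime_iff_eq hr (by norm_num)).1 h1))))
      · exact Or.inr (Or.inr (Or.inr (Or.inr ((Nat.prime_dvd_prime_iff_eq hr (by norm_num)).1 h1))))
    rcases key with rfl | rfl | rfl | rfl | rfl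
    · exact hr2 d2
    · exact hr2 d3
    · exact hr2 d5
    · exact hr2 d7
    · exact hr2 d13
  · have h25 : ¬ 5 ^ 2 ∣ Nat.card K := by rw [hc]; norm_num
    haveI h5 : Fact (Nat.Prime 5) := ⟨by norm_num⟩
    have ho1 : orderOf (⟨_, h.my⟩ : K) = 5 := by rw [Subgroup.orderOf_mk, oy]
    have ho2 : orderOf (⟨_, h.my'⟩ : K) = 5 := by rw [Subgroup.orderOf_mk, oy']
    obtain ⟨P, hP⟩ := H970.StabNum.exists_sylow_of_card (T := K) h25 (P := zpowers ⟨_, h.my⟩) (by rw [Nat.card_zpowers, ho1])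
    obtain ⟨Q, hQ⟩ := H970.StabNum.exists_sylow_of_card (T := K) h25 (P := zpowers ⟨_, h.my'⟩) (by rw [Nat.card_zpowers, ho2])
    obtain ⟨g, hg⟩ := MulAction.exists_smul_eq K P Q
    have hmem : (⟨_, h.my'⟩ : K) ∈ (Q : Subgroup K) := by simp only [hQ]; exact mem_zpowers _
    simp only [← hg, Sylow.coe_subgroup_smul, hP] at hmem
    obtain ⟨w, hw, hwq⟩ := hmem
    obtain ⟨k, rfl⟩ := Subgroup.mem_zpowers_iff.1 hw
    have h3 : (g : T8) * (pr y) ^ k * (g : T8)⁻¹ = pr y' := congrArg Subtype.val hwq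
    obtain ⟨v, hv, hv0⟩ := h.fy
    refine not_conj' h.oy.1 hv hv0 h.oy'.1 h.fy' g ?_
    rw [Subgroup.mem_zpowers_iff]
    exact ⟨k, by rw [conj_zpow, h3]⟩

/-- a word -/
noncomputable def wd (x y : S8) (a b c : ℕ) : S8 := (x ^ a * y ^ b) ^ c

/-- its code -/
noncomputable def cw (X Y a b c : ℕ) : ℕ := pw (mu (pw X a) (pw Y b)) c

theorem rho_wd {x y : S8} {X Y : ℕ} (hx : rho x = tm X) (hy : rho y = tm Y) (a b c : ℕ) :
    rho (wd x y a b c) = tm (cw X Y a b c) := rho_pw (rho_mu (rho_pw hx a) (rho_pw hy b)) c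

theorem mem_wd {K : Subgroup T8} {x y : S8} (hx : pr x ∈ K) (hy : pr y ∈ K) (a b c : ℕ) : pr (wd x y a b c) ∈ K :=
  (K.comap pr).pow_mem ((K.comap pr).mul_mem ((K.comap pr).pow_mem hx a) ((K.comap pr).pow_mem hy b)) c

theorem ord_of {x : S8} {X p : ℕ} (hx : rho x = tm X) (h : eqm (pw X p) cI = true ∧ tm X ≠ 1) : rho x ^ p = 1 ∧ rho x ≠ 1 := by
  rw [hx, ← tm_pw, eqm_spec h.1]
  exact ⟨tm_I.1, h.2⟩

/-- **generation from the codes** -/
theorem top_cw (OT : OrdDiv.OrderTable.{0})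
    (hS : ∀ (X : Type) [Group X] [Finite X] [IsSimpleGroup X], Cfsg.IsKnownSimple' X)
    {K : Subgroup T8} {x y : S8} {X Y : ℕ} (hx : rho x = tm X) (hy : rho y = tm Y) (mx : pr x ∈ K) (my : pr y ∈ K)
    (a₂ b₂ c₂ a₃ b₃ c₃ a b c a' b' c' a₇ b₇ c₇ a₁₃ b₁₃ c₁₃ : ℕ) (v : I8 → R3)
    (h : ((tm (pw (cw X Y a₂ b₂ c₂) 2) = 1 ∨ tm (pw (cw X Y a₂ b₂ c₂) 2) = -1) ∧ tm (cw X Y a₂ b₂ c₂) ≠ 1 ∧
        tm (cw X Y a₂ b₂ c₂) ≠ -1) ∧ (eqm (pw (cw X Y a₃ b₃ c₃) 3) cI = true ∧ tm (cw X Y a₃ b₃ c₃) ≠ 1) ∧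
      (eqm (pw (cw X Y a b c) 5) cI = true ∧ tm (cw X Y a b c) ≠ 1) ∧ ((tm (cw X Y a b c)).mulVec v = v ∧ v ≠ 0) ∧
      (eqm (pw (cw X Y a' b' c') 5) cI = true ∧ tm (cw X Y a' b' c') ≠ 1) ∧
      tm (pw (cw X Y a' b' c') 4) + tm (pw (cw X Y a' b' c') 3) + tm (pw (cw X Y a' b' c') 2) + tm (cw X Y a' b' c') + 1 = 0 ∧
      (eqm (pw (cw X Y a₇ b₇ c₇) 7) cI = true ∧ tm (cw X Y a₇ b₇ c₇) ≠ 1) ∧
      eqm (pw (cw X Y a₁₃ b₁₃ c₁₃) 13) cI = true ∧ tm (cw X Y a₁₃ b₁₃ c₁₃) ≠ 1) : K = ⊤ := by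
  obtain ⟨h2, h3, h5, hv, h5', hf, h7, h13⟩ := h
  have r := rho_wd hx hy
  have m := mem_wd mx my
  rw [tm_pw, ← r] at h2
  rw [tm_pw, tm_pw, tm_pw, ← r] at hf
  rw [← r] at hv
  exact top_of OT hS ⟨m .., h2, m .., ord_of (r ..) h3, m .., ord_of (r ..) h5, ⟨v, hv⟩, m .., ord_of (r ..) h5', hf, m ..,
    ord_of (r ..) h7, m .., ord_of (r ..) h13⟩

namespace Opp

/-- the element -/
noncomputable def x : S8 :=
  rt (.inl 1) (.inr 3) (by decide) (by decide) * rt (.inr 2) (.inr 3) (by decide) (by decide) * rt (.inl 0) (.inr 1) (by decide) (by decide) * rt (.inr 2) (.inl 3) (by decide) (by decide) * rt (.inl 3) (.inl 2) (by decide) (by decide) * rt (.inl 1) (.inr 0) (by decide) (by decide) * rt (.inl 1) (.inl 2) (by decide) (by decide)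

/-- its code -/
noncomputable def cx : ℕ := mu (mu (mu (mu (mu (mu (cR 1 7) (cR 6 7)) (cR 0 5)) (cR 6 3)) (cR 3 2)) (cR 1 4)) (cR 1 2)

theorem rho_x : rho x = tm cx :=
  rho_mu (rho_mu (rho_mu (rho_mu (rho_mu (rho_mu (rho_cR _ _ _ _) (rho_cR _ _ _ _)) (rho_cR _ _ _ _)) (rho_cR _ _ _ _)) (rho_cR _ _ _ _)) (rho_cR _ _ _ _)) (rho_cR _ _ _ _)

/-- the element -/
noncomputable def y : S8 :=
  rt (.inr 0) (.inr 1) (by decide) (by decide)

/-- its code -/
noncomputable def cy : ℕ := cR 4 5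

theorem rho_y : rho y = tm cy :=
  rho_cR _ _ _ _

/-- **the certificate** -/
theorem top (OT : OrdDiv.OrderTable.{0})
    (hS : ∀ (X : Type) [Group X] [Finite X] [IsSimpleGroup X], Cfsg.IsKnownSimple' X)
    {K : Subgroup T8} (hx : pr x ∈ K) (hy : pr y ∈ K) : K = ⊤ :=
  top_cw OT hS rho_y rho_x hy hx 1 1 10 1 0 1 1 1 4 1 10 4 2 15 4 1 8 2 (Sum.elim ![0, 0, 0, 0] ![0, 1, 2, 1]) (by decide +kernel)

theorem x_pow : x ^ 24 = rt (.inl 0) (.inl 1) (by decide) (by decide) :=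
  rho_injective ((rho_pw rho_x 24).trans ((eqm_spec (by decide +kernel)).trans (rho_cR _ _ _ _).symm))

attribute [irreducible] x

end Opp

namespace Spe

/-- the element -/
noncomputable def x : S8 :=
  rt (.inl 0) (.inr 1) (by decide) (by decide) * rt (.inl 2) (.inr 3) (by decide) (by decide) * rt (.inr 2) (.inl 3) (by decide) (by decide) * rt (.inl 1) (.inr 0) (by decide) (by decide) * rt (.inl 1) (.inl 2) (by decide) (by decide) * rt (.inr 2) (.inr 3) (by decide) (by decide) * rt (.inr 2) (.inl 3) (by decide) (by decide) * rt (.inl 0) (.inl 1) (by decide) (by decide)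

/-- its code -/
noncomputable def cx : ℕ := mu (mu (mu (mu (mu (mu (mu (cR 0 5) (cR 2 7)) (cR 6 3)) (cR 1 4)) (cR 1 2)) (cR 6 7)) (cR 6 3)) (cR 0 1)

theorem rho_x : rho x = tm cx :=
  rho_mu (rho_mu (rho_mu (rho_mu (rho_mu (rho_mu (rho_mu (rho_cR _ _ _ _) (rho_cR _ _ _ _)) (rho_cR _ _ _ _)) (rho_cR _ _ _ _)) (rho_cR _ _ _ _)) (rho_cR _ _ _ _)) (rho_cR _ _ _ _)) (rho_cR _ _ _ _)

/-- the element -/
noncomputable def y : S8 :=
  rt (.inr 0) (.inl 2) (by decide) (by decide)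

/-- its code -/
noncomputable def cy : ℕ := cR 4 2

theorem rho_y : rho y = tm cy :=
  rho_cR _ _ _ _

/-- **the certificate** -/
theorem top (OT : OrdDiv.OrderTable.{0})
    (hS : ∀ (X : Type) [Group X] [Finite X] [IsSimpleGroup X], Cfsg.IsKnownSimple' X)
    {K : Subgroup T8} (hx : pr x ∈ K) (hy : pr y ∈ K) : K = ⊤ :=
  top_cw OT hS rho_y rho_x hy hx 1 5 5 1 0 1 1 5 2 2 17 8 1 7 4 2 16 1 (Sum.elim ![0, 0, 0, 1] ![1, 0, 1, 0]) (by decide +kernel)

theorem x_pow : x ^ 24 = rt (.inl 0) (.inl 1) (by decide) (by decide) :=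
  rho_injective ((rho_pw rho_x 24).trans ((eqm_spec (by decide +kernel)).trans (rho_cR _ _ _ _).symm))

attribute [irreducible] x

end Spe

namespace Rfl

/-- the element -/
noncomputable def x : S8 :=
  rt (.inr 0) (.inr 3) (by decide) (by decide) * rt (.inl 0) (.inl 2) (by decide) (by decide) * rt (.inr 1) (.inr 2) (by decide) (by decide) * rt (.inl 1) (.inl 3) (by decide) (by decide)

/-- its code -/
noncomputable def cx : ℕ := mu (mu (mu (cR 4 7) (cR 0 2)) (cR 5 6)) (cR 1 3)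

theorem rho_x : rho x = tm cx :=
  rho_mu (rho_mu (rho_mu (rho_cR _ _ _ _) (rho_cR _ _ _ _)) (rho_cR _ _ _ _)) (rho_cR _ _ _ _)

/-- the element -/
noncomputable def y : S8 :=
  rt (.inl 0) (.inr 3) (by decide) (by decide) * rt (.inr 0) (.inl 2) (by decide) (by decide) * rt (.inr 1) (.inr 2) (by decide) (by decide) * rt (.inl 1) (.inl 3) (by decide) (by decide)

/-- its code -/
noncomputable def cy : ℕ := mu (mu (mu (cR 0 7) (cR 4 2)) (cR 5 6)) (cR 1 3)

theorem rho_y : rho y = tm cy :=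
  rho_mu (rho_mu (rho_mu (rho_cR _ _ _ _) (rho_cR _ _ _ _)) (rho_cR _ _ _ _)) (rho_cR _ _ _ _)

/-- **the certificate** -/
theorem top (OT : OrdDiv.OrderTable.{0})
    (hS : ∀ (X : Type) [Group X] [Finite X] [IsSimpleGroup X], Cfsg.IsKnownSimple' X)
    {K : Subgroup T8} (hx : pr x ∈ K) (hy : pr y ∈ K) : K = ⊤ :=
  top_cw OT hS rho_x rho_y hx hy 1 0 5 1 1 5 1 1 3 1 0 4 5 3 4 7 4 2 (Sum.elim ![0, 0, 0, 1] ![2, 0, 2, 0]) (by decide +kernel)

attribute [irreducible] x y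

end Rfl

end Cfsg.Agent.H304.Spr
end

-- part: H304/Spr/Trans
section
/-!
# S3938, `PΩ⁺₈(3)`: the three generation theorems (helper304)

* `gen_opp`, `gen_spe`, `gen_refl` in `P8 (ZMod 3)`
-/

set_option autoImplicit false
set_option maxRecDepth 100000

namespace Cfsg.Agent.H304.Spr

open Subgroup Cfsg Cfsg.Agent Cfsg.Agent.H503.El.O83 Cfsg.Agent.H938.Sax Matrix QuadraticMap
open Cfsg.Agent.LieClassical.OrthCore Cfsg.Agent.LieClassical.OrthTrans Cfsg.Agent.ClassicalGeometry.OrthAut1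
open Cfsg.Agent.ClassicalGeometry.OrthAut2 Cfsg.Agent.LieClassical.QuadForms Cfsg.Agent.ClassicalGeometry.Triality
open Cfsg.Agent.ClassicalGeometry.OrthSemi Cfsg.Agent.H198.TriAut Cfsg.Agent.H465.OEight

theorem good3 : Good (plusForm 4 R3) := ClassicalGeometry.OrthSemiForms.good_plus (by norm_num)

/-- the isomorphism, general form -/
theorem exists_phi' (q : (I8 → R3) → R3) (hq : ⇑(plusForm 4 R3) = q) :
    ∃ φ : POmega R3 q ≃* P8 R3, ∀ (g : Omega R3 q) (h : ↥(E (plusForm 4 R3))),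
      (∀ v, (h : V8 R3 ≃ₗ[R3] V8 R3) v =
        (((g : Cfsg.isometryGroup R3 q) : Matrix.GeneralLinearGroup I8 R3) : Matrix I8 I8 R3) *ᵥ v) →
        φ (QuotientGroup.mk g) = (h : P8 R3) := by
  subst hq
  refine ⟨AutOrth.Main.pe good3, fun g h hv => ?_⟩
  rw [AutOrth.Main.pe_mk]
  have h1 : AutOrth.Main.oe good3 g = h := by
    apply Subtype.ext
    apply LinearEquiv.ext
    intro v
    rw [hv, AutOrth.Main.oe_apply]
  rw [h1]

/-- the isomorphism -/
theorem exists_phi : ∃ φ : T8 ≃* P8 R3, ∀ (g : S8) (h : ↥(E (plusForm 4 R3))),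
      (∀ v, (h : V8 R3 ≃ₗ[R3] V8 R3) v = _root_.Cfsg.Agent.H503.El.O83.rho g *ᵥ v) → φ (pr g) = (h : P8 R3) :=
  exists_phi' Q8 (coe_plusForm 4)

/-- the elements of `E` -/
theorem exists_E' (q : (I8 → R3) → R3) (hq : ⇑(plusForm 4 R3) = q) (g : Omega R3 q) :
    ∃ h : ↥(E (plusForm 4 R3)), ∀ v, (h : V8 R3 ≃ₗ[R3] V8 R3) v =
        (((g : Cfsg.isometryGroup R3 q) : Matrix.GeneralLinearGroup I8 R3) : Matrix I8 I8 R3) *ᵥ v := by
  subst hq
  exact ⟨AutOrth.Main.oe good3 g, fun v => AutOrth.Main.oe_apply good3 g v⟩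

/-- the elements of `E` -/
theorem exists_E (g : S8) : ∃ h : ↥(E (plusForm 4 R3)), ∀ v, (h : V8 R3 ≃ₗ[R3] V8 R3) v = _root_.Cfsg.Agent.H503.El.O83.rho g *ᵥ v :=
  exists_E' Q8 (coe_plusForm 4) g

/-- the basis vectors -/
abbrev bv (p : I8) : V8 R3 := Pi.single p 1

theorem polar_bv (p : I8) (v : V8 R3) : polar (plusForm 4 R3) (bv p) v = v (sw p) := by
  rw [polar_plusForm]
  rcases p with p | p
  · rw [Finset.sum_eq_single p]
    · simp [bv, sw]
    · intro i _ hi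
      simp [bv, hi]
    · intro h; exact absurd (Finset.mem_univ _) h
  · rw [Finset.sum_eq_single p]
    · simp [bv, sw]
    · intro i _ hi
      simp [bv, hi]
    · intro h; exact absurd (Finset.mem_univ _) h

theorem q_bv (p : I8) : plusForm 4 R3 (bv p) = 0 := by
  rw [plusForm_apply]
  rcases p with p | p <;> simp [bv]

theorem sw_sw (p : I8) : sw (sw p) = p := by cases p <;> rfl

theorem sw_eq {c p : I8} : sw c = p ↔ c = sw p := by
  constructor
  · rintro rfl; rw [sw_sw]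
  · rintro rfl; rw [sw_sw]

theorem polar_bv_bv {p q : I8} (h' : q ≠ sw p) : polar (plusForm 4 R3) (bv p) (bv q) = 0 := by
  rw [polar_bv, bv, Pi.single_eq_of_ne h'.symm]

theorem Rm_mulVec (p q : I8) (v : V8 R3) : Rm p q *ᵥ v = v + v (sw p) • bv q - v (sw q) • bv p := by
  ext r
  simp only [mulVec, dotProduct, Rm, Matrix.of_apply, sub_mul, add_mul, Finset.sum_sub_distrib, Finset.sum_add_distrib,
    Pi.sub_apply, Pi.add_apply, Pi.smul_apply, smul_eq_mul, bv, Pi.single_apply, sw_eq]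
  simp only [ite_mul, mul_ite, _root_.one_mul, _root_.MulZeroClass.zero_mul, _root_.Finset.sum_ite_eq, _root_.Finset.mem_univ, ↓ _root_.reduceIte, _root_.mul_one, _root_.MulZeroClass.mul_zero, _root_.Finset.sum_ite_irrel, _root_.Finset.sum_ite_eq', _root_.Finset.sum_const_zero]

/-- the root element in `P8` -/
theorem phi_rt {φ : T8 ≃* P8 R3} (hφ : ∀ (g : S8) (h : ↥(E (plusForm 4 R3))),
      (∀ v, (h : V8 R3 ≃ₗ[R3] V8 R3) v = _root_.Cfsg.Agent.H503.El.O83.rho g *ᵥ v) → φ (pr g) = (h : P8 R3)) (p q : I8) (h : q ≠ p) (h' : q ≠ sw p)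
    (hR : tm (cR (ix p) (ix q)) = Rm p q) :
    φ (pr (rt p q h h')) = ((sg (bv p) (bv q) (q_bv p) (polar_bv_bv h') : ↥(E (plusForm 4 R3))) : P8 R3) := by
  apply hφ
  intro v
  rw [rho_cR, hR, sg_apply, Rm_mulVec, polar_bv, polar_bv, q_bv, zero_mul, zero_smul, sub_zero]

variable (OT : OrdDiv.OrderTable.{0})
  (hS : ∀ (X : Type) [Group X] [Finite X] [IsSimpleGroup X], Cfsg.IsKnownSimple' X)

theorem map_top {φ : T8 ≃* P8 R3} {K : Subgroup (P8 R3)} (h : K.comap φ.toMonoidHom = ⊤) : K = ⊤ := by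
  rw [eq_top_iff]
  intro k _
  have h1 : φ.symm k ∈ K.comap φ.toMonoidHom := by rw [h]; exact Subgroup.mem_top _
  have h2 : φ (φ.symm k) ∈ K := h1
  rwa [MulEquiv.apply_symm_apply] at h2

include OT hS

/-- **generation, opposite root** -/
theorem gen_opp : ∃ x : P8 R3,
    (∃ m : ℕ, x ^ m = ((sg (bv (.inl 0)) (bv (.inl 1)) (q_bv _) (polar_bv_bv (by decide)) : ↥(E (plusForm 4 R3))) : P8 R3)) ∧
    ∀ K : Subgroup (P8 R3), x ∈ K →
      ((sg (bv (.inr 0)) (bv (.inr 1)) (q_bv _) (polar_bv_bv (by decide)) : ↥(E (plusForm 4 R3))) : P8 R3) ∈ K → K = ⊤ := by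
  obtain ⟨φ, hφ⟩ := exists_phi
  refine ⟨φ (pr Opp.x), ⟨24, ?_⟩, fun K hx hy => map_top (φ := φ) (Opp.top OT hS hx ?_)⟩
  · rw [← map_pow, ← map_pow, Opp.x_pow]
    exact phi_rt hφ _ _ _ _ (by decide +kernel)
  · show φ (pr Opp.y) ∈ K
    unfold Opp.y
    rw [phi_rt hφ _ _ _ _ (by decide +kernel)]
    exact hy

/-- **generation, special root** -/
theorem gen_spe : ∃ x : P8 R3,
    (∃ m : ℕ, x ^ m = ((sg (bv (.inl 0)) (bv (.inl 1)) (q_bv _) (polar_bv_bv (by decide)) : ↥(E (plusForm 4 R3))) : P8 R3)) ∧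
    ∀ K : Subgroup (P8 R3), x ∈ K →
      ((sg (bv (.inr 0)) (bv (.inl 2)) (q_bv _) (polar_bv_bv (by decide)) : ↥(E (plusForm 4 R3))) : P8 R3) ∈ K → K = ⊤ := by
  obtain ⟨φ, hφ⟩ := exists_phi
  refine ⟨φ (pr Spe.x), ⟨24, ?_⟩, fun K hx hy => map_top (φ := φ) (Spe.top OT hS hx ?_)⟩
  · rw [← map_pow, ← map_pow, Spe.x_pow]
    exact phi_rt hφ _ _ _ _ (by decide +kernel)
  · show φ (pr Spe.y) ∈ K
    unfold Spe.y
    rw [phi_rt hφ _ _ _ _ (by decide +kernel)]
    exact hy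

/-- **generation, a reflection** -/
theorem gen_refl (b : SG R3) (hb : ∀ v : V8 R3, (b : V8 R3 ≃ₗ[R3] V8 R3) v = v ∘ Equiv.swap (.inl 0) (.inr 0)) :
    ∃ x : P8 R3, ∀ K : Subgroup (P8 R3), x ∈ K → psi b x ∈ K → K = ⊤ := by
  obtain ⟨φ, hφ⟩ := exists_phi
  obtain ⟨h, hh⟩ := exists_E Rfl.x
  obtain ⟨k, hk⟩ := exists_E Rfl.y
  refine ⟨φ (pr Rfl.x), fun K hx hy => map_top (φ := φ) (Rfl.top OT hS hx ?_)⟩
  show φ (pr Rfl.y) ∈ K
  rw [hφ _ k hk]
  rw [hφ _ h hh, psi_mk] at hy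
  have h1 : (⟨b.1 * h.1 * b.1⁻¹, _root_.Cfsg.Agent.H465.OEight.conj_mem_E b h.2⟩ : ↥(E (plusForm 4 R3))) = k := by
    apply Subtype.ext
    apply LinearEquiv.ext
    intro v
    have h2 : (b.1⁻¹ : V8 R3 ≃ₗ[R3] V8 R3) v = v ∘ Equiv.swap (.inl 0) (.inr 0) := by
      apply b.1.injective
      have h4 : b.1 ((b.1⁻¹ : V8 R3 ≃ₗ[R3] V8 R3) v) = v := b.1.apply_symm_apply v
      rw [h4, hb (v ∘ _), Function.comp_assoc]
      have h3 : (⇑(Equiv.swap (.inl 0 : I8) (.inr 0)) ∘ ⇑(Equiv.swap (.inl 0 : I8) (.inr 0))) = id := by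
        funext i
        exact Equiv.swap_apply_self _ _ i
      rw [h3, Function.comp_id]
    show b.1 (h.1 ((b.1⁻¹ : V8 R3 ≃ₗ[R3] V8 R3) v)) = _
    rw [h2, hh, hb, hk]
    have h3 : _root_.Cfsg.Agent.H503.El.O83.rho Rfl.y = (_root_.Cfsg.Agent.H503.El.O83.rho Rfl.x).submatrix (Equiv.swap (.inl 0) (.inr 0)) (Equiv.swap (.inl 0) (.inr 0)) := by
      rw [Rfl.rho_x, Rfl.rho_y]
      decide +kernel
    rw [h3, Matrix.submatrix_mulVec_equiv, Equiv.symm_swap]
  rwa [h1] at hy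

end Cfsg.Agent.H304.Spr
end

-- part: H62/Oe/Final
section
/-!
# S3938, `PΩ⁺₈(3)` (helper62)
-/

set_option autoImplicit false
set_option linter.unusedSectionVars false
set_option linter.style.haveILetI false

namespace Cfsg.Agent.H62.Oe

open Module QuadraticMap Cfsg.Agent.LieClassical.OrthCore Cfsg.Agent.LieClassical.OrthTrans
  Cfsg.Agent.ClassicalGeometry.OrthAut1 Cfsg.Agent.ClassicalGeometry.OrthAut2
  Cfsg.Agent.LieClassical.QuadForms Cfsg.Agent.ClassicalGeometry.TrialityOct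
  Cfsg.Agent.ClassicalGeometry.Triality Cfsg.Agent.ClassicalGeometry.OrthSemi Cfsg.Agent.H198.TriAut
  Cfsg.Agent.H465.OEight

theorem gd_of_range (C : Cert rho) {α : MulAut PP} (h1 : α ≠ 1) (h : α ∈ (Psi Q).range) : Gd α := by
  rw [← range_psi (by rw [ZMod.card]; exact Nat.prime_three)] at h
  obtain ⟨b, rfl⟩ := h
  exact gd_psi C h1

/-- every non-trivial automorphism -/
theorem gd_all (C : Cert rho) {α : MulAut PP} (h1 : α ≠ 1) : Gd α := by
  haveI : Finite (MulAut PP) := Finite.of_injective (fun a : MulAut PP => (a : PP → PP)) DFunLike.coe_injective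
  have h2 : orderOf α ≠ 1 := fun h => h1 (orderOf_eq_one_iff.1 h)
  obtain ⟨p, hp, hd⟩ := Nat.exists_prime_and_dvd h2
  obtain ⟨β, hβ⟩ : ∃ β : MulAut PP, β = α ^ (orderOf α / p) := ⟨_, rfl⟩
  have h3 : orderOf β = p := by rw [hβ]; exact orderOf_pow_orderOf_div (orderOf_pos α).ne' hd
  suffices h : Gd β by
    rw [hβ] at h; exact h.of_pow
  have hβ1 : β ≠ 1 := by
    rintro rfl
    rw [orderOf_one] at h3
    exact hp.one_lt.ne h3
  by_cases hc : ∃ γ : MulAut PP, γ⁻¹ * β * γ ∈ (Psi Q).range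
  · obtain ⟨γ, hγ⟩ := hc
    refine Gd.of_conj γ (gd_of_range C ?_ hγ)
    intro h
    apply hβ1
    have h4 : β = γ * (γ⁻¹ * β * γ) * γ⁻¹ := by group
    rw [h4, h]; group
  push Not at hc
  have hp3 : p = 3 := by
    by_contra hp3
    haveI : Fact p.Prime := ⟨hp⟩
    have h4 : IsPGroup p (Subgroup.zpowers β) := IsPGroup.of_card (n := 1) (by rw [Nat.card_zpowers, h3, pow_one])
    have h5 : ¬ p ∣ Nat.card (MulAut PP ⧸ (Psi Q).range) := by
      rw [← Subgroup.index_eq_card, index_three]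
      intro h
      exact hp3 ((Nat.prime_dvd_prime_iff_eq hp Nat.prime_three).1 h)
    obtain ⟨q, hq⟩ := h4.nonempty_fixed_point_of_prime_not_dvd_card (MulAut PP ⧸ (Psi Q).range) h5
    obtain ⟨γ, rfl⟩ := QuotientGroup.mk_surjective q
    have h6 := hq ⟨β, Subgroup.mem_zpowers β⟩
    have h7 : ((β * γ : MulAut PP) : MulAut PP ⧸ (Psi Q).range) = (γ : MulAut PP ⧸ (Psi Q).range) := h6
    have h8 := QuotientGroup.eq.1 h7.symm
    simp only [← mul_assoc] at h8
    exact hc γ h8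
  refine gd_two C ?_ hc
  have h9 := pow_orderOf_eq_one β
  rw [h3, hp3] at h9
  exact h9

section

variable (OT : OrdDiv.OrderTable.{0})
  (hS : ∀ (X : Type) [Group X] [Finite X] [IsSimpleGroup X], Cfsg.IsKnownSimple' X)

include OT hS

theorem cert : Cert rho := by
  refine ⟨?_, ?_, ?_⟩
  · obtain ⟨x, ⟨m, hm⟩, hx⟩ := H304.Spr.gen_opp OT hS
    refine ⟨x, ⟨m, ?_⟩, fun K h1 h2 => hx K h1 ?_⟩
    · show x ^ (m : ℤ) = _
      rw [zpow_natCast, hm, rt_eq (Q_e 0) (polar_ee 0 1)]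
      rfl
    · rw [rt_eq (Q_f 0) (polar_ff 0 1)] at h2
      exact h2
  · obtain ⟨x, ⟨m, hm⟩, hx⟩ := H304.Spr.gen_spe OT hS
    refine ⟨x, ⟨m, ?_⟩, fun K h1 h2 => hx K h1 ?_⟩
    · show x ^ (m : ℤ) = _
      rw [zpow_natCast, hm, rt_eq (Q_e 0) (polar_ee 0 1)]
      rfl
    · rw [rt_eq (Q_f 0) (by rw [polar_fe]; rfl)] at h2
      exact h2
  · exact H304.Spr.gen_refl OT hS rho (fun v => rfl)

theorem spr_p8 : H424.Spr.Spr PP := fun _ ha => gd_all (cert OT hS) ha

/-- **`PΩ⁺₈(3)`** -/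
theorem spr_o83 {F : Type} [Field F] [Fintype F] (hF : Fintype.card F = 3) :
    H424.Spr.Spr (POmega F (quadFormPlus 4 F)) := by
  obtain ⟨φ, -⟩ := H304.Spr.exists_phi
  obtain ⟨e⟩ := H503.El.equiv_o83 F hF
  exact ((spr_p8 OT hS).congr φ.symm).congr e

end

end Cfsg.Agent.H62.Oe
end

private theorem dce_bdb03197491c : _root_.True := by
  try have : _root_.True := by simp only [_root_.Cfsg.Agent.H304.Spr.bv.eq_1]
  try have : _root_.True := by simp only [_root_.Cfsg.Agent.H62.Oe.e.eq_1]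
  try have : _root_.True := by simp only [_root_.Cfsg.Agent.H304.Spr.sw.eq_1]
  try have : _root_.True := by simp only [_root_.Cfsg.Agent.H304.Spr.Rm.eq_1]
  try have : _root_.True := by simp only [_root_.Cfsg.Agent.H62.Oe.f.eq_1]
  try have : _root_.True := by simp only [_root_.Cfsg.Agent.ClassicalGeometry.OrthAut1.stab.congr_simp]
  exact _root_.True.intro
end

-- part: H378/Spr/F4two
section
prune_inst 0x40520204041000200001805828100200408000002004308008040080400088e428003070100001112100aa00000000040001000f0001000000000000000010000002042069248a104240008801080000000000000000000000000000000000004000000000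
set_option linter.all false
open scoped Cfsg.Agent.FastGrp

-- part: H378/Spr/InvN
section
/-!
# Involutions of groups with root group data in characteristic 2 (helper378)

`R : RGD cs h 2 T n X`, `L = GG`, `d ∈ Y` normalising `T` and all root groups (`Gp 1 d`), `a ∈ L d`, `a² = 1`: `a` is conjugate
under `L` to an element `m` with `Gp w m` (it permutes the root groups as `w`), `w² = 1` and for every fundamental root
`α` : `w α = α` or `w α < 0`.
-/

set_option autoImplicit false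
set_option linter.unusedSectionVars false

namespace Cfsg.Agent.H378.InvN

open CoxeterSystem Cfsg.Agent.ChevalleyStructure.CoxeterGeom Cfsg.Agent.Tits.Roots Cfsg.Agent.Tits.Core
  Cfsg.Agent.Tits.Exchange Cfsg.Agent.Nodes.Reps Cfsg.Agent.Nodes.BNOf Cfsg.Agent.Nodes.StabComb
  Cfsg.Agent.Nodes.Bruhat Cfsg.Agent.Nodes.OppDec Cfsg.Agent.Nodes.LeviDec

variable {I W Y : Type*} [Fintype I] [DecidableEq I] [Group W] [Group Y] {M : CoxeterMatrix I}
  {cs : CoxeterSystem M W} {A : I → I → ℤ} {h : IsCartan M A} {p : ℕ} {T : Subgroup Y} {n : I → Y}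
  {X : (I → ℤ) → Subgroup Y}

/-- `m` normalises `T` and permutes the root groups as `w` -/
def Gp (cs : CoxeterSystem M W) (h : IsCartan M A) (T : Subgroup Y) (X : (I → ℤ) → Subgroup Y) (w : W) (m : Y) :
    Prop := cj m T = T ∧ ∀ x, IsRoot cs h x → cj m (X x) = X (rep cs h w x)

theorem Gp.mul {v w : W} {a b : Y} (ha : Gp cs h T X v a) (hb : Gp cs h T X w b) : Gp cs h T X (v * w) (a * b) := by
  refine ⟨by rw [cj_mul, hb.1, ha.1], fun x hx => ?_⟩
  rw [cj_mul, hb.2 x hx, ha.2 _ (hx.act w), ← rep_mul_apply]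

theorem Gp.inv {w : W} {a : Y} (ha : Gp cs h T X w a) : Gp cs h T X w⁻¹ a⁻¹ := by
  refine ⟨?_, fun x hx => ?_⟩
  · have h1 := cj_inv_cj a T
    rwa [ha.1] at h1
  · have h1 := ha.2 (rep cs h w⁻¹ x) (hx.act _)
    rw [← rep_mul_apply, mul_inv_cancel, map_one, Module.End.one_apply] at h1
    rw [← h1, cj_inv_cj]

theorem Gp.conj_B {d : Y} (hd : Gp cs h T X 1 d) {b : Y} (hb : b ∈ RGD.B cs h T X) : d * b * d⁻¹ ∈ RGD.B cs h T X := by
  have h1 : cj d (RGD.B cs h T X) ≤ RGD.B cs h T X := by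
    unfold RGD.B
    rw [cj_sup, hd.1, RGD.cj_Sup]
    refine sup_le le_sup_left (iSup_le fun z => ?_)
    rw [hd.2 z.1 z.2.1, map_one, Module.End.one_apply]
    exact le_trans (RGD.le_Sup z.2) le_sup_right
  exact h1 (conj_mem_cj.2 hb)

theorem Gp.conj_GG {w : W} {m : Y} (hm : Gp cs h T X w m) {g : Y} (hg : g ∈ GG cs h T X) :
    m * g * m⁻¹ ∈ GG cs h T X := by
  have h1 : cj m (GG cs h T X) ≤ GG cs h T X := by
    unfold GG
    rw [cj_sup, hm.1, RGD.cj_Sup]
    refine sup_le le_sup_left (iSup_le fun z => ?_)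
    rw [hm.2 z.1 z.2]
    exact le_trans (RGD.le_Sup (S := {x | IsRoot cs h x}) (z.2.act w)) le_sup_right
  exact h1 (conj_mem_cj.2 hg)

theorem gp_of_rp (R : RGD cs h p T n X) {w : W} {m : Y} (hm : Rp cs R.nsys w m) : Gp cs h T X w m :=
  ⟨mem_normalizer_iff_cj.1 hm.mem_normalizer, fun _ hx => R.conj_rp hm hx⟩

variable (R : RGD cs h p T n X)

include R

/-- an element of `L` normalising `T` and all root groups is in `B` -/
theorem Gp.mem_B [Finite W] {d : Y} (hd : Gp cs h T X 1 d) (hdG : d ∈ GG cs h T X) : d ∈ RGD.B cs h T X := by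
  obtain ⟨w, b₁, hb₁, k, hk, b₂, hb₂, e⟩ := (mem_GG R).1 hdG
  have key : ∀ x : Y, x ∈ RGD.B cs h T X → k * x * k⁻¹ ∈ RGD.B cs h T X := by
    intro x hx
    have h1 := hd.conj_B (mul_mem (mul_mem (inv_mem hb₂) hx) hb₂)
    have h2 := mul_mem (mul_mem (inv_mem hb₁) h1) hb₁
    have e2 : b₁⁻¹ * (d * (b₂⁻¹ * x * b₂) * d⁻¹) * b₁ = k * x * k⁻¹ := by rw [e]; group
    rwa [e2] at h2
  have hw : w = 1 := by
    by_contra hw1
    obtain ⟨i, hi⟩ := cs.exists_rightDescent_of_ne_one hw1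
    have hi' : cs.length (w * cs.simple i) < cs.length w := hi
    have hneg : rep cs h w (sr i) ≤ 0 := nonpos_of_lt cs h w i hi'
    obtain ⟨u, hu, hu1⟩ := exists_ne_one R i
    have h1 := key u (RGD.X_le_B (isRoot_sr cs h i) (sr_nonneg i) hu)
    have h2 : k * u * k⁻¹ ∈ X (rep cs h w (sr i)) := R.conj_mem hk (isRoot_sr cs h i) hu
    have h3 := eq_one_of_mem_UN_of_mem_B R (X_le_UN ((isRoot_sr cs h i).act w) hneg h2) h1
    refine hu1 ?_
    have h4 : u = k⁻¹ * (k * u * k⁻¹) * k := by group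
    rw [h4, h3]; group
  have hkT : k ∈ T := by
    rw [hw] at hk
    exact hk.mem_of_one
  rw [e]
  exact mul_mem (mul_mem hb₁ (RGD.T_le_B hkT)) hb₂

/-- an element of `L` normalising `T` and all root groups is in `T` -/
theorem Gp.mem_T [Finite W] {d : Y} (hd : Gp cs h T X 1 d) (hdG : d ∈ GG cs h T X) : d ∈ T := by
  obtain ⟨t, ht, u, hu, rfl⟩ := R.mem_B.1 (hd.mem_B R hdG)
  have hu2 : Gp cs h T X 1 u := by
    have h1 := (gp_of_rp R (rp_of_mem (cs := cs) (hN := R.nsys) ht)).inv.mul hd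
    rwa [inv_one, one_mul, inv_mul_cancel_left] at h1
  obtain ⟨k₀, hk₀⟩ := exists_rp cs R.nsys (w0 cs)
  have hconj : Gp cs h T X 1 (k₀⁻¹ * u * k₀) := by
    have h2 := ((gp_of_rp R hk₀).inv.mul hu2).mul (gp_of_rp R hk₀)
    rwa [mul_one, inv_mul_cancel] at h2
  have hkB : k₀⁻¹ * u * k₀ ∈ RGD.B cs h T X :=
    hconj.mem_B R (mul_mem (mul_mem (inv_mem (NN_le_GG R ⟨_, hk₀⟩)) (B_le_GG (RGD.U_le_B hu)))
      (NN_le_GG R ⟨_, hk₀⟩))
  have h2 := mem_PW_of_conj R hk₀ hu hkB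
  rw [w0_inv, PW_w0, Sup_empty, Subgroup.mem_bot] at h2
  rw [h2, mul_one]
  exact ht

/-- representatives of `w` in `L` -/
theorem Gp.rp [Finite W] {w : W} {m : Y} (hm : Gp cs h T X w m) (hmG : m ∈ GG cs h T X) : Rp cs R.nsys w m := by
  obtain ⟨k, hk⟩ := exists_rp cs R.nsys w
  have h1 := (gp_of_rp R hk).inv.mul hm
  rw [inv_mul_cancel] at h1
  have h2 := h1.mem_T R (mul_mem (inv_mem (NN_le_GG R ⟨_, hk⟩)) hmG)
  have h3 := hk.mul_mem_right h2
  rwa [mul_inv_cancel_left] at h3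

omit R in
/-- `c ∈ B m B` with `m` permuting the root groups as `w` -/
def GC (cs : CoxeterSystem M W) (h : IsCartan M A) (T : Subgroup Y) (X : (I → ℤ) → Subgroup Y) (w : W) (c : Y) :
    Prop := ∃ b₁ ∈ RGD.B cs h T X, ∃ m, Gp cs h T X w m ∧ ∃ b₂ ∈ RGD.B cs h T X, c = b₁ * m * b₂

omit R in
theorem GC.inv {w : W} {c : Y} (hc : GC cs h T X w c) : GC cs h T X w⁻¹ c⁻¹ := by
  obtain ⟨b₁, h1, m, hm, b₂, h2, rfl⟩ := hc
  exact ⟨b₂⁻¹, inv_mem h2, m⁻¹, hm.inv, b₁⁻¹, inv_mem h1, by group⟩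

theorem GC.split [Finite W] {w : W} {c : Y} (hc : GC cs h T X w c) :
    ∃ d, Gp cs h T X 1 d ∧ Cell R.nsys cs h X w (c * d⁻¹) := by
  obtain ⟨b₁, h1, m, hm, b₂, h2, rfl⟩ := hc
  obtain ⟨k, hk⟩ := exists_rp cs R.nsys w
  have hd := (gp_of_rp R hk).inv.mul hm
  rw [inv_mul_cancel] at hd
  refine ⟨k⁻¹ * m, hd, b₁, h1, k, hk, k⁻¹ * m * b₂ * (k⁻¹ * m)⁻¹, hd.conj_B h2, by group⟩

theorem GC.of_cell [Finite W] {w : W} {c d : Y} (hd : Gp cs h T X 1 d) (hc : Cell R.nsys cs h X w c) :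
    GC cs h T X w (c * d) := by
  obtain ⟨b₁, h1, k, hk, b₂, h2, rfl⟩ := hc
  have h3 := (gp_of_rp R hk).mul hd
  rw [mul_one] at h3
  have h4 : Gp cs h T X 1 d⁻¹ := by
    have := hd.inv
    rwa [inv_one] at this
  have h5 := h4.conj_B h2
  exact ⟨b₁, h1, k * d, h3, d⁻¹ * b₂ * d⁻¹⁻¹, h5, by group⟩

theorem GC.unique [Finite W] {v w : W} {c : Y} (hv : GC cs h T X v c) (hw : GC cs h T X w c) : v = w := by
  obtain ⟨d, hd, h1⟩ := hv.split R
  obtain ⟨e, he, h2⟩ := hw.split R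
  have h3 : Gp cs h T X 1 (d * e⁻¹) := by
    have := hd.mul he.inv
    rwa [inv_one, mul_one] at this
  have hG1 : c * d⁻¹ ∈ GG cs h T X := (mem_GG R).2 ⟨_, h1⟩
  have hG2 : c * e⁻¹ ∈ GG cs h T X := (mem_GG R).2 ⟨_, h2⟩
  have h4 : d * e⁻¹ ∈ GG cs h T X := by
    have := mul_mem (inv_mem hG1) hG2
    have e3 : (c * d⁻¹)⁻¹ * (c * e⁻¹) = d * e⁻¹ := by group
    rwa [e3] at this
  have h5 := h1.mul_right (h3.mem_B R h4)
  have e6 : c * d⁻¹ * (d * e⁻¹) = c * e⁻¹ := by group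
  rw [e6] at h5
  exact Cell.unique R h5 h2

/-- conjugation by `n i` if the length increases twice -/
theorem GC.conj_n [Finite W] {w : W} {c : Y} (hc : GC cs h T X w c) {i : I}
    (hl : cs.length (cs.simple i * w * cs.simple i) = cs.length w + 2) :
    GC cs h T X (cs.simple i * w * cs.simple i) (n i * c * (n i)⁻¹) := by
  obtain ⟨d, hd, h1⟩ := hc.split R
  have hni := rp_simple cs R.nsys i
  have h2 : Gp cs h T X (cs.simple i) (d * (n i)⁻¹ * d⁻¹) := by
    have := (hd.mul (gp_of_rp R hni).inv).mul hd.inv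
    rwa [inv_one, mul_one, one_mul, inv_simple] at this
  have h3 : d * (n i)⁻¹ * d⁻¹ ∈ GG cs h T X := hd.conj_GG (inv_mem (NN_le_GG R ⟨_, hni⟩))
  have h4 := h2.rp R h3
  have hl1 := cs.length_mul_le (cs.simple i) w
  have hl2 := cs.length_mul_le (cs.simple i * w) (cs.simple i)
  rw [cs.length_simple] at hl1 hl2
  have h5 : Cell R.nsys cs h X (cs.simple i * w) (n i * (c * d⁻¹)) :=
    Cell.mul_of_length R (by rw [cs.length_simple]; omega) (cell_of_rp hni) h1
  have h6 : Cell R.nsys cs h X (cs.simple i * w * cs.simple i) (n i * (c * d⁻¹) * (d * (n i)⁻¹ * d⁻¹)) :=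
    Cell.mul_of_length R (by rw [cs.length_simple]; omega) h5 (cell_of_rp h4)
  have h7 := GC.of_cell R hd h6
  have e : n i * (c * d⁻¹) * (d * (n i)⁻¹ * d⁻¹) * d = n i * c * (n i)⁻¹ := by group
  rwa [e] at h7

omit R in
/-- a vector supported on `J` is fixed -/
theorem rep_fix {w : W} {J : Set I} (hJ : ∀ i ∈ J, rep cs h w (sr i) = sr i) {x : I → ℤ} (hx : ∀ k, k ∉ J → x k = 0) :
    rep cs h w x = x := by
  have h1 : x = ∑ i, x i • (sr i : I → ℤ) := by
    ext k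
    rw [Finset.sum_apply, Finset.sum_eq_single k]
    · rw [Pi.smul_apply, sr_self, smul_eq_mul, mul_one]
    · intro i _ hik
      rw [Pi.smul_apply, sr_ne (Ne.symm hik), smul_zero]
    · intro hk
      exact absurd (Finset.mem_univ k) hk
  conv_lhs => rw [h1]
  rw [map_sum]
  conv_rhs => rw [h1]
  refine Finset.sum_congr rfl fun i _ => ?_
  rw [map_smul]
  by_cases hi : i ∈ J
  · rw [hJ i hi]
  · rw [hx i hi, zero_smul, zero_smul]

omit R in
/-- `w² = 1`, `w α_i = α_i` or `w α_i < 0`: the positive roots made positive are supported on `J` -/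
theorem PW_le_PosJ {w : W} (hw2 : w * w = 1) (hw : ∀ i, rep cs h w (sr i) = sr i ∨ rep cs h w (sr i) ≤ 0) :
    PW cs h w ⊆ PosJ cs h {i | rep cs h w (sr i) = sr i} := by
  classical
  rintro x ⟨hx, h0, h1⟩
  rcases mem_PosJ_or_NotJ {i | rep cs h w (sr i) = sr i} hx h0 with h2 | ⟨-, -, k, hk, hk0⟩
  · exact h2
  exfalso
  set J : Set I := {i | rep cs h w (sr i) = sr i} with hJdef
  let φ : (I → ℤ) →ₗ[ℤ] ℤ := ∑ i : I, if i ∈ J then 0 else LinearMap.proj i
  have hφ : ∀ y : I → ℤ, φ y = ∑ i : I, if i ∈ J then 0 else y i := by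
    intro y
    show (∑ i : I, if i ∈ J then (0 : (I → ℤ) →ₗ[ℤ] ℤ) else LinearMap.proj i) y = _
    rw [LinearMap.sum_apply]
    refine Finset.sum_congr rfl fun i _ => ?_
    split_ifs <;> rfl
  have hφneg : ∀ y : I → ℤ, y ≤ 0 → φ y ≤ 0 := by
    intro y hy
    rw [hφ]
    refine Finset.sum_nonpos fun i _ => ?_
    split_ifs
    · exact le_refl _
    · exact hy i
  have hneg : ∀ i, i ∉ J → φ (rep cs h w (sr i)) < 0 := by
    intro i hi
    have hi' : rep cs h w (sr i) ≤ 0 := (hw i).resolve_left hi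
    rcases (hφneg _ hi').lt_or_eq with h3 | h3
    · exact h3
    exfalso
    rw [hφ] at h3
    have h4 := (Finset.sum_eq_zero_iff_of_nonpos (fun j _ => by
      show (if j ∈ J then (0 : ℤ) else rep cs h w (sr i) j) ≤ 0
      split_ifs
      · exact le_refl _
      · exact hi' j)).1 h3
    have h5 : rep cs h w (rep cs h w (sr i)) = rep cs h w (sr i) := by
      refine rep_fix (J := J) (fun j hj => hj) fun j hj => ?_
      have := h4 j (Finset.mem_univ j)
      rwa [if_neg hj] at this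
    rw [← rep_mul_apply, hw2, map_one, Module.End.one_apply] at h5
    have h6 := hi' i
    rw [← h5, sr_self] at h6
    exact absurd h6 (by simp)
  have hxs : rep cs h w x = ∑ i, x i • rep cs h w (sr i) := by
    have h3 : x = ∑ i, x i • (sr i : I → ℤ) := by
      ext k
      rw [Finset.sum_apply, Finset.sum_eq_single k]
      · rw [Pi.smul_apply, sr_self, smul_eq_mul, mul_one]
      · intro i _ hik
        rw [Pi.smul_apply, sr_ne (Ne.symm hik), smul_zero]
      · intro hk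
        exact absurd (Finset.mem_univ k) hk
    conv_lhs => rw [h3]
    rw [map_sum]
    exact Finset.sum_congr rfl fun i _ => by rw [map_smul]
  have h3 : φ (rep cs h w x) < 0 := by
    rw [hxs, map_sum]
    refine Finset.sum_neg' (fun i _ => ?_) ⟨k, Finset.mem_univ k, ?_⟩
    · rw [map_smul, smul_eq_mul]
      by_cases hi : i ∈ J
      · have h4 : rep cs h w (sr i) = sr i := hi
        have h5 : φ (sr i : I → ℤ) = 0 := by
          rw [hφ]
          refine Finset.sum_eq_zero fun j _ => ?_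
          split_ifs with hj
          · rfl
          · exact sr_ne (by rintro rfl; exact hj hi)
        rw [h4, h5, mul_zero]
      · exact mul_nonpos_of_nonneg_of_nonpos (h0 i) (hneg i hi).le
    · rw [map_smul, smul_eq_mul]
      exact mul_neg_of_pos_of_neg hk0 (hneg k hk)
  have h4 : 0 ≤ φ (rep cs h w x) := by
    rw [hφ]
    refine Finset.sum_nonneg fun i _ => ?_
    split_ifs
    · exact le_refl _
    · exact h1 i
  omega

/-- **Involutions are conjugate to monomial elements.** -/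
theorem exists_conj [Finite W] {a d : Y} (hd : Gp cs h T X 1 d) (had : a * d⁻¹ ∈ GG cs h T X) (haa : a * a = 1) :
    ∃ g ∈ GG cs h T X, ∃ w m, Gp cs h T X w m ∧ g * a * g⁻¹ = m ∧ m * m = 1 ∧ w * w = 1 ∧
      ∀ i, rep cs h w (sr i) = sr i ∨ rep cs h w (sr i) ≤ 0 := by
  classical
  let S : Set W := {w | ∃ g ∈ GG cs h T X, GC cs h T X w (g * a * g⁻¹)}
  have hne : S.Nonempty := by
    obtain ⟨w, hw⟩ := (mem_GG R).1 had
    refine ⟨w, 1, one_mem _, ?_⟩
    have h1 := GC.of_cell R hd hw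
    rw [inv_mul_cancel_right] at h1
    rwa [one_mul, inv_one, mul_one]
  obtain ⟨w, ⟨g, hg, b₁, hb₁, m₀, hm₀, b₂, hb₂, hgc⟩, hmax⟩ :=
    Set.exists_max_image S (fun w => cs.length w) (Set.toFinite S) hne
  obtain ⟨t, ht, u, hu, htu⟩ := R.mem_B.1 (mul_mem hb₂ hb₁)
  obtain ⟨g₁, hg₁⟩ : ∃ g₁, g₁ = b₁⁻¹ * g := ⟨_, rfl⟩
  have hg₁G : g₁ ∈ GG cs h T X := by rw [hg₁]; exact mul_mem (inv_mem (B_le_GG hb₁)) hg
  obtain ⟨m, hmdef⟩ : ∃ m, m = m₀ * t := ⟨_, rfl⟩
  have hm : Gp cs h T X w m := by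
    have := hm₀.mul (gp_of_rp R (rp_of_mem (cs := cs) (hN := R.nsys) ht))
    rwa [mul_one, ← hmdef] at this
  have hc : g₁ * a * g₁⁻¹ = m * u := by
    have e1 : g₁ * a * g₁⁻¹ = b₁⁻¹ * (g * a * g⁻¹) * b₁ := by rw [hg₁]; group
    rw [e1, hgc, hmdef]
    have e2 : b₁⁻¹ * (b₁ * m₀ * b₂) * b₁ = m₀ * (b₂ * b₁) := by group
    rw [e2, htu]; group
  obtain ⟨c, hcdef⟩ : ∃ c, c = m * u := ⟨_, rfl⟩
  have hcc : c * c = 1 := by
    rw [hcdef, ← hc]
    have : g₁ * a * g₁⁻¹ * (g₁ * a * g₁⁻¹) = g₁ * (a * a) * g₁⁻¹ := by group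
    rw [this, haa]; group
  have hcinv : c⁻¹ = c := inv_eq_of_mul_eq_one_left hcc
  have hGc : GC cs h T X w c := ⟨1, one_mem _, m, hm, u, RGD.U_le_B hu, by rw [hcdef]; group⟩
  have hwinv : w⁻¹ = w := by
    have h1 := hGc.inv
    rw [hcinv] at h1
    exact h1.unique R hGc
  have hw2 : w * w = 1 := by
    have h1 := mul_inv_cancel w
    rwa [hwinv] at h1
  -- `m² = 1`
  have hq : Gp cs h T X 1 (m * m) := by
    have := hm.mul hm
    rwa [hw2] at this
  have huG : u ∈ GG cs h T X := B_le_GG (RGD.U_le_B hu)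
  have hx : m * u * m⁻¹ = u⁻¹ * (m * m)⁻¹ := by
    have h1 : m * u * (m * u) = 1 := by rw [← hcdef]; exact hcc
    have h2 : m * u * m⁻¹ = (m * u * (m * u)) * (u⁻¹ * (m * m)⁻¹) := by group
    rw [h2, h1, one_mul]
  have hqG : m * m ∈ GG cs h T X := by
    have h1 := hm.conj_GG huG
    rw [hx] at h1
    have h2 := mul_mem huG h1
    rw [mul_inv_cancel_left] at h2
    exact (inv_mem_iff).1 h2
  have hqT : m * m ∈ T := hq.mem_T R hqG
  obtain ⟨k, hk⟩ := R.isPGroup_Upos ⟨u, hu⟩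
  have hk' : u ^ p ^ k = 1 := by
    have := congrArg Subtype.val hk
    simpa using this
  have hxU : m * u * m⁻¹ ∈ RGD.Sup X (RGD.Pos cs h) := by
    refine R.mem_U_of_mem_B (k := k) ?_ ?_
    · rw [hx]
      exact mul_mem (inv_mem (RGD.U_le_B hu)) (inv_mem (RGD.T_le_B hqT))
    · rw [conj_pow, hk']; group
  have hq1 : m * m = 1 := by
    have h1 : (m * m)⁻¹ ∈ RGD.Sup X (RGD.Pos cs h) ⊓ T := by
      refine Subgroup.mem_inf.2 ⟨?_, inv_mem hqT⟩
      have := mul_mem hu hxU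
      rwa [hx, mul_inv_cancel_left] at this
    rw [U_inf_T R, Subgroup.mem_bot] at h1
    exact inv_eq_one.1 h1
  have hminv : m⁻¹ = m := inv_eq_of_mul_eq_one_left hq1
  rw [hq1, inv_one, mul_one] at hx
  -- the lengths
  have hfold : ∀ i, cs.length (cs.simple i * w) < cs.length w ∨
      (cs.length w < cs.length (cs.simple i * w) ∧ cs.simple i * w = w * cs.simple i) := by
    intro i
    rcases cs.length_simple_mul w i with h1 | h1
    · right
      refine ⟨by omega, ?_⟩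
      have h2 : cs.length (w * cs.simple i) = cs.length w + 1 := by
        rw [← cs.length_inv (w * cs.simple i), mul_inv_rev, inv_simple, hwinv, h1]
      rcases fold cs h1 h2 with h3 | h3
      · exfalso
        have h4 := GC.conj_n R hGc h3
        have h5 : cs.simple i * w * cs.simple i ∈ S := by
          refine ⟨n i * g₁, mul_mem (NN_le_GG R ⟨_, rp_simple cs R.nsys i⟩) hg₁G, ?_⟩
          have e : n i * g₁ * a * (n i * g₁)⁻¹ = n i * (g₁ * a * g₁⁻¹) * (n i)⁻¹ := by group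
          rw [e, hc, ← hcdef]
          exact h4
        have h6 : cs.length (cs.simple i * w * cs.simple i) ≤ cs.length w := hmax _ h5
        omega
      · exact h3
    · left; omega
  have hP : ∀ i, (rep cs h w (sr i) = sr i ∧ cs.simple i * w = w * cs.simple i ∧
      cs.length w < cs.length (w * cs.simple i)) ∨ rep cs h w (sr i) ≤ 0 := by
    intro i
    rcases hfold i with h1 | ⟨h1, h2⟩
    · right
      refine nonpos_of_lt cs h w i ?_
      rw [← cs.length_inv (w * cs.simple i), mul_inv_rev, inv_simple, hwinv]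
      exact h1
    · left
      have h3 : 0 ≤ rep cs h w (sr i) := (lt_iff' cs h w i).1 (by rw [← h2]; exact h1)
      refine ⟨?_, h2, by rw [← h2]; exact h1⟩
      by_contra hne
      have h4 := ((isRoot_sr cs h i).act w).simple_nonneg h3 i hne
      rw [← rep_mul_apply, h2, rep_mul_apply, rep_simple_sr, map_neg] at h4
      exact ((isRoot_sr cs h i).act w).not_pos_neg h3 (neg_nonneg.1 h4)
  have hP' : ∀ i, rep cs h w (sr i) = sr i ∨ rep cs h w (sr i) ≤ 0 := fun i => (hP i).imp (fun h1 => h1.1) id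
  set J : Set I := {i | rep cs h w (sr i) = sr i} with hJdef
  have hJ : ∀ i ∈ J, cs.simple i * w = w * cs.simple i ∧ cs.length w < cs.length (w * cs.simple i) := by
    intro i hi
    rcases hP i with h1 | h1
    · exact h1.2
    · exfalso
      have hi' : rep cs h w (sr i) = sr i := hi
      rw [hi'] at h1
      have := h1 i
      rw [sr_self] at this
      exact absurd this (by simp)
  have hcomm : ∀ v ∈ WJ cs J, v * w = w * v := by
    intro v hv
    unfold WJ at hv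
    induction hv using Subgroup.closure_induction with
    | mem v hv => obtain ⟨i, hi, rfl⟩ := hv; exact (hJ i hi).1
    | one => rw [one_mul, mul_one]
    | mul x y _ _ hx hy => rw [mul_assoc, hy, ← mul_assoc, hx, mul_assoc]
    | inv x _ hx =>
      have h1 : x⁻¹ * (x * w) * x⁻¹ = x⁻¹ * (w * x) * x⁻¹ := by rw [hx]
      have h2 : x⁻¹ * (x * w) * x⁻¹ = w * x⁻¹ := by group
      have h3 : x⁻¹ * (w * x) * x⁻¹ = x⁻¹ * w := by group
      rw [h2, h3] at h1
      exact h1.symm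
  -- `u ∈ U_J`
  obtain ⟨k₁, hk₁⟩ := exists_rp cs R.nsys w
  have huJ : u ∈ UJ cs h X J := by
    have he : Gp cs h T X 1 (k₁⁻¹ * m) := by
      have := (gp_of_rp R hk₁).inv.mul hm
      rwa [inv_mul_cancel] at this
    have h1 : k₁⁻¹ * u * k₁ ∈ RGD.B cs h T X := by
      have e : k₁⁻¹ * u * k₁ = (k₁⁻¹ * m) * (m⁻¹ * u * m) * (k₁⁻¹ * m)⁻¹ := by group
      rw [e, hminv]
      have e2 : m * u * m = u⁻¹ := by
        have := hx
        rwa [hminv] at this
      rw [e2]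
      exact he.conj_B (inv_mem (RGD.U_le_B hu))
    have h2 := mem_PW_of_conj R hk₁ hu h1
    rw [hwinv] at h2
    exact RGD.Sup_mono (PW_le_PosJ hw2 hP') h2
  -- conjugation by the longest element of `W_J`
  have hlong : IsLongest cs J (wJ cs J) := isLongest_wJ cs J
  obtain ⟨kv, hkv⟩ := exists_rp cs R.nsys (wJ cs J)
  have hkvG : kv ∈ GG cs h T X := NN_le_GG R ⟨_, hkv⟩
  have hr1 : Rp cs R.nsys (wJ cs J) (m⁻¹ * kv * m) := by
    have h1 := (hm.inv.mul (gp_of_rp R hkv)).mul hm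
    rw [hwinv, mul_assoc, hcomm _ hlong.1, ← mul_assoc, hw2, one_mul] at h1
    refine h1.rp R ?_
    have := hm.inv.conj_GG hkvG
    rwa [inv_inv] at this
  have hyL : m⁻¹ * kv * m * u * kv⁻¹ ∈ LJ cs h T X J :=
    mul_mem (mul_mem (rp_mem_LJ R hlong.1 hr1) (BJ_le_LJ (UJ_le_BJ huJ))) (inv_mem (rp_mem_LJ R hlong.1 hkv))
  obtain ⟨x, hxJ, hcell⟩ := exists_cellJ R hyL
  have hmBJ : ∀ b ∈ BJ cs h T X J, m * b * m⁻¹ ∈ RGD.B cs h T X := by
    intro b hb
    have h1 : cj m (BJ cs h T X J) ≤ RGD.B cs h T X := by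
      unfold BJ UJ
      rw [cj_sup, hm.1, RGD.cj_Sup]
      refine sup_le RGD.T_le_B (iSup_le fun z => ?_)
      rw [hm.2 z.1 z.2.1, rep_fix (J := J) (fun j hj => hj) z.2.2.2]
      exact RGD.X_le_B z.2.1 z.2.2.1
    exact h1 (conj_mem_cj.2 hb)
  have hx1 : x = 1 := by
    obtain ⟨c₁, hc₁, k', hk', c₂, hc₂, e⟩ := hcell
    have h1 : w * x ∈ S := by
      refine ⟨kv * g₁, mul_mem hkvG hg₁G, m * c₁ * m⁻¹, hmBJ c₁ hc₁, m * k', hm.mul (gp_of_rp R hk'), c₂,
        BJ_le_B J hc₂, ?_⟩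
      have e1 : kv * g₁ * a * (kv * g₁)⁻¹ = kv * (g₁ * a * g₁⁻¹) * kv⁻¹ := by group
      rw [e1, hc]
      have e2 : m * c₁ * m⁻¹ * (m * k') * c₂ = m * (c₁ * k' * c₂) := by group
      rw [e2, ← e]
      group
    have h2 : cs.length (w * x) ≤ cs.length w := hmax _ h1
    have h3 := (inferInstance : Cfsg.Agent.Tits.OppRes.Cox cs).add_right J w (fun j hj => (hJ j hj).2) x hxJ
    have h4 : cs.length x = 0 := by omega
    exact cs.length_eq_zero_iff.1 h4
  have hyB : m⁻¹ * kv * m * u * kv⁻¹ ∈ RGD.B cs h T X := by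
    rw [hx1] at hcell
    exact BJ_le_B J hcell.mem_of_one
  have hT1 : m⁻¹ * kv * m * kv⁻¹ ∈ T := by
    have := hr1.mul hkv.inv
    rw [mul_inv_cancel] at this
    exact this.mem_of_one
  have huv : kv * u * kv⁻¹ ∈ RGD.B cs h T X := by
    have := mul_mem (inv_mem (RGD.T_le_B hT1)) hyB
    have e : (m⁻¹ * kv * m * kv⁻¹)⁻¹ * (m⁻¹ * kv * m * u * kv⁻¹) = kv * u * kv⁻¹ := by group
    rwa [e] at this
  have huv2 : kv * u * kv⁻¹ ∈ UN cs h X :=
    conj_mem_Sup R hkv (S' := Neg cs h) (fun x hx => hx.1) (fun x hx => ⟨hx.1.act _, rep_longest_nonpos hlong hx⟩) huJ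
  have h9 := eq_one_of_mem_UN_of_mem_B R huv2 huv
  have hu1 : u = 1 := by
    have : u = kv⁻¹ * (kv * u * kv⁻¹) * kv := by group
    rw [this, h9]; group
  refine ⟨g₁, hg₁G, w, m, hm, ?_, hq1, hw2, hP'⟩
  rw [hc, hu1, mul_one]

end Cfsg.Agent.H378.InvN
end

-- part: H378/Spr/F4twoC
section
/-!
# The involutions of `F₄(2)` : the finite check (helper378)

For every involution `a` of `F₄(2)` there is an `x` such that every `a`-invariant subgroup over `x` has order divisible by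
`13` and `17`.
-/

set_option autoImplicit false

namespace Cfsg.Agent.H378.F4two

open Cfsg Cfsg.Lie Cfsg.Agent.ChevalleyStructure Cfsg.Agent.ChevalleyStructure.Columns CoxeterSystem
  Cfsg.Agent.ChevalleyStructure.Elts Cfsg.Agent.ChevalleyStructure.RootVec Cfsg.Agent.ChevalleyStructure.CoxeterGeom
  Cfsg.Agent.Tits.Roots Cfsg.Agent.Nodes.Reps Cfsg.Agent.Nodes.RGDChev Cfsg.Agent.H378.MVec Cfsg.Agent.H378.F4Dat
  Cfsg.Agent.BpExc.RowsUntw

/-! ### The finite check -/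

/-- the codes of the roots -/
def cds : List ℤ := [-68738, -35970, -34946, -34914, -34882, -33858, -1090, -34913, -34881, -33857, -1089, -33825, -1057, -33, -1, -34880, -33856, -1088, -33824, -1056, -32, -33792, -1024, -32768, 32768, 1024, 33792, 32, 1056, 33824, 1088, 33856, 34880, 1, 33, 1057, 33825, 1089, 33857, 34881, 34913, 1090, 33858, 34882, 34914, 34946, 35970, 68738]

/-- is it the code of a root -/
def isR (z : ℤ) : Bool := cds.any fun c => decide (c = z)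

/-- coefficient -/
def cf (r j : ℕ) : ℤ := rt chevF4 r j

/-- the code of the image of the root `r` under the map `αᵢ ↦ F i` -/
def img (F : List ℕ) (r : ℕ) : ℤ :=
  cf r 0 * cds.getD (F.getD 0 0) 0 + cf r 1 * cds.getD (F.getD 1 0) 0 + cf r 2 * cds.getD (F.getD 2 0) 0 +
    cf r 3 * cds.getD (F.getD 3 0) 0

/-- the index of the root with the code `z` -/
def ix (z : ℤ) : ℕ := cds.findIdx fun c => decide (c = z)

/-- candidates -/
def cand (i : ℕ) : List ℕ := chevF4.simple i :: List.range 24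

/-- necessary condition for a pair -/
def ok2 (i j f g : ℕ) : Bool :=
  (isR (cds.getD f 0 + cds.getD g 0) == isR (cds.getD (chevF4.simple i) 0 + cds.getD (chevF4.simple j) 0)) &&
    !(isR (cds.getD f 0 - cds.getD g 0))

/-- the square is trivial, the roots go to roots -/
def sqo (F : List ℕ) : Bool := ((List.range 4).all fun i =>
  decide (img F (F.getD i 0) = cds.getD (chevF4.simple i) 0)) && (List.range 48).all fun r => isR (img F r)

/-- words and coordinates -/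
def dat : List (List ℕ × List (ℕ × ℕ) × ℕ × ℕ) := [
  ([33, 27, 25, 1], [(23, 1), (34, 1), (43, 1), (47, 1), (20, 1), (6, 1)], 38, 48),
  ([33, 12, 25, 21], [(26, 1), (0, 1), (33, 1), (27, 1), (40, 1), (30, 1)], 44, 42),
  ([33, 13, 21, 24], [(39, 1), (30, 1), (2, 1), (0, 1), (10, 1), (34, 1)], 38, 41),
  ([33, 13, 22, 23], [(6, 1), (40, 1), (14, 1), (15, 1), (18, 1), (43, 1)], 44, 44),
  ([7, 27, 25, 24], [(42, 1), (6, 1), (40, 1), (21, 1), (43, 1), (3, 1)], 44, 44),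
  ([10, 27, 25, 15], [(25, 1), (9, 1), (42, 1), (4, 1), (40, 1), (1, 1)], 44, 44),
  ([13, 27, 16, 24], [(36, 1), (41, 1), (8, 1), (2, 1), (37, 1), (40, 1)], 48, 44),
  ([13, 27, 17, 23], [(6, 1), (40, 1), (14, 1), (15, 1), (18, 1), (43, 1)], 44, 48),
  ([14, 19, 25, 21], [(11, 1), (44, 1), (4, 1), (22, 1), (20, 1), (47, 1)], 48, 43),
  ([14, 20, 21, 24], [(11, 1), (44, 1), (4, 1), (22, 1), (20, 1), (47, 1)], 48, 40),
  ([14, 20, 22, 23], [(11, 1), (44, 1), (4, 1), (22, 1), (20, 1), (47, 1)], 48, 43)]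

/-- the image of a word -/
def mp (F : List ℕ) (w : List (ℕ × ℕ)) : List (ℕ × ℕ) := w.map fun e => (ix (img F e.1), 1)

/-- final check -/
def fin (F : List ℕ) : Bool :=
  decide (F = [33, 27, 25, 24]) ||
    dat.any fun d => decide (d.1 = F) && (chk tab 52 17 d.2.1 (1, 0) d.2.2.1 &&
      (chk tab 52 13 (mp F d.2.1 ++ d.2.1) (1, 0) d.2.2.2 && d.2.1.all fun e => decide (e.1 < 48 ∧ e.2 = 1)))

/-- the whole check -/
def chkAll : Bool :=
  (cand 0).all fun f0 => (cand 1).all fun f1 => !(ok2 0 1 f0 f1) || (cand 2).all fun f2 =>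
    !(ok2 0 2 f0 f2 && ok2 1 2 f1 f2) || (cand 3).all fun f3 =>
      !(ok2 0 3 f0 f3 && (ok2 1 3 f1 f3 && ok2 2 3 f2 f3)) || (!(sqo [f0, f1, f2, f3]) || fin [f0, f1, f2, f3])

private noncomputable def msk (L : List ℤ) : ℕ := List.rec 0 (fun c _ a => Nat.lor (Nat.pow 2 (c + 70000).toNat) a) L

/-- `isR` by a mask -/
noncomputable def isF (z : ℤ) : Bool :=
  Int.rec (fun n => Nat.testBit (msk cds) n) (fun _ => false) (Int.add z 70000)

private theorem msk_spec (n : ℕ) : ∀ L : List ℤ, (∀ c ∈ L, 0 ≤ c + 70000) →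
    Nat.testBit (msk L) n = L.any fun c => decide (c + 70000 = n)
  | [], _ => Nat.zero_testBit n
  | c :: L, h => by
    have h1 := h c List.mem_cons_self
    refine (Nat.testBit_or _ _ n).trans (congrArg₂ or ((Nat.testBit_two_pow).trans (decide_eq_decide.2 ?_))
      (msk_spec n L fun d hd => h d (List.mem_cons_of_mem _ hd)))
    omega

theorem isR_eq : isR = isF := funext fun z => by
  have h : ∀ c ∈ cds, 0 ≤ c + 70000 := by decide +kernel
  delta isR isF
  cases e : Int.add z 70000 with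
  | ofNat n =>
    change z + 70000 = (n : ℤ) at e
    refine Eq.trans (congrArg _ (funext fun c => decide_eq_decide.2 ?_)) (msk_spec n cds h).symm
    omega
  | negSucc n =>
    change z + 70000 = _ at e
    refine List.any_eq_false.2 fun c hc h1 => ?_
    have := h c hc
    have := of_decide_eq_true h1
    omega

private def ok2G (I : ℤ → Bool) (i j f g : ℕ) : Bool :=
  (I (cds.getD f 0 + cds.getD g 0) == I (cds.getD (chevF4.simple i) 0 + cds.getD (chevF4.simple j) 0)) &&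
    !(I (cds.getD f 0 - cds.getD g 0))

private def chkG (I : ℤ → Bool) : Bool :=
  (cand 0).all fun f0 => (cand 1).all fun f1 => !(ok2G I 0 1 f0 f1) || (cand 2).all fun f2 =>
    !(ok2G I 0 2 f0 f2 && ok2G I 1 2 f1 f2) || (cand 3).all fun f3 =>
      !(ok2G I 0 3 f0 f3 && (ok2G I 1 3 f1 f3 && ok2G I 2 3 f2 f3)) || (!(((List.range 4).all fun i =>
        decide (img [f0, f1, f2, f3] ([f0, f1, f2, f3].getD i 0) = cds.getD (chevF4.simple i) 0)) &&
          (List.range 48).all fun r => I (img [f0, f1, f2, f3] r)) || fin [f0, f1, f2, f3])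

private noncomputable def _root_.Cfsg.Agent.LsF.f0bdece_0 : {f // @Cfsg.Lie.ChevalleyDatum.simple = f} := ⟨_, by first | (delta Cfsg.Lie.ChevalleyDatum.simple; rewrite [Cfsg.Agent.LsF.agetD_eq]; exact rfl) | exact rfl⟩
private noncomputable def _root_.Cfsg.Agent.LsF.f0bdece_1 : {f // @Cfsg.Agent.H378.F4two.cand = f} := ⟨_, by first | (delta Cfsg.Agent.H378.F4two.cand; rewrite [Cfsg.Agent.LsF.f0bdece_0.2, Cfsg.Agent.LsF.range_eq]; exact rfl) | exact rfl⟩
private noncomputable def _root_.Cfsg.Agent.LsF.f0bdece_2 : {f // @Cfsg.Agent.H378.F4two.ok2G = f} := ⟨_, by first | (delta Cfsg.Agent.H378.F4two.ok2G; rewrite [Cfsg.Agent.LsF.f0bdece_0.2, Cfsg.Agent.LsF.iadd_pat, Cfsg.Agent.LsF.isub_pat, Cfsg.Agent.LsF.bbeq_pat, Cfsg.Agent.LsF.and_eq, Cfsg.Agent.LsF.not_eq, Cfsg.Agent.LsF.getD_eq]; exact rfl) | exact rfl⟩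
private noncomputable def _root_.Cfsg.Agent.LsF.f0bdece_3 : {f // @Cfsg.Agent.ChevalleyStructure.RootVecTab.dig = f} := ⟨_, by first | (delta Cfsg.Agent.ChevalleyStructure.RootVecTab.dig; rewrite [Cfsg.Agent.LsF.nmul_pat]; exact rfl) | exact rfl⟩
private noncomputable def _root_.Cfsg.Agent.LsF.f0bdece_4 : {f // @Cfsg.Agent.ChevalleyStructure.RootVecTab.packTab = f} := ⟨_, by first | (delta Cfsg.Agent.ChevalleyStructure.RootVecTab.packTab; rewrite [Cfsg.Agent.LsF.instDecEq_eq, Cfsg.Agent.LsF.ite_eq]; exact rfl) | exact rfl⟩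
private noncomputable def _root_.Cfsg.Agent.LsF.f0bdece_5 : {f // @Cfsg.Agent.ChevalleyStructure.RootVecTab.code = f} := ⟨_, by first | (delta Cfsg.Agent.ChevalleyStructure.RootVecTab.code; rewrite [Cfsg.Agent.LsF.f0bdece_4.2, Cfsg.Agent.LsF.nmul_pat, Cfsg.Agent.LsF.npow_pat]; exact rfl) | exact rfl⟩
private noncomputable def _root_.Cfsg.Agent.LsF.f0bdece_6 : {f // @Cfsg.Agent.ChevalleyStructure.RootVec.rt = f} := ⟨_, by first | (delta Cfsg.Agent.ChevalleyStructure.RootVec.rt; rewrite [Cfsg.Agent.LsF.f0bdece_3.2, Cfsg.Agent.LsF.f0bdece_5.2, Cfsg.Agent.LsF.nsub_pat, Cfsg.Agent.LsF.isub_pat, Cfsg.Agent.LsF.icast_pat, Cfsg.Agent.LsF.decLt_eq, Cfsg.Agent.LsF.dAnd_eq, Cfsg.Agent.LsF.ite_eq]; exact rfl) | exact rfl⟩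
private noncomputable def _root_.Cfsg.Agent.LsF.f0bdece_7 : {f // @Cfsg.Agent.H378.F4two.cf = f} := ⟨_, by first | (delta Cfsg.Agent.H378.F4two.cf; rewrite [Cfsg.Agent.LsF.f0bdece_6.2]; exact rfl) | exact rfl⟩
private noncomputable def _root_.Cfsg.Agent.LsF.f0bdece_8 : {f // @Cfsg.Agent.H378.F4two.img = f} := ⟨_, by first | (delta Cfsg.Agent.H378.F4two.img; rewrite [Cfsg.Agent.LsF.f0bdece_7.2, Cfsg.Agent.LsF.iadd_pat, Cfsg.Agent.LsF.imul_pat, Cfsg.Agent.LsF.getD_eq]; exact rfl) | exact rfl⟩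
private noncomputable def _root_.Cfsg.Agent.LsF.f0bdece_9 : {f // @Cfsg.Agent.H378.MVec.frc = f} := ⟨_, by first | (delta Cfsg.Agent.H378.MVec.frc; rewrite [Cfsg.Agent.LsF.nadd_pat]; (try delta Cfsg.Agent.H378.MVec.corM.match_1); (try delta Nat.casesOn); exact rfl) | exact rfl⟩
private noncomputable def _root_.Cfsg.Agent.LsF.f0bdece_10 : {f // @Cfsg.Agent.H378.MVec.fc2 = f} := ⟨_, by first | (delta Cfsg.Agent.H378.MVec.fc2; rewrite [Cfsg.Agent.LsF.f0bdece_9.2]; exact rfl) | exact rfl⟩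
private noncomputable def _root_.Cfsg.Agent.LsF.f0bdece_11 : {f // @Cfsg.Agent.H378.MVec.ml = f} := ⟨_, by first | (delta Cfsg.Agent.H378.MVec.ml; rewrite [Cfsg.Agent.LsF.nxor_pat, Cfsg.Agent.LsF.instDecEq_eq, Cfsg.Agent.LsF.ite_eq]; exact rfl) | exact rfl⟩
private noncomputable def _root_.Cfsg.Agent.LsF.f0bdece_12 : {f // @Cfsg.Agent.H378.MVec.spN = f} := ⟨_, by first | (delta Cfsg.Agent.H378.MVec.spN List.brecOn Cfsg.Agent.H378.MVec.spN._f List.brecOn.go; rewrite [Cfsg.Agent.LsF.cond_eq]; (try delta Cfsg.Agent.H378.MVec.spN.match_1); (try delta List.casesOn); first | dsimp -zeta only | exact rfl) | exact rfl⟩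
private noncomputable def _root_.Cfsg.Agent.LsF.f0bdece_13 : {f // @Cfsg.Agent.H378.MVec.sqc = f} := ⟨_, by first | (delta Cfsg.Agent.H378.MVec.sqc; rewrite [Cfsg.Agent.LsF.instDecEq_eq, Cfsg.Agent.LsF.ite_eq]; exact rfl) | exact rfl⟩
private noncomputable def _root_.Cfsg.Agent.LsF.f0bdece_14 : {f // @Cfsg.Agent.H378.MVec.appR = f} := ⟨_, by first | (delta Cfsg.Agent.H378.MVec.appR; rewrite [Cfsg.Agent.LsF.f0bdece_11.2, Cfsg.Agent.LsF.f0bdece_12.2, Cfsg.Agent.LsF.f0bdece_13.2]; exact rfl) | exact rfl⟩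
private noncomputable def _root_.Cfsg.Agent.LsF.f0bdece_15 : {f // @Cfsg.Agent.H378.MVec.rW = f} := ⟨_, by first | (delta Cfsg.Agent.H378.MVec.rW List.brecOn List.brecOn.go Cfsg.Agent.H378.MVec.rW._f; rewrite [Cfsg.Agent.LsF.f0bdece_10.2, Cfsg.Agent.LsF.f0bdece_14.2, Cfsg.Agent.LsF.getD_eq]; (try delta Cfsg.Agent.H378.MVec.rW.match_1); (try delta List.casesOn); first | dsimp -zeta only | exact rfl) | exact rfl⟩
private noncomputable def _root_.Cfsg.Agent.LsF.f0bdece_16 : {f // @Cfsg.Agent.H378.MVec.it = f} := ⟨_, by first | (delta Cfsg.Agent.H378.MVec.it Nat.brecOn.go Nat.brecOn Cfsg.Agent.H378.MVec.it._f; rewrite [Cfsg.Agent.LsF.f0bdece_10.2, Cfsg.Agent.LsF.f0bdece_15.2]; (try delta Cfsg.Agent.H378.MVec.it.match_1); (try delta Nat.casesOn); first | dsimp -zeta only | exact rfl) | exact rfl⟩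
private noncomputable def _root_.Cfsg.Agent.LsF.f0bdece_17 : {f // @Cfsg.Agent.H378.MVec.chk = f} := ⟨_, by first | (delta Cfsg.Agent.H378.MVec.chk; rewrite [Cfsg.Agent.LsF.f0bdece_10.2, Cfsg.Agent.LsF.f0bdece_16.2, Cfsg.Agent.LsF.f0bdece_15.2, Cfsg.Agent.LsF.bbeq_pat, Cfsg.Agent.LsF.bbne_pat, Cfsg.Agent.LsF.and_eq, Cfsg.Agent.LsF.testBit_eq]; exact rfl) | exact rfl⟩
private noncomputable def _root_.Cfsg.Agent.LsF.f0bdece_18 : {f // @Cfsg.Agent.H378.F4two.ix = f} := ⟨_, by first | (delta Cfsg.Agent.H378.F4two.ix; rewrite [Cfsg.Agent.LsF.findIdx_eq, Cfsg.Agent.LsF.instIDecEq_eq, Cfsg.Agent.LsF.decide_eq]; exact rfl) | exact rfl⟩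
private noncomputable def _root_.Cfsg.Agent.LsF.f0bdece_19 : {f // @Cfsg.Agent.H378.F4two.mp = f} := ⟨_, by first | (delta Cfsg.Agent.H378.F4two.mp; rewrite [Cfsg.Agent.LsF.f0bdece_18.2, Cfsg.Agent.LsF.f0bdece_8.2, Cfsg.Agent.LsF.map_eq]; exact rfl) | exact rfl⟩
private noncomputable def _root_.Cfsg.Agent.LsF.f0bdece_20 : {f // @Cfsg.Agent.H378.F4two.fin = f} := ⟨_, by first | (delta Cfsg.Agent.H378.F4two.fin; rewrite [Cfsg.Agent.LsF.f0bdece_17.2, Cfsg.Agent.LsF.f0bdece_19.2, Cfsg.Agent.LsF.lappend_pat, Cfsg.Agent.LsF.and_eq, Cfsg.Agent.LsF.or_eq, Cfsg.Agent.LsF.instDecEq_eq, Cfsg.Agent.LsF.decLt_eq, Cfsg.Agent.LsF.all_eq, Cfsg.Agent.LsF.any_eq, Cfsg.Agent.LsF.dAnd_eq, Cfsg.Agent.LsF.dListEq_eq, Cfsg.Agent.LsF.decide_eq]; exact rfl) | exact rfl⟩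
private noncomputable def _root_.Cfsg.Agent.LsF.f0bdece_21 : {f // @Cfsg.Agent.H378.F4two.chkG = f} := ⟨_, by first | (delta Cfsg.Agent.H378.F4two.chkG; rewrite [Cfsg.Agent.LsF.f0bdece_1.2, Cfsg.Agent.LsF.f0bdece_2.2, Cfsg.Agent.LsF.f0bdece_8.2, Cfsg.Agent.LsF.f0bdece_0.2, Cfsg.Agent.LsF.f0bdece_20.2, Cfsg.Agent.LsF.and_eq, Cfsg.Agent.LsF.or_eq, Cfsg.Agent.LsF.not_eq, Cfsg.Agent.LsF.all_eq, Cfsg.Agent.LsF.range_eq, Cfsg.Agent.LsF.getD_eq, Cfsg.Agent.LsF.instIDecEq_eq, Cfsg.Agent.LsF.decide_eq]; exact rfl) | exact rfl⟩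
private noncomputable def _root_.Cfsg.Agent.LsF.f0bdece_22 : {f // @Cfsg.Agent.H378.F4two.msk = f} := ⟨_, by first | (delta Cfsg.Agent.H378.F4two.msk; rewrite [Cfsg.Agent.LsF.iadd_pat, Cfsg.Agent.LsF.toNat_eq]; exact rfl) | exact rfl⟩
private noncomputable def _root_.Cfsg.Agent.LsF.f0bdece_23 : {f // @Cfsg.Agent.H378.F4two.isF = f} := ⟨_, by first | (delta Cfsg.Agent.H378.F4two.isF; rewrite [Cfsg.Agent.LsF.f0bdece_22.2, Cfsg.Agent.LsF.testBit_eq, Cfsg.Agent.LsF.iadd_eq]; exact rfl) | exact rfl⟩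
set_option maxRecDepth 100000 in
theorem chk_all : chkAll = true := by
  have h : chkG isF = true := by ((try (rewrite [Cfsg.Agent.LsF.f0bdece_21.2, Cfsg.Agent.LsF.f0bdece_23.2])); decide +kernel)
  rw [← isR_eq] at h
  exact h

end Cfsg.Agent.H378.F4two
end

-- part: H378/Spr/F4two
section
/-!
# The involutions of `F₄(2)` (helper378)

For every involution `a` of `F₄(2)` there is an `x` such that every `a`-invariant subgroup over `x` has order divisible by
`13` and `17`.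
-/

set_option autoImplicit false

namespace Cfsg.Agent.H378.F4two

open Cfsg Cfsg.Lie Cfsg.Agent.ChevalleyStructure Cfsg.Agent.ChevalleyStructure.Columns CoxeterSystem
  Cfsg.Agent.ChevalleyStructure.Elts Cfsg.Agent.ChevalleyStructure.RootVec Cfsg.Agent.ChevalleyStructure.CoxeterGeom
  Cfsg.Agent.Tits.Roots Cfsg.Agent.Nodes.Reps Cfsg.Agent.Nodes.RGDChev Cfsg.Agent.H378.MVec Cfsg.Agent.H378.F4Dat
  Cfsg.Agent.BpExc.RowsUntw Cfsg.Agent.Nodes.BNOf

universe u

/-! ### Codes -/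

/-- the code of a vector -/
def cdv (x : Fin 4 → ℤ) : ℤ := x 0 + 32 * x 1 + 1024 * x 2 + 32768 * x 3

theorem cdv_add (x y : Fin 4 → ℤ) : cdv (x + y) = cdv x + cdv y := by
  unfold cdv
  simp only [Pi.add_apply]
  ring

theorem cdv_sub (x y : Fin 4 → ℤ) : cdv (x - y) = cdv x - cdv y := by
  unfold cdv
  simp only [Pi.sub_apply]
  ring

theorem cdv_smul (c : ℤ) (x : Fin 4 → ℤ) : cdv (c • x) = c * cdv x := by
  unfold cdv
  simp only [Pi.smul_apply, smul_eq_mul]
  ring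

theorem chk_cds : ((List.range 48).all fun r =>
    decide (cds.getD r 0 = cf r 0 + 32 * cf r 1 + 1024 * cf r 2 + 32768 * cf r 3)) = true := by decide +kernel

theorem chk_nodup : cds.Nodup := by (refine of_decide_eq_true ?_; (try (rewrite [Cfsg.Agent.LsF.instIDecEq_eq, Cfsg.Agent.LsF.dNodup_eq, Cfsg.Agent.LsF.decide_eq])); decide +kernel)

theorem chk_cds_len : cds.length = 48 := by decide +kernel

theorem chk_neg : ((List.range 48).all fun r =>
    decide ((cf r 0 ≤ 0 ∧ cf r 1 ≤ 0 ∧ cf r 2 ≤ 0 ∧ cf r 3 ≤ 0) → r < 24)) = true := by decide +kernel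

theorem cdv_vec {r : ℕ} (hr : r < 48) : cdv (vec chevF4 4 r) = cds.getD r 0 :=
  (of_decide_eq_true (List.all_eq_true.1 chk_cds r (List.mem_range.2 hr))).symm

theorem getD_mem {r : ℕ} (hr : r < 48) : cds.getD r 0 ∈ cds := by
  rw [List.getD_eq_getElem _ _ (by rw [chk_cds_len]; exact hr)]
  exact List.getElem_mem _

theorem isR_iff (z : ℤ) : isR z = true ↔ z ∈ cds := by
  unfold isR
  rw [List.any_eq_true]
  constructor
  · rintro ⟨c, hc, h⟩
    rw [← of_decide_eq_true h]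
    exact hc
  · intro h
    exact ⟨z, h, decide_eq_true rfl⟩

theorem ix_getD {r : ℕ} (hr : r < 48) : ix (cds.getD r 0) = r := by
  have hl : r < cds.length := by rw [chk_cds_len]; exact hr
  unfold ix
  rw [List.getD_eq_getElem _ _ hl]
  rw [List.findIdx_eq hl]
  refine ⟨by simp, fun j hj => ?_⟩
  have hne : cds[j]'(lt_trans hj hl) ≠ cds[r] := by
    intro h
    have := (List.Nodup.getElem_inj_iff chk_nodup).1 h
    omega
  simpa using hne

theorem chk_sum : ((List.range 48).all fun f => (List.range 48).all fun g => !(isR (cds.getD f 0 + cds.getD g 0)) ||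
    (fun s => decide (s < 48 ∧ cf s 0 = cf f 0 + cf g 0 ∧ cf s 1 = cf f 1 + cf g 1 ∧ cf s 2 = cf f 2 + cf g 2 ∧
      cf s 3 = cf f 3 + cf g 3)) (ix (cds.getD f 0 + cds.getD g 0))) = true := by
  rewrite [isR_eq]; ((try (rewrite [Cfsg.Agent.LsF.f0bdece_23.2, Cfsg.Agent.LsF.f0bdece_7.2, Cfsg.Agent.LsF.f0bdece_18.2, Cfsg.Agent.LsF.iadd_pat, Cfsg.Agent.LsF.or_eq, Cfsg.Agent.LsF.not_eq, Cfsg.Agent.LsF.decLt_eq, Cfsg.Agent.LsF.all_eq, Cfsg.Agent.LsF.range_eq, Cfsg.Agent.LsF.getD_eq, Cfsg.Agent.LsF.instIDecEq_eq, Cfsg.Agent.LsF.dAnd_eq, Cfsg.Agent.LsF.decide_eq])); decide +kernel)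

theorem chk_dif : ((List.range 4).all fun i => (List.range 4).all fun j =>
    !(isR (cds.getD (chevF4.simple i) 0 - cds.getD (chevF4.simple j) 0))) = true := by decide +kernel

theorem chk_simple : ((List.range 4).all fun i => decide (chevF4.simple i < 48)) = true := by decide +kernel

theorem vec_sum {f g : ℕ} (hf : f < 48) (hg : g < 48) (h : isR (cds.getD f 0 + cds.getD g 0) = true) :
    ∃ s < 48, vec chevF4 4 s = vec chevF4 4 f + vec chevF4 4 g := by
  have h1 := List.all_eq_true.1 (List.all_eq_true.1 chk_sum f (List.mem_range.2 hf)) g (List.mem_range.2 hg)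
  rw [h, Bool.not_true, Bool.false_or] at h1
  have h2 := of_decide_eq_true h1
  refine ⟨_, h2.1, ?_⟩
  funext j
  obtain ⟨-, a0, a1, a2, a3⟩ := h2
  fin_cases j
  · exact a0
  · exact a1
  · exact a2
  · exact a3

section weyl

variable {W : Type*} [Group W] (cs : CoxeterSystem CoxeterMatrix.F₄ W)

theorem isR_of_root {x : Fin 4 → ℤ} (hx : IsRoot cs f4T.isCartan x) : isR (cdv x) = true := by
  obtain ⟨r, hr, rfl⟩ := (isRoot_iff f4T cs x).1 hx
  rw [isR_iff, cdv_vec hr]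
  exact getD_mem hr

theorem root_of_isR {f g : ℕ} (hf : f < 48) (hg : g < 48)
    (h : isR (cdv (vec chevF4 4 f + vec chevF4 4 g)) = true) :
    IsRoot cs f4T.isCartan (vec chevF4 4 f + vec chevF4 4 g) := by
  rw [cdv_add, cdv_vec hf, cdv_vec hg] at h
  obtain ⟨s, hs, e⟩ := vec_sum hf hg h
  rw [← e]
  exact isRoot_vec f4T cs hs

variable {w : W} {f : Fin 4 → ℕ} (hf : ∀ i, f i < 48)
  (hv : ∀ i, vec chevF4 4 (f i) = rep cs f4T.isCartan w (sr i))

include hf hv

theorem cds_f (i : Fin 4) : cds.getD (f i) 0 = cdv (rep cs f4T.isCartan w (sr i)) := by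
  rw [← hv, cdv_vec (hf i)]

omit hf hv in
theorem cds_s (i : Fin 4) : cds.getD (chevF4.simple i) 0 = cdv (sr i) := by
  rw [← cdv_vec (of_decide_eq_true (List.all_eq_true.1 chk_simple i.val (List.mem_range.2 i.2)) : chevF4.simple i < 48),
    vec_simple f4T i]

theorem ok2_of (i j : Fin 4) : ok2 i j (f i) (f j) = true := by
  have hsi : chevF4.simple i < 48 := of_decide_eq_true (List.all_eq_true.1 chk_simple i.val (List.mem_range.2 i.2))
  have hsj : chevF4.simple j < 48 := of_decide_eq_true (List.all_eq_true.1 chk_simple j.val (List.mem_range.2 j.2))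
  unfold ok2
  rw [cds_f cs hf hv i, cds_f cs hf hv j, cds_s i, cds_s j, ← cdv_add, ← cdv_add, ← cdv_sub, ← map_add, ← map_sub,
    Bool.and_eq_true]
  constructor
  · have h1 : isR (cdv (rep cs f4T.isCartan w (sr i + sr j))) = true ↔ isR (cdv (sr i + sr j : Fin 4 → ℤ)) = true := by
      constructor
      · intro h
        rw [map_add, ← hv, ← hv] at h
        have h2 := root_of_isR cs (hf i) (hf j) h
        rw [hv, hv, ← map_add] at h2
        have h3 := h2.act w⁻¹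
        rw [rep_inv_apply] at h3
        exact isR_of_root cs h3
      · intro h
        rw [← vec_simple f4T i, ← vec_simple f4T j] at h
        have h2 := root_of_isR cs hsi hsj h
        rw [vec_simple f4T i, vec_simple f4T j] at h2
        exact isR_of_root cs (h2.act w)
    rw [beq_iff_eq]
    rcases hA : isR (cdv (rep cs f4T.isCartan w (sr i + sr j))) with _ | _ <;>
      rcases hB : isR (cdv (sr i + sr j : Fin 4 → ℤ)) with _ | _
    · rfl
    · rw [hA, hB] at h1; simp at h1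
    · rw [hA, hB] at h1; simp at h1
    · rfl
  · rw [Bool.not_eq_true']
    by_contra h
    rw [Bool.not_eq_false] at h
    have e0 : rep cs f4T.isCartan w (sr i - sr j) = vec chevF4 4 (f i) + vec chevF4 4 (chevF4.neg (f j)) := by
      rw [vec_neg f4T (show f j < chevF4.nroots from hf j), map_sub, hv, hv, sub_eq_add_neg]
    have hneg : chevF4.neg (f j) < 48 := Cfsg.Agent.ChevalleyStructure.RootVec.neg_lt f4T.checked (hf j)
    rw [e0] at h
    have h2 := root_of_isR cs (hf i) hneg h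
    rw [← e0] at h2
    have h3 := h2.act w⁻¹
    rw [rep_inv_apply] at h3
    have h4 := isR_of_root cs h3
    have h5 := List.all_eq_true.1 (List.all_eq_true.1 chk_dif i.val (List.mem_range.2 i.2)) j.val (List.mem_range.2 j.2)
    rw [cds_s i, cds_s j, ← cdv_sub, h4] at h5
    simp at h5

/-- the list of the images -/
theorem img_eq {r : ℕ} (hr : r < 48) :
    img [f 0, f 1, f 2, f 3] r = cdv (rep cs f4T.isCartan w (vec chevF4 4 r)) := by
  have e : vec chevF4 4 r = (vec chevF4 4 r 0) • sr 0 + (vec chevF4 4 r 1) • sr 1 + (vec chevF4 4 r 2) • sr 2 +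
      (vec chevF4 4 r 3) • sr 3 := by
    funext j
    fin_cases j <;> simp [sr]
  rw [e, map_add, map_add, map_add, map_smul, map_smul, map_smul, map_smul, cdv_add, cdv_add, cdv_add, cdv_smul,
    cdv_smul, cdv_smul, cdv_smul, ← cds_f cs hf hv 0, ← cds_f cs hf hv 1, ← cds_f cs hf hv 2, ← cds_f cs hf hv 3]
  rfl

theorem sqo_of (hw : w * w = 1) : sqo [f 0, f 1, f 2, f 3] = true := by
  unfold sqo
  rw [Bool.and_eq_true]
  constructor
  · rw [List.all_eq_true]
    intro i hi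
    have hi4 := List.mem_range.1 hi
    apply decide_eq_true
    have key : ∀ j : Fin 4, img [f 0, f 1, f 2, f 3] (f j) = cds.getD (chevF4.simple j) 0 := by
      intro j
      rw [img_eq cs hf hv (hf j), hv, ← rep_mul_apply, hw, map_one, Module.End.one_apply, cds_s]
    interval_cases i
    · exact key 0
    · exact key 1
    · exact key 2
    · exact key 3
  · rw [List.all_eq_true]
    intro r hr
    rw [img_eq cs hf hv (List.mem_range.1 hr)]
    exact isR_of_root cs ((isRoot_vec f4T cs (show r < chevF4.nroots from List.mem_range.1 hr)).act w)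

theorem cand_of (hP : ∀ i, rep cs f4T.isCartan w (sr i) = sr i ∨ rep cs f4T.isCartan w (sr i) ≤ 0) (i : Fin 4) :
    f i ∈ cand i := by
  have hsi : chevF4.simple i < 48 := of_decide_eq_true (List.all_eq_true.1 chk_simple i.val (List.mem_range.2 i.2))
  unfold cand
  rw [List.mem_cons]
  rcases hP i with h | h
  · left
    refine vec_inj f4T (hf i) hsi ?_
    rw [hv, h, vec_simple f4T i]
  · right
    rw [← hv] at h
    rw [List.mem_range]
    exact of_decide_eq_true (List.all_eq_true.1 chk_neg (f i) (List.mem_range.2 (hf i))) ⟨h 0, h 1, h 2, h 3⟩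

/-- **the finite check** -/
theorem fin_of (hw : w * w = 1)
    (hP : ∀ i, rep cs f4T.isCartan w (sr i) = sr i ∨ rep cs f4T.isCartan w (sr i) ≤ 0) :
    fin [f 0, f 1, f 2, f 3] = true := by
  have c := chk_all
  unfold chkAll at c
  have c0 := List.all_eq_true.1 c (f 0) (cand_of cs hf hv hP 0)
  have c1 := List.all_eq_true.1 c0 (f 1) (cand_of cs hf hv hP 1)
  have o01 : ok2 0 1 (f 0) (f 1) = true := ok2_of cs hf hv 0 1
  have o02 : ok2 0 2 (f 0) (f 2) = true := ok2_of cs hf hv 0 2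
  have o12 : ok2 1 2 (f 1) (f 2) = true := ok2_of cs hf hv 1 2
  have o03 : ok2 0 3 (f 0) (f 3) = true := ok2_of cs hf hv 0 3
  have o13 : ok2 1 3 (f 1) (f 3) = true := ok2_of cs hf hv 1 3
  have o23 : ok2 2 3 (f 2) (f 3) = true := ok2_of cs hf hv 2 3
  rw [o01, Bool.not_true, Bool.false_or] at c1
  have c2 := List.all_eq_true.1 c1 (f 2) (cand_of cs hf hv hP 2)
  rw [o02, o12, Bool.and_true, Bool.not_true, Bool.false_or] at c2
  have c3 := List.all_eq_true.1 c2 (f 3) (cand_of cs hf hv hP 3)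
  rw [o03, o13, o23, Bool.and_true, Bool.and_true, Bool.not_true, Bool.false_or, sqo_of cs hf hv hw, Bool.not_true,
    Bool.false_or] at c3
  exact c3

end weyl

/-! ### Groups -/

section groups

variable {K : Type u} [Field K]

theorem hG_one {D : ChevalleyDatum} (hD : InList D) (r : ℕ) : hG hD r (1 : K) = 1 := by
  have e1 : xG hD r (1 : K) * xG hD r (-1) = 1 := by
    rw [xG_add, add_neg_cancel, xG_zero]
  have e2 : xG hD (D.neg r) (-(1 : K)⁻¹) * xG hD (D.neg r) (-(-1 : K)⁻¹) = 1 := by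
    rw [xG_add, inv_neg, inv_one, _root_.neg_neg, neg_add_cancel, xG_zero]
  rw [hG_def, nG_def, nG_def]
  calc _ = xG hD r (1 : K) * xG hD (D.neg r) (-(1 : K)⁻¹) * (xG hD r 1 * xG hD r (-1)) *
        xG hD (D.neg r) (-(-1 : K)⁻¹) * xG hD r (-1) := by group
    _ = xG hD r (1 : K) * (xG hD (D.neg r) (-(1 : K)⁻¹) * xG hD (D.neg r) (-(-1 : K)⁻¹)) * xG hD r (-1) := by
      rw [e1]; group
    _ = 1 := by rw [e2, mul_one, e1]

variable [Fintype K] (hK : Fintype.card K = 2)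

include hK

theorem eq_one_of_ne_zero {t : K} (ht : t ≠ 0) : t = 1 := by
  classical
  have h1 : ({0, 1, t} : Finset K).card ≤ 2 := by
    rw [← hK]
    exact Finset.card_le_univ _
  by_contra h
  rw [Finset.card_insert_of_notMem (by simp [ht.symm]), Finset.card_insert_of_notMem (by simpa using Ne.symm h),
    Finset.card_singleton] at h1
  omega

theorem diag_bot {D : ChevalleyDatum} (hD : InList D) : D.diagonalSubgroup K = ⊥ := by
  rw [eq_bot_iff]
  unfold ChevalleyDatum.diagonalSubgroup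
  rw [Subgroup.closure_le]
  rintro g ⟨r, t, -, ht, e⟩
  rw [eq_one_of_ne_zero hK ht, ← eq_hG_iff hD, hG_one hD] at e
  exact e

theorem char_two : CharP K 2 := charP_of_card_eq_prime hK

variable {W : Type*} [Group W] (cs : CoxeterSystem CoxeterMatrix.F₄ W)

omit [Fintype K] hK in
theorem GG_top [Finite K] [CharP K 2] : Cfsg.Agent.Nodes.Bruhat.GG cs f4T.isCartan
    ((chevF4.diagonalSubgroup K).subgroupOf (chevF4.group K)) (fun x => (XV chevF4 4 K x).subgroupOf (chevF4.group K)) = ⊤ := by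
  rw [eq_top_iff, ← G1_eq_top f4T cs (K := K)]
  exact le_sup_right

/-- conjugation of root elements -/
theorem conj_xG {w : W} {m : ↥(chevF4.group K)}
    (hm : InvN.Gp cs f4T.isCartan ((chevF4.diagonalSubgroup K).subgroupOf (chevF4.group K))
      (fun x => (XV chevF4 4 K x).subgroupOf (chevF4.group K)) w m) {r s : ℕ} (hr : r < 48) (hs : s < 48)
    (e : vec chevF4 4 s = rep cs f4T.isCartan w (vec chevF4 4 r)) :
    (m : GL chevF4.Idx K) * xG f4T.inList r 1 * (m : GL chevF4.Idx K)⁻¹ = xG f4T.inList s 1 := by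
  have h1 := hm.2 _ (isRoot_vec f4T cs (show r < chevF4.nroots from hr))
  have hx : (⟨xG f4T.inList r 1, xG_mem_group f4T.inList r 1⟩ : ↥(chevF4.group K)) ∈
      (XV chevF4 4 K (vec chevF4 4 r)).subgroupOf (chevF4.group K) := by
    rw [Subgroup.mem_subgroupOf, XV_vec f4T K (show r < chevF4.nroots from hr)]
    exact xG_mem_rootSubgroup f4T.inList r 1
  have h2 := (conj_mem_cj (g := m)).2 hx
  rw [h1, ← e, Subgroup.mem_subgroupOf, XV_vec f4T K (show s < chevF4.nroots from hs),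
    mem_rootSubgroup_iff f4T.inList] at h2
  obtain ⟨t, ht⟩ := h2
  have ht' : (m : GL chevF4.Idx K) * xG f4T.inList r 1 * (m : GL chevF4.Idx K)⁻¹ = xG f4T.inList s t := ht
  have ht0 : t ≠ 0 := by
    rintro rfl
    rw [xG_zero, mul_inv_eq_one, mul_eq_left, xG_eq_one_iff f4T.inList (show r < chevF4.nroots from hr)] at ht'
    exact one_ne_zero ht'
  rw [ht', eq_one_of_ne_zero hK ht0]

theorem conj_sg {w : W} {m : ↥(chevF4.group K)}
    (hm : InvN.Gp cs f4T.isCartan ((chevF4.diagonalSubgroup K).subgroupOf (chevF4.group K))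
      (fun x => (XV chevF4 4 K x).subgroupOf (chevF4.group K)) w m) {f : Fin 4 → ℕ} (hf : ∀ i, f i < 48)
    (hv : ∀ i, vec chevF4 4 (f i) = rep cs f4T.isCartan w (sr i)) :
    ∀ wd : List (ℕ × ℕ), (∀ e ∈ wd, e.1 < 48 ∧ e.2 = 1) →
      (m : GL chevF4.Idx K) * sg f4T.inList 0 wd * (m : GL chevF4.Idx K)⁻¹ =
        sg f4T.inList 0 (mp [f 0, f 1, f 2, f 3] wd)
  | [], _ => by
    rw [sg_nil, mul_one, mul_inv_cancel]
    rfl
  | e :: l, h => by
    have h1 := h e List.mem_cons_self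
    have ih := conj_sg hm hf hv l fun e he => h e (List.mem_cons_of_mem _ he)
    show _ = sg f4T.inList 0 ((ix (img [f 0, f 1, f 2, f 3] e.1), 1) :: mp [f 0, f 1, f 2, f 3] l)
    rw [sg_cons, sg_cons, ← ih, h1.2]
    show _ = _ * xG f4T.inList (ix (img [f 0, f 1, f 2, f 3] e.1)) (tv 0 1)
    obtain ⟨s, hs, es⟩ := (isRoot_iff f4T cs _).1
      ((isRoot_vec f4T cs (show e.1 < chevF4.nroots from h1.1)).act w)
    have h3 : ix (img [f 0, f 1, f 2, f 3] e.1) = s := by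
      rw [img_eq cs hf hv h1.1, ← es, cdv_vec hs, ix_getD hs]
    have h4 := conj_xG hK cs hm h1.1 hs es
    rw [h3]
    show _ = _ * xG f4T.inList s 1
    rw [← h4]
    show (m : GL chevF4.Idx K) * (sg f4T.inList 0 l * xG f4T.inList e.1 1) * (m : GL chevF4.Idx K)⁻¹ = _
    group

omit [Field K] [Fintype K] hK in
theorem mp_ok {f : Fin 4 → ℕ} {w : W} (hf : ∀ i, f i < 48)
    (hv : ∀ i, vec chevF4 4 (f i) = rep cs f4T.isCartan w (sr i)) (wd : List (ℕ × ℕ))
    (h : ∀ e ∈ wd, e.1 < 48 ∧ e.2 = 1) : ∀ e ∈ mp [f 0, f 1, f 2, f 3] wd, e.1 < 48 ∧ e.2 = 1 := by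
  intro e he
  obtain ⟨e', he', rfl⟩ := List.mem_map.1 he
  have h1 := h e' he'
  obtain ⟨s, hs, es⟩ := (isRoot_iff f4T cs _).1
    ((isRoot_vec f4T cs (show e'.1 < chevF4.nroots from h1.1)).act w)
  have h3 : ix (img [f 0, f 1, f 2, f 3] e'.1) = s := by
    rw [img_eq cs hf hv h1.1, ← es, cdv_vec hs, ix_getD hs]
  refine ⟨?_, rfl⟩
  show ix (img [f 0, f 1, f 2, f 3] e'.1) < 48
  rw [h3]
  exact hs

/-- **The involutions of `F₄(2)`.** -/
theorem inv_F4 (a : ↥(chevF4.group K)) (haa : a * a = 1) (ha1 : a ≠ 1) :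
    ∃ x : ↥(chevF4.group K), ∀ H : Subgroup ↥(chevF4.group K), x ∈ H → (∀ h ∈ H, a * h * a⁻¹ ∈ H) →
      13 ∣ Nat.card H ∧ 17 ∣ Nat.card H := by
  have : CharP K 2 := char_two hK
  have : Fact (Nat.Prime 2) := ⟨Nat.prime_two⟩
  let cs : CoxeterSystem CoxeterMatrix.F₄ CoxeterMatrix.F₄.Group := CoxeterMatrix.F₄.toCoxeterSystem
  have := finite_W f4T cs
  have R := rgd (K := K) f4T cs 2
  have hGG := GG_top (K := K) cs
  have hd : InvN.Gp cs f4T.isCartan ((chevF4.diagonalSubgroup K).subgroupOf (chevF4.group K))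
      (fun x => (XV chevF4 4 K x).subgroupOf (chevF4.group K)) 1 (1 : ↥(chevF4.group K)) := by
    refine ⟨cj_one _, fun x _ => ?_⟩
    rw [cj_one, map_one, Module.End.one_apply]
  obtain ⟨g, -, w, m, hm, hgm, -, hww, hP⟩ := InvN.exists_conj R hd
    (show a * 1⁻¹ ∈ _ by rw [hGG]; exact Subgroup.mem_top _) haa
  have hex : ∀ i : Fin 4, ∃ r : ℕ, r < 48 ∧ vec chevF4 4 r = rep cs f4T.isCartan w (sr i) := fun i => by
    obtain ⟨r, hr, e⟩ := (isRoot_iff f4T cs _).1 ((isRoot_sr cs f4T.isCartan i).act w)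
    exact ⟨r, hr, e⟩
  choose f hf hv using hex
  have hfin := fin_of cs hf hv hww hP
  unfold fin at hfin
  rw [Bool.or_eq_true] at hfin
  rcases hfin with h | h
  · exfalso
    have hF := of_decide_eq_true h
    have hfs : ∀ i : Fin 4, f i = chevF4.simple i := by
      simp only [List.cons.injEq, and_true] at hF
      obtain ⟨a0, a1, a2, a3⟩ := hF
      intro i
      fin_cases i
      · exact a0
      · exact a1
      · exact a2
      · exact a3
    have hw1 : w = 1 := by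
      refine eq_one_of_fix cs f4T.isCartan _ fun i => ?_
      show rep cs f4T.isCartan w (sr i) = sr i
      rw [← hv, hfs, vec_simple f4T i]
    subst hw1
    have hmT := hm.mem_T R (by rw [hGG]; exact Subgroup.mem_top _)
    rw [diag_bot hK f4T.inList, Subgroup.bot_subgroupOf, Subgroup.mem_bot] at hmT
    apply ha1
    have : a = g⁻¹ * m * g := by rw [← hgm]; group
    rw [this, hmT]
    group
  · obtain ⟨d, hd, h2⟩ := List.any_eq_true.1 h
    rw [Bool.and_eq_true, Bool.and_eq_true, Bool.and_eq_true] at h2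
    obtain ⟨-, c17, c13, cw⟩ := h2
    have hwd : ∀ e ∈ d.2.1, e.1 < 48 ∧ e.2 = 1 := fun e he => of_decide_eq_true (List.all_eq_true.1 cw e he)
    have hwd' := mp_ok cs hf hv d.2.1 hwd
    have hOk : ∀ l : List (ℕ × ℕ), (∀ e ∈ l, e.1 < 48 ∧ e.2 = 1) →
        ∀ e ∈ l, e.1 < chevF4.nroots ∧ Ok (0 : K) e.2 := fun l hl e he => ⟨(hl e he).1, Or.inl (hl e he).2⟩
    have hT := tabOk f4T.inList
    have p17 : (17 : ℕ).Prime := by norm_num
    have p13 : (13 : ℕ).Prime := by norm_num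
    have d17 := chk_dvd (K := K) hT (hOk _ hwd) p17 (show 52 = dm chevF4 from rfl) c17
    have d13 := chk_dvd (K := K) hT (hOk _ (fun e he => (List.mem_append.1 he).elim (hwd' e) (hwd e))) p13
      (show 52 = dm chevF4 from rfl) c13
    rw [sg_append, ← conj_sg hK cs hm hf hv d.2.1 hwd] at d13
    let x : ↥(chevF4.group K) := ⟨sg f4T.inList 0 d.2.1, sg_mem f4T.inList 0 d.2.1⟩
    have hx17 : 17 ∣ orderOf x := by
      rw [← Subgroup.orderOf_coe x]
      exact d17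
    have hx13 : 13 ∣ orderOf (x * (m * x * m⁻¹)) := by
      rw [← Subgroup.orderOf_coe (x * (m * x * m⁻¹))]
      exact d13
    have hord : ∀ y : ↥(chevF4.group K), orderOf (g⁻¹ * y * g) = orderOf y := fun y => by
      have := MulEquiv.orderOf_eq (MulAut.conj g⁻¹) y
      rwa [MulAut.conj_apply, inv_inv] at this
    refine ⟨g⁻¹ * x * g, fun H hxH hinv => ⟨?_, ?_⟩⟩
    · have h1 := mul_mem hxH (hinv _ hxH)
      have e1 : g⁻¹ * x * g * (a * (g⁻¹ * x * g) * a⁻¹) = g⁻¹ * (x * (m * x * m⁻¹)) * g := by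
        rw [← hgm]
        group
      rw [e1] at h1
      have h2 := Subgroup.orderOf_dvd_natCard H h1
      rw [hord] at h2
      exact hx13.trans h2
    · have h2 := Subgroup.orderOf_dvd_natCard H hxH
      rw [hord] at h2
      exact hx17.trans h2

end groups

end Cfsg.Agent.H378.F4two
end

private theorem dce_521830346e62 : _root_.True := by
  try have : _root_.True := by simp only [_root_.Cfsg.Agent.H378.MVec.sg.congr_simp]
  exact _root_.True.intro
end

-- part: H884/Oc/Reps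
section
prune_inst 0x4151005004522020000000500c00000202200000000000800d0200004088ebc0200020020f01008000000a08c4030004811440030420000000a000400011d00a0808142043240a10426000f800000000000000000000000000000000000041000000000000
set_option linter.all false
open scoped Cfsg.Agent.FastGrp

-- part: H884/Oc/Code
section
/-!
# S3938, `Ω⁺₈(2)`: vectors and isometries as natural numbers (helper884)
-/

set_option autoImplicit false
set_option maxRecDepth 100000
set_option linter.unusedSectionVars false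
set_option linter.style.haveILetI false

namespace Cfsg.Agent.H884.Oc

open Subgroup Cfsg Cfsg.Agent Cfsg.Agent.H503 Cfsg.Agent.H503.El.O8

/-- vectors -/
abbrev V8 : Type := I8 → ZMod 2

/-- the isometry group -/
abbrev G8 : Type := isometryGroup (ZMod 2) Q8

/-- numbering of the coordinates -/
def ix : I8 → ℕ := Sum.elim (fun i => (i : ℕ)) (fun i => 4 + (i : ℕ))

/-- decoding -/
def dec (k : ℕ) : V8 := fun i => if k.testBit (ix i) then 1 else 0

theorem dec_xor (a b : ℕ) : dec (a ^^^ b) = dec a + dec b := by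
  funext i
  simp only [dec, Pi.add_apply, Nat.testBit_xor]
  cases a.testBit (ix i) <;> cases b.testBit (ix i) <;> decide

theorem dec_zero : dec 0 = 0 := by
  funext i
  simp [dec]

/-- selection -/
def sel (k i x : ℕ) : ℕ := Nat.mul (Nat.mod (Nat.shiftRight k i) 2) x

theorem p4sel (k i x : ℕ) : sel k i x = if k.testBit i then x else 0 := by
  show k >>> i % 2 * x = _
  rw [Nat.testBit_eq_decide_div_mod_eq, Nat.shiftRight_eq_div_pow]
  rcases Nat.mod_two_eq_zero_or_one (k / 2 ^ i) with e | e <;> rw [e] <;> simp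

theorem dec_sel (k i x : ℕ) : dec (sel k i x) = (if k.testBit i then (1 : ZMod 2) else 0) • dec x := by
  rw [p4sel]
  split_ifs
  · rw [one_smul]
  · rw [zero_smul, dec_zero]

/-- application of a code -/
def app (c : List ℕ) (k : ℕ) : ℕ :=
  sel k 0 (c.getD 0 0) ^^^ (sel k 1 (c.getD 1 0) ^^^ (sel k 2 (c.getD 2 0) ^^^ (sel k 3 (c.getD 3 0) ^^^
    (sel k 4 (c.getD 4 0) ^^^ (sel k 5 (c.getD 5 0) ^^^ (sel k 6 (c.getD 6 0) ^^^ sel k 7 (c.getD 7 0)))))))

/-- `f` has the code `c` -/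
def Rep (f : V8 →ₗ[ZMod 2] V8) (c : List ℕ) : Prop :=
  c.length = 8 ∧ ∀ i : I8, f (Pi.single i 1) = dec (c.getD (ix i) 0)

theorem Rep.app {f : V8 →ₗ[ZMod 2] V8} {c : List ℕ} (h : Rep f c) (k : ℕ) : f (dec k) = dec (app c k) := by
  have h1 : dec k = ∑ i : I8, dec k i • (Pi.single i (1 : ZMod 2) : V8) := by
    funext j
    simp [Finset.sum_apply, Pi.single_apply]
  rw [h1, map_sum]
  simp only [map_smul, h.2]
  rw [Fintype.sum_sum_type, Fin.sum_univ_four, Fin.sum_univ_four]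
  unfold Oc.app
  simp only [dec_xor, dec_sel]
  simp only [dec, ix, Sum.elim_inl, Sum.elim_inr, Fin.isValue, Fin.val_zero, Fin.val_one, Fin.val_two,
    show ((3 : Fin 4) : ℕ) = 3 from rfl, Nat.add_zero, Nat.reduceAdd, add_assoc]
  rfl

/-- multiplication of codes -/
def mulN (c d : List ℕ) : List ℕ := d.map (Oc.app c)

theorem ix_lt (i : I8) : ix i < 8 := by
  rcases i with i | i
  · have := i.2
    show (i : ℕ) < 8
    omega
  · have := i.2
    show 4 + (i : ℕ) < 8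
    omega

theorem Rep.mul {f g : V8 →ₗ[ZMod 2] V8} {c d : List ℕ} (hf : Rep f c) (hg : Rep g d) :
    Rep (f ∘ₗ g) (mulN c d) := by
  refine ⟨by rw [mulN, List.length_map, hg.1], fun i => ?_⟩
  rw [LinearMap.comp_apply, hg.2, hf.app, mulN]
  congr 1
  rw [List.getD_eq_getElem _ _ (by rw [hg.1]; exact ix_lt i),
    List.getD_eq_getElem _ _ (by rw [List.length_map, hg.1]; exact ix_lt i), List.getElem_map]

/-- the code of the identity -/
def oneN : List ℕ := [1, 2, 4, 8, 16, 32, 64, 128]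

theorem single_eq (i : I8) : (Pi.single i 1 : V8) = dec (2 ^ ix i) := by
  revert i
  decide +kernel

theorem oneN_getD (i : I8) : oneN.getD (ix i) 0 = 2 ^ ix i := by
  revert i
  decide

theorem rep_one : Rep LinearMap.id oneN := by
  refine ⟨rfl, fun i => ?_⟩
  rw [LinearMap.id_apply, oneN_getD, single_eq]

theorem Rep.eq {f g : V8 →ₗ[ZMod 2] V8} {c : List ℕ} (hf : Rep f c) (hg : Rep g c) : f = g := by
  apply LinearMap.pi_ext'
  intro i
  apply LinearMap.ext_ring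
  rw [LinearMap.comp_apply, LinearMap.comp_apply]
  exact (hf.2 i).trans (hg.2 i).symm

/-- encoding -/
def enc (v : V8) : ℕ := ∑ i : I8, if v i = 1 then 2 ^ ix i else 0

theorem dec_enc (v : V8) : dec (enc v) = v := by
  revert v
  decide +kernel

theorem enc_lt (v : V8) : enc v < 256 := by
  revert v
  decide +kernel

/-- the quadratic form on codes -/
def qN (k : ℕ) : Bool :=
  xor (k.testBit 0 && k.testBit 4) (xor (k.testBit 1 && k.testBit 5)
    (xor (k.testBit 2 && k.testBit 6) (k.testBit 3 && k.testBit 7)))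

theorem bool_aux : ∀ a b c d e f g h : Bool,
    ((if a = true then (1 : ZMod 2) else 0) * (if e = true then 1 else 0) +
      (if b = true then 1 else 0) * (if f = true then 1 else 0) +
      (if c = true then 1 else 0) * (if g = true then 1 else 0) +
      (if d = true then 1 else 0) * (if h = true then 1 else 0)) =
    if (xor (a && e) (xor (b && f) (xor (c && g) (d && h)))) = true then 1 else 0 := by decide +kernel

theorem q_dec (k : ℕ) : Q8 (dec k) = if qN k = true then 1 else 0 := by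
  unfold Q8 quadFormPlus
  rw [Fin.sum_univ_four]
  exact bool_aux (k.testBit 0) (k.testBit 1) (k.testBit 2) (k.testBit 3) (k.testBit 4) (k.testBit 5) (k.testBit 6)
    (k.testBit 7)

end Cfsg.Agent.H884.Oc
end

-- part: H884/Oc/Cert
section
/-!
# S3938, `Ω⁺₈(2)`: certificates for generation (helper884)
-/

set_option autoImplicit false
set_option maxRecDepth 100000
set_option linter.unusedSectionVars false
set_option linter.style.haveILetI false

namespace Cfsg.Agent.H884.Oc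

open Subgroup Cfsg Cfsg.Agent Cfsg.Agent.H503 Cfsg.Agent.H503.El.O8

/-- the linear map of an isometry -/
noncomputable def L (g : G8) : V8 →ₗ[ZMod 2] V8 := Matrix.toLin' ((g : GL I8 (ZMod 2)) : Matrix I8 I8 (ZMod 2))

theorem L_apply (g : G8) (v : V8) : L g v = ((g : GL I8 (ZMod 2)) : Matrix I8 I8 (ZMod 2)).mulVec v :=
  Matrix.toLin'_apply _ _

theorem L_mul (g h : G8) : L (g * h) = L g ∘ₗ L h := by
  unfold L
  rw [Subgroup.coe_mul, Units.val_mul, Matrix.toLin'_mul]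

theorem L_one : L 1 = LinearMap.id := by
  unfold L
  rw [Subgroup.coe_one, Units.val_one, Matrix.toLin'_one]

theorem L_injective : Function.Injective L := by
  intro a b h
  exact Subtype.ext (Units.ext (Matrix.toLin'.injective h))

theorem L_iso (g : G8) (v : V8) : Q8 (L g v) = Q8 v := by
  rw [L_apply]
  exact ClassicalGeometry.IsoTransfer.mem_isometryGroup_iff.1 g.2 v

theorem exists_f {c : List ℕ} (hc : c.length = 8) : ∃ f : V8 →ₗ[ZMod 2] V8, Rep f c := by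
  refine ⟨Matrix.toLin' (Matrix.of fun j i => dec (c.getD (ix i) 0) j), hc, fun i => ?_⟩
  rw [Matrix.toLin'_apply]
  funext j
  rw [Matrix.mulVec_single_one]
  rfl

/-- the quadratic form by a table -/
def p4q (k : ℕ) : ℕ := Nat.mod (Nat.shiftRight 27030 (Nat.mod (Nat.land k (Nat.shiftRight k 4)) 16)) 2

theorem p4q_spec (k : ℕ) : qN k = Nat.beq (p4q k) 1 := by
  have h : ∀ n < 16, xor (n.testBit 0) (xor (n.testBit 1) (xor (n.testBit 2) (n.testBit 3))) =
      Nat.beq (Nat.mod (Nat.shiftRight 27030 n) 2) 1 := by decide +kernel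
  refine Eq.trans ?_ (h ((k &&& k >>> 4) % 2 ^ 4) (Nat.mod_lt _ (by norm_num)))
  simp only [qN, Nat.testBit_mod_two_pow, Nat.testBit_and, Nat.testBit_shiftRight, Nat.reduceAdd, Nat.reduceLT,
    Nat.ofNat_pos, Nat.one_lt_ofNat, decide_true, Bool.true_and]

/-- the code of an isometry -/
def checkIso (c : List ℕ) : Bool := c.length == 8 && (List.range 256).all fun k => Nat.beq (p4q (app c k)) (p4q k)

theorem exists_g {c : List ℕ} (h : checkIso c = true) : ∃ g : G8, Rep (L g) c := by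
  unfold checkIso at h
  rw [Bool.and_eq_true, beq_iff_eq, List.all_eq_true] at h
  obtain ⟨f, hf⟩ := exists_f h.1
  have hQ : ∀ v, Q8 (f v) = Q8 v := by
    intro v
    have h1 := h.2 (enc v) (List.mem_range.2 (enc_lt v))
    rw [← dec_enc v, hf.app, q_dec, q_dec, p4q_spec, p4q_spec, Nat.eq_of_beq_eq_true h1]
  have hinj : Function.Injective f := by
    rw [← LinearMap.ker_eq_bot, LinearMap.ker_eq_bot']
    intro v hv
    by_contra hv0
    have h1 : ∀ w, QuadraticMap.polarBilin (LieClassical.OmegaReindex.quadPlus 4 (ZMod 2)) v w = 0 := by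
      intro w
      have h2 : Q8 (v + w) = Q8 w := by rw [← hQ (v + w), map_add, hv, zero_add, hQ]
      have h3 : Q8 v = 0 := by
        rw [← hQ v, hv]
        decide
      show Q8 (v + w) - Q8 v - Q8 w = 0
      rw [h2, h3]
      ring
    exact hv0 (hnd8.1 v h1)
  let e : V8 ≃ₗ[ZMod 2] V8 := LinearEquiv.ofInjectiveEndo f hinj
  have he : ∀ v, e v = f v := fun v => LinearEquiv.coe_ofInjectiveEndo f hinj ▸ rfl
  have hmem : e ∈ H957.isoQ (LieClassical.OmegaReindex.quadPlus 4 (ZMod 2)) := by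
    intro v
    rw [he]
    exact hQ v
  refine ⟨⟨H957.glOf e, (H957.glOf_mem hmem :)⟩, hf.1, fun i => ?_⟩
  rw [L_apply]
  show (H957.glOf e : Matrix I8 I8 (ZMod 2)).mulVec (Pi.single i 1) = _
  rw [H957.glOf_mulVec, he]
  exact hf.2 i

/-- powers of codes -/
def powN (c : List ℕ) : ℕ → List ℕ
  | 0 => oneN
  | n + 1 => mulN c (powN c n)

theorem Rep.pow {g : G8} {c : List ℕ} (h : Rep (L g) c) (n : ℕ) : Rep (L (g ^ n)) (powN c n) := by
  induction n with
  | zero => rw [pow_zero, L_one]; exact rep_one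
  | succ n ih => rw [pow_succ', L_mul]; exact h.mul ih

theorem Rep.mulG {g h : G8} {c d : List ℕ} (hg : Rep (L g) c) (hh : Rep (L h) d) : Rep (L (g * h)) (mulN c d) := by
  rw [L_mul]
  exact hg.mul hh

theorem Rep.inj {g h : G8} {c : List ℕ} (hg : Rep (L g) c) (hh : Rep (L h) c) : g = h :=
  L_injective (hg.eq hh)

theorem Rep.one_iff {g : G8} {c : List ℕ} (hg : Rep (L g) c) (hc : c = oneN) : g = 1 := by
  subst hc
  exact hg.inj (L_one ▸ rep_one)

theorem dec_inj {a b : ℕ} (ha : a < 256) (hb : b < 256) (h : dec a = dec b) : a = b := by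
  have key : ∀ i : I8, a.testBit (ix i) = b.testBit (ix i) := by
    intro i
    have h1 := congrFun h i
    unfold dec at h1
    cases h2 : a.testBit (ix i) <;> cases h3 : b.testBit (ix i) <;> simp only [h2, h3, _root_.Bool.false_eq_true, ↓ _root_.reduceIte, _root_.zero_ne_one, _root_.one_ne_zero] at h1 ⊢
  apply Nat.eq_of_testBit_eq
  intro i
  by_cases hi : i < 8
  · by_cases hi4 : i < 4
    · exact key (.inl ⟨i, hi4⟩)
    · have := key (.inr ⟨i - 4, by omega⟩)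
      have h4 : ix (.inr ⟨i - 4, by omega⟩) = i := by
        show 4 + (i - 4) = i
        omega
      rwa [h4] at this
  · have h1 : 2 ^ 8 ≤ 2 ^ i := Nat.pow_le_pow_right (by norm_num) (by omega)
    rw [Nat.testBit_lt_two_pow (by omega), Nat.testBit_lt_two_pow (by omega)]

/-- the code consists of small numbers -/
def small (c : List ℕ) : Bool := c.all fun k => k < 256

theorem Rep.ne_one {g : G8} {c : List ℕ} (hg : Rep (L g) c) (hs : small c = true) (hc : c ≠ oneN) : g ≠ 1 := by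
  rintro rfl
  apply hc
  rw [L_one] at hg
  unfold small at hs
  rw [List.all_eq_true] at hs
  have h1 : ∀ i : I8, c.getD (ix i) 0 = oneN.getD (ix i) 0 := by
    intro i
    have h2 := (hg.2 i).symm.trans (rep_one.2 i)
    refine dec_inj ?_ ?_ h2
    · rw [List.getD_eq_getElem _ _ (by rw [hg.1]; exact ix_lt i)]
      simpa using hs _ (List.getElem_mem _)
    · rw [oneN_getD]
      have := ix_lt i
      calc 2 ^ ix i < 2 ^ 8 := Nat.pow_lt_pow_right (by norm_num) this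
        _ = 256 := by norm_num
  apply List.ext_getElem (by rw [hg.1]; rfl)
  intro n hn1 hn2
  rw [hg.1] at hn1
  obtain ⟨i, rfl⟩ : ∃ i : I8, ix i = n := by
    by_cases h4 : n < 4
    · exact ⟨.inl ⟨n, h4⟩, rfl⟩
    · refine ⟨.inr ⟨n - 4, by omega⟩, ?_⟩
      show 4 + (n - 4) = n
      omega
  have := h1 i
  rwa [List.getD_eq_getElem _ _ (by rw [hg.1]; exact ix_lt i),
    List.getD_eq_getElem _ _ (by exact ix_lt i)] at this

/-- words -/
def ev {M : Type*} [Monoid M] (x y : M) : List Bool → M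
  | [] => 1
  | b :: w => (bif b then y else x) * ev x y w

/-- words on codes -/
def evN (x y : List ℕ) : List Bool → List ℕ
  | [] => oneN
  | b :: w => mulN (bif b then y else x) (evN x y w)

theorem rep_ev {x y : G8} {cx cy : List ℕ} (hx : Rep (L x) cx) (hy : Rep (L y) cy) (w : List Bool) :
    Rep (L (ev x y w)) (evN cx cy w) := by
  induction w with
  | nil => rw [ev, L_one]; exact rep_one
  | cons b w ih =>
    cases b
    · exact hx.mulG ih
    · exact hy.mulG ih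

theorem ev_mem {G : Type*} [Group G] {K : Subgroup G} {x y : G} (hx : x ∈ K) (hy : y ∈ K) (w : List Bool) :
    ev x y w ∈ K := by
  induction w with
  | nil => exact one_mem _
  | cons b w ih =>
    cases b
    · exact mul_mem hx ih
    · exact mul_mem hy ih

theorem coe_ev (x y : S8) (w : List Bool) : ((ev x y w : S8) : G8) = ev (x : G8) (y : G8) w := by
  induction w with
  | nil => rfl
  | cons b w ih =>
    cases b
    · show ((x * ev x y w : S8) : G8) = _
      rw [Subgroup.coe_mul, ih]; rfl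
    · show ((y * ev x y w : S8) : G8) = _
      rw [Subgroup.coe_mul, ih]; rfl

/-- odd order: in `Ω` -/
theorem mem_omega_of_odd {g : G8} {m : ℕ} (hm : m % 2 = 1) (h : g ^ m = 1) : g ∈ Omega (ZMod 2) Q8 := by
  have h1 : g ^ 2 ∈ Omega (ZMod 2) Q8 := by
    have h2 : (Omega (ZMod 2) Q8).Normal := inferInstanceAs (commutator _).Normal
    have := Subgroup.pow_index_mem (Omega (ZMod 2) Q8) g
    rwa [index_s8] at this
  have h2 : g = g ^ (m + 1) := by rw [pow_succ, h, one_mul]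
  rw [h2]
  obtain ⟨k, hk⟩ : ∃ k, m + 1 = 2 * k := ⟨(m + 1) / 2, by omega⟩
  rw [hk, pow_mul]
  exact pow_mem h1 k

/-- two different classes of elements of order `5` -/
theorem dvd25 {K : Subgroup S8} {A B : S8} (hA : A ∈ K) (hB : B ∈ K) (hAo : orderOf A = 5) (hBo : orderOf B = 5)
    {v : V8} (hv : v ≠ 0) (hAv : L A v = v) (hBv : ∀ w, L B w = w → w = 0) : 25 ∣ Nat.card K := by
  haveI : Fact (Nat.Prime 5) := ⟨Nat.prime_five⟩
  haveI : Finite S8 := Finite.of_equiv T8 e8.symm.toEquiv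
  by_contra h25
  have h5 : 5 ∣ Nat.card K := by
    rw [← hAo]
    exact Subgroup.orderOf_dvd_natCard K hA
  have key : ∀ (x : K), orderOf x = 5 → ∃ P : Sylow 5 K, (P : Subgroup K) = zpowers x := by
    intro x hx
    have h1 : IsPGroup 5 (zpowers x) := IsPGroup.of_card (n := 1) (by rw [Nat.card_zpowers, hx, pow_one])
    obtain ⟨P, hP⟩ := h1.exists_le_sylow
    refine ⟨P, ?_⟩
    symm
    refine Subgroup.eq_of_le_of_card_ge hP ?_
    simp only [Nat.card_zpowers, hx]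
    obtain ⟨k, hk⟩ := IsPGroup.iff_card.1 P.isPGroup'
    rw [hk]
    have hk1 : k ≤ 1 := by
      by_contra hk2
      exact h25 ((pow_dvd_pow 5 (by omega : 2 ≤ k)).trans (hk ▸ Subgroup.card_subgroup_dvd_card (P : Subgroup K)))
    calc 5 ^ k ≤ 5 ^ 1 := Nat.pow_le_pow_right (by norm_num) hk1
      _ = 5 := pow_one 5
  obtain ⟨P, hP⟩ := key ⟨A, hA⟩ (by rw [Subgroup.orderOf_mk, hAo])
  obtain ⟨R, hR⟩ := key ⟨B, hB⟩ (by rw [Subgroup.orderOf_mk, hBo])
  obtain ⟨g, hg⟩ := MulAction.exists_smul_eq K P R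
  have h1 : (⟨B, hB⟩ : K) ∈ (g • P : Sylow 5 K) := by
    rw [hg]
    show (⟨B, hB⟩ : K) ∈ (R : Subgroup K)
    rw [hR]
    exact mem_zpowers _
  obtain ⟨z, hz, hzB⟩ := h1
  have hz' : z ∈ zpowers (⟨A, hA⟩ : K) := by rw [← hP]; exact hz
  obtain ⟨k, hk⟩ := mem_zpowers_iff.1 hz'
  have h2 : (B : S8) = (g : S8) * A ^ k * (g : S8)⁻¹ := by
    have h3 : g * z * g⁻¹ = ⟨B, hB⟩ := hzB
    rw [← hk] at h3
    have := congrArg (fun u : K => (u : S8)) h3
    exact this.symm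
  -- `A ^ k` fixes `v`
  have hfix : ∀ k : ℕ, L ((A ^ k : S8) : G8) v = v := by
    intro k
    induction k with
    | zero => rw [pow_zero]; show L 1 v = v; rw [L_one]; rfl
    | succ k ih =>
      rw [pow_succ]
      show L ((A ^ k : S8) * (A : S8) : G8) v = v
      rw [L_mul, LinearMap.comp_apply, hAv, ih]
  obtain ⟨k', hk'⟩ : ∃ k' : ℕ, A ^ k = A ^ k' := by
    have := (mem_zpowers_iff_mem_range_orderOf (x := A) (y := A ^ k)).1 (zpow_mem (mem_zpowers A) k)
    rw [Finset.mem_image] at this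
    obtain ⟨k', -, hk'⟩ := this
    exact ⟨k', hk'.symm⟩
  rw [hk'] at h2
  have h4 : L (B : G8) (L ((g : S8) : G8) v) = L ((g : S8) : G8) v := by
    have h5 : ((B : S8) : G8) * (((g : S8) : G8)) = ((g : S8) : G8) * ((A ^ k' : S8) : G8) := by
      have h6 : B * (g : S8) = (g : S8) * A ^ k' := by rw [h2]; group
      have := congrArg (fun u : S8 => (u : G8)) h6
      exact this
    simp_rw [← LinearMap.comp_apply, ← L_mul, h5, L_mul, LinearMap.comp_apply, hfix]
  have h5 := hBv _ h4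
  apply hv
  have h6 : L (((g : S8) : G8)⁻¹) (L ((g : S8) : G8) v) = v := by
    rw [← LinearMap.comp_apply, ← L_mul, inv_mul_cancel, L_one]; rfl
  rw [h5, map_zero] at h6
  exact h6.symm

/-- certificates -/
structure Crt where
  x : List ℕ
  m : ℕ
  ai : List ℕ
  w7 : List Bool
  p7 : ℕ
  wA : List Bool
  pA : ℕ
  vA : ℕ
  wB : List Bool
  pB : ℕ

/-- the sum of the powers of `c` is zero -/
def sum5 (c : List ℕ) : Bool :=
  let c2 := mulN c c
  let c3 := mulN c c2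
  let c4 := mulN c c3
  (List.range 8).all fun i => (oneN.getD i 0 ^^^ (c.getD i 0 ^^^ (c2.getD i 0 ^^^ (c3.getD i 0 ^^^ c4.getD i 0)))) == 0

/-- elements of order `p` -/
def ordN (c : List ℕ) (p : ℕ) : Bool := powN c p == oneN && (small c && c != oneN)

/-- the check of a certificate -/
def check (ca : List ℕ) (c : Crt) : Bool :=
  checkIso c.x && (powN c.x c.m == oneN && (c.m % 2 == 1 && (mulN ca c.ai == oneN && (c.ai.length == 8 &&
    (let y := mulN (mulN ca c.x) c.ai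
     let g7 := powN (evN c.x y c.w7) c.p7
     let gA := powN (evN c.x y c.wA) c.pA
     let gB := powN (evN c.x y c.wB) c.pB
     ordN g7 7 && (ordN gA 5 && (ordN gB 5 && (sum5 gB && (app gA c.vA == c.vA && (0 < c.vA && c.vA < 256))))))))))

theorem Rep.order {g : G8} {c : List ℕ} {p : ℕ} (hp : p.Prime) (h : Rep (L g) c) (hc : ordN c p = true) :
    orderOf g = p := by
  haveI : Fact p.Prime := ⟨hp⟩
  unfold ordN at hc
  rw [Bool.and_eq_true, Bool.and_eq_true, beq_iff_eq, bne_iff_ne] at hc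
  exact orderOf_eq_prime ((h.pow p).one_iff hc.1) (h.ne_one hc.2.1 hc.2.2)

theorem Rep.no_fix {g : G8} {c : List ℕ} (h : Rep (L g) c) (hc : sum5 c = true) (w : V8) (hw : L g w = w) : w = 0 := by
  unfold sum5 at hc
  rw [List.all_eq_true] at hc
  have h2 := h.mulG h
  have h3 := h.mulG h2
  have h4 := h.mulG h3
  have hsum : ∀ v : V8, v + (L g v + (L (g * g) v + (L (g * (g * g)) v + L (g * (g * (g * g))) v))) = 0 := by
    have : LinearMap.id + (L g + (L (g * g) + (L (g * (g * g)) + L (g * (g * (g * g)))))) =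
        (0 : V8 →ₗ[ZMod 2] V8) := by
      apply LinearMap.pi_ext'
      intro i
      apply LinearMap.ext_ring
      simp only [LinearMap.comp_apply, LinearMap.add_apply, LinearMap.zero_apply, LinearMap.id_apply]
      show (Pi.single i 1 : V8) + (L g (Pi.single i 1) + (L (g * g) (Pi.single i 1) +
        (L (g * (g * g)) (Pi.single i 1) + L (g * (g * (g * g))) (Pi.single i 1)))) = 0
      rw [h.2 i, h2.2 i, h3.2 i, h4.2 i, single_eq, ← oneN_getD, ← dec_xor, ← dec_xor, ← dec_xor, ← dec_xor]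
      have h5 := hc (ix i) (List.mem_range.2 (ix_lt i))
      rw [beq_iff_eq] at h5
      rw [h5, dec_zero]
    intro v
    have h6 := congrArg (fun f : V8 →ₗ[ZMod 2] V8 => f v) this
    exact h6
  have h5 := hsum w
  have e2 : L (g * g) w = w := by rw [L_mul, LinearMap.comp_apply, hw, hw]
  have e3 : L (g * (g * g)) w = w := by rw [L_mul, LinearMap.comp_apply, e2, hw]
  have e4 : L (g * (g * (g * g))) w = w := by rw [L_mul, LinearMap.comp_apply, e3, hw]
  rw [hw, e2, e3, e4] at h5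
  have h6 : w + w = 0 := by
    funext i
    show w i + w i = 0
    exact CharTwo.add_self_eq_zero _
  rw [h6, add_zero, h6, add_zero] at h5
  exact h5

theorem dec_ne {k : ℕ} (h0 : 0 < k) (h : k < 256) : dec k ≠ 0 := by
  intro h1
  rw [← dec_zero] at h1
  exact h0.ne' (dec_inj h (by norm_num) h1)

/-- **the certificate** -/
theorem of_check {a : G8} {ca : List ℕ} (ha : Rep (L a) ca) {c : Crt} (hc : check ca c = true) :
    ∃ x : S8, ∀ K : Subgroup S8, x ∈ K → MulAut.conjNormal a x ∈ K → 7 ∣ Nat.card K ∧ 25 ∣ Nat.card K := by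
  haveI : Finite S8 := Finite.of_equiv T8 e8.symm.toEquiv
  unfold check at hc
  simp only [Bool.and_eq_true, beq_iff_eq, decide_eq_true_eq] at hc
  obtain ⟨hiso, hpow, hodd, hinv, hlen, h7, hA, hB, hsum, hvA, hv0, hv1⟩ := hc
  obtain ⟨X, hX⟩ := exists_g hiso
  have hXm : X ^ c.m = 1 := (hX.pow c.m).one_iff hpow
  let x : S8 := ⟨X, mem_omega_of_odd hodd hXm⟩
  -- the inverse of `a`
  obtain ⟨f, hf⟩ := exists_f hlen
  have hai : Rep (L a⁻¹) c.ai := by
    have h1 : Rep (L a ∘ₗ f) oneN := by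
      rw [← hinv]
      exact ha.mul hf
    have h2 : L a ∘ₗ f = LinearMap.id := h1.eq rep_one
    have h3 : f = L a⁻¹ := by
      have h4 : L a⁻¹ ∘ₗ L a = LinearMap.id := by rw [← L_mul, inv_mul_cancel, L_one]
      calc f = (L a⁻¹ ∘ₗ L a) ∘ₗ f := by rw [h4, LinearMap.id_comp]
        _ = L a⁻¹ := by rw [LinearMap.comp_assoc, h2, LinearMap.comp_id]
    rw [← h3]
    exact hf
  have hY : Rep (L (a * X * a⁻¹)) (mulN (mulN ca c.x) c.ai) := (ha.mulG hX).mulG hai
  set y : S8 := MulAut.conjNormal a x with hy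
  have hyc : (y : G8) = a * X * a⁻¹ := MulAut.conjNormal_apply a x
  rw [← hyc] at hY
  have hXx : Rep (L (x : G8)) c.x := hX
  refine ⟨x, fun K hx hyK => ?_⟩
  have hrep : ∀ (w : List Bool) (p : ℕ), Rep (L (((ev x y w) ^ p : S8) : G8))
      (powN (evN c.x (mulN (mulN ca c.x) c.ai) w) p) := by
    intro w p
    rw [Subgroup.coe_pow, coe_ev]
    exact (rep_ev hXx hY w).pow p
  have hmem : ∀ (w : List Bool) (p : ℕ), (ev x y w) ^ p ∈ K := fun w p => pow_mem (ev_mem hx hyK w) p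
  constructor
  · have h1 := (hrep c.w7 c.p7).order (by norm_num) h7
    rw [Subgroup.orderOf_coe] at h1
    rw [← h1]
    exact Subgroup.orderOf_dvd_natCard K (hmem _ _)
  · have h1 := (hrep c.wA c.pA).order (by norm_num) hA
    have h2 := (hrep c.wB c.pB).order (by norm_num) hB
    rw [Subgroup.orderOf_coe] at h1 h2
    refine dvd25 (hmem c.wA c.pA) (hmem c.wB c.pB) h1 h2 (v := dec c.vA) (dec_ne hv0 hv1) ?_
      ((hrep c.wB c.pB).no_fix hsum)
    rw [(hrep c.wA c.pA).app, hvA]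

end Cfsg.Agent.H884.Oc
end

-- part: H884/Oc/Class
section
/-!
# S3938, `Ω⁺₈(2)`: isometries as products of reflections and long root elements (helper884)
-/

set_option autoImplicit false
set_option maxRecDepth 100000
set_option linter.unusedSectionVars false
set_option linter.style.haveILetI false

namespace Cfsg.Agent.H884.Oc

open Subgroup Cfsg Cfsg.Agent Cfsg.Agent.H503 Cfsg.Agent.H503.El.O8 Module

/-- the quadratic form -/
noncomputable abbrev QP : QuadraticForm (ZMod 2) V8 := LieClassical.OmegaReindex.quadPlus 4 (ZMod 2)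

/-- the bilinear form -/
noncomputable def B (u v : V8) : ZMod 2 := Q8 (u + v) + Q8 u + Q8 v

theorem B_eq (u v : V8) : B u v = QuadraticMap.polarBilin QP u v := by
  show Q8 (u + v) + Q8 u + Q8 v = Q8 (u + v) - Q8 u - Q8 v
  rw [sub_eq_add_neg, sub_eq_add_neg, CharTwo.neg_eq, CharTwo.neg_eq]

theorem B_add_right (u v w : V8) : B u (v + w) = B u v + B u w := by
  rw [B_eq, B_eq, B_eq, map_add]

theorem B_add_left (u v w : V8) : B (u + v) w = B u w + B v w := by
  rw [B_eq, B_eq, B_eq, map_add, LinearMap.add_apply]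

theorem B_smul_right (c : ZMod 2) (u v : V8) : B u (c • v) = c * B u v := by
  rw [B_eq, B_eq, map_smul, smul_eq_mul]

theorem B_comm (u v : V8) : B u v = B v u := by
  unfold B
  rw [add_comm u v]
  ring

theorem B_self (u : V8) : B u u = 0 := by
  unfold B
  have h1 : u + u = 0 := by
    funext i
    show u i + u i = 0
    exact CharTwo.add_self_eq_zero _
  have h2 : Q8 (0 : V8) = 0 := by decide
  rw [h1, h2, zero_add]
  exact CharTwo.add_self_eq_zero _

theorem B_zero_right (u : V8) : B u 0 = 0 := by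
  rw [B_eq, map_zero]

theorem B_zero_left (u : V8) : B 0 u = 0 := by
  rw [B_comm, B_zero_right]

theorem Q_add (u v : V8) : Q8 (u + v) = Q8 u + Q8 v + B u v := by
  unfold B
  have h1 : Q8 u + Q8 u = 0 := CharTwo.add_self_eq_zero _
  have h2 : Q8 v + Q8 v = 0 := CharTwo.add_self_eq_zero _
  linear_combination -h1 - h2

theorem B_nondeg {u : V8} (h : ∀ v, B u v = 0) : u = 0 := by
  apply hnd8.1 u
  intro v
  have := h v
  rwa [B_eq] at this

theorem v_add_self (v : V8) : v + v = 0 := by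
  funext i
  show v i + v i = 0
  exact CharTwo.add_self_eq_zero _

theorem z2 (c : ZMod 2) : c = 0 ∨ c = 1 := by
  revert c
  decide

/-- reflections -/
noncomputable def R (u : V8) : V8 →ₗ[ZMod 2] V8 where
  toFun v := v + B u v • u
  map_add' v w := by rw [B_add_right, add_smul]; abel
  map_smul' c v := by
    rw [B_smul_right, RingHom.id_apply, smul_add, smul_smul]

theorem R_apply (u v : V8) : R u v = v + B u v • u := rfl

/-- long root elements -/
noncomputable def T (r s : V8) : V8 →ₗ[ZMod 2] V8 where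
  toFun v := v + (B r v • s + B s v • r)
  map_add' v w := by rw [B_add_right, B_add_right, add_smul, add_smul]; abel
  map_smul' c v := by
    rw [B_smul_right, B_smul_right, RingHom.id_apply, smul_add, smul_add, smul_smul, smul_smul]

theorem T_apply (r s v : V8) : T r s v = v + (B r v • s + B s v • r) := rfl

/-- isometries -/
def Iso (f : V8 →ₗ[ZMod 2] V8) : Prop := ∀ v, Q8 (f v) = Q8 v

theorem Iso.B {f : V8 →ₗ[ZMod 2] V8} (h : Iso f) (u v : V8) : Oc.B (f u) (f v) = Oc.B u v := by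
  unfold Oc.B
  rw [← map_add, h, h, h]

theorem Iso.comp {f g : V8 →ₗ[ZMod 2] V8} (hf : Iso f) (hg : Iso g) : Iso (f ∘ₗ g) := fun v => by
  rw [LinearMap.comp_apply, hf, hg]

theorem iso_R {u : V8} (hu : Q8 u = 1) : Iso (R u) := by
  intro v
  rw [R_apply]
  rcases z2 (B u v) with h | h
  · rw [h, zero_smul, add_zero]
  · rw [h, one_smul, Q_add, hu, B_comm, h, add_assoc, CharTwo.add_self_eq_zero, add_zero]

theorem R_sq {u : V8} (v : V8) : R u (R u v) = v := by
  rw [R_apply, R_apply, B_add_right, B_smul_right, B_self, mul_zero, add_zero, add_assoc, v_add_self, add_zero]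

theorem iso_T {r s : V8} (hr : Q8 r = 0) (hs : Q8 s = 0) (hrs : B r s = 0) : Iso (T r s) := by
  intro v
  rw [T_apply]
  have hsr : B s r = 0 := by rw [B_comm, hrs]
  rcases z2 (B r v) with h | h <;> rcases z2 (B s v) with h' | h' <;> rw [h, h']
  · simp
  · rw [zero_smul, zero_add, one_smul, Q_add, hr, B_comm, h]; simp
  · rw [zero_smul, add_zero, one_smul, Q_add, hs, B_comm, h']; simp
  · rw [one_smul, one_smul, Q_add, Q_add, hr, hs, B_comm s r, hrs, B_add_right, B_comm v s, B_comm v r, h, h']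
    have : (1 : ZMod 2) + 1 = 0 := by decide
    simp [this]

theorem T_sq {r s : V8} (hrs : B r s = 0) (v : V8) : T r s (T r s v) = v := by
  have hsr : B s r = 0 := by rw [B_comm, hrs]
  rw [T_apply, T_apply]
  simp only [B_add_right, B_smul_right, B_self, hrs, hsr, mul_zero, add_zero]
  rw [add_assoc, v_add_self, add_zero]

/-- blocks -/
inductive Bk
  | r | t | z
  deriving DecidableEq

/-- the product -/
noncomputable def actB : List Bk → List V8 → (V8 →ₗ[ZMod 2] V8)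
  | .r :: t, u :: vs => R u ∘ₗ actB t vs
  | .t :: t, u :: v :: vs => T u v ∘ₗ actB t vs
  | .z :: t, u :: v :: vs => (R u ∘ₗ R v) ∘ₗ actB t vs
  | _, _ => LinearMap.id

/-- the Gram matrix -/
def Ok : List Bk → List V8 → Prop
  | .r :: t, u :: vs => Q8 u = 1 ∧ (∀ v ∈ vs, B u v = 0) ∧ Ok t vs
  | .t :: t, u :: v :: vs => (Q8 u = 0 ∧ Q8 v = 0 ∧ B u v = 0) ∧ (∀ w ∈ vs, B u w = 0 ∧ B v w = 0) ∧ Ok t vs
  | .z :: t, u :: v :: vs => (Q8 u = 1 ∧ Q8 v = 1 ∧ B u v = 1) ∧ (∀ w ∈ vs, B u w = 0 ∧ B v w = 0) ∧ Ok t vs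
  | [], [] => True
  | _, _ => False

/-- independence -/
def Ind (vs : List V8) : Prop := LinearIndependent (ZMod 2) vs.get

theorem ind_nil : Ind [] := by
  have : IsEmpty (Fin ([] : List V8).length) := inferInstanceAs (IsEmpty (Fin 0))
  exact linearIndependent_empty_type

theorem Ind.cons {u : V8} {vs : List V8} (h : Ind vs) {z : V8} (hz : B u z = 1) (hv : ∀ v ∈ vs, B v z = 0) :
    Ind (u :: vs) := by
  unfold Ind at h ⊢
  have h1 : (u :: vs).get = (Fin.cons u vs.get : Fin (vs.length + 1) → V8) := by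
    funext i
    refine Fin.cases ?_ (fun i => ?_) i
    · rfl
    · rfl
  rw [h1, linearIndependent_finCons]
  refine ⟨h, fun hmem => ?_⟩
  have h2 : ∀ w ∈ Submodule.span (ZMod 2) (Set.range vs.get), B w z = 0 := by
    intro w hw
    induction hw using Submodule.span_induction with
    | mem w hw =>
      obtain ⟨i, rfl⟩ := hw
      exact hv _ (List.get_mem _ _)
    | zero => exact B_zero_left z
    | add a b _ _ ha hb => rw [B_add_left, ha, hb, add_zero]
    | smul c a _ ha => rw [B_comm, B_smul_right, B_comm, ha, mul_zero]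
  rw [h2 u hmem] at hz
  exact absurd hz (by decide)

/-- paired lists -/
structure Pr (vs ws : List V8) (zs : List (V8 × V8)) : Prop where
  fst : zs.map Prod.fst = vs
  snd : zs.map Prod.snd = ws
  q : ∀ z ∈ zs, Q8 z.1 = Q8 z.2
  b : ∀ z ∈ zs, ∀ z' ∈ zs, B z.1 z'.1 = B z.2 z'.2

theorem Pr.mem_fst {vs ws : List V8} {zs : List (V8 × V8)} (h : Pr vs ws zs) {z : V8 × V8} (hz : z ∈ zs) :
    z.1 ∈ vs := by
  rw [← h.fst]
  exact List.mem_map_of_mem hz

theorem Pr.mem_snd {vs ws : List V8} {zs : List (V8 × V8)} (h : Pr vs ws zs) {z : V8 × V8} (hz : z ∈ zs) :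
    z.2 ∈ ws := by
  rw [← h.snd]
  exact List.mem_map_of_mem hz

theorem Pr.cons {vs ws : List V8} {zs : List (V8 × V8)} (h : Pr vs ws zs) {u u' : V8} (hq : Q8 u = Q8 u')
    (hb : ∀ z ∈ zs, B u z.1 = B u' z.2) : Pr (u :: vs) (u' :: ws) ((u, u') :: zs) where
  fst := by rw [List.map_cons, h.fst]
  snd := by rw [List.map_cons, h.snd]
  q z hz := by
    rcases List.mem_cons.1 hz with rfl | hz
    · exact hq
    · exact h.q z hz
  b z hz z' hz' := by
    rcases List.mem_cons.1 hz with rfl | hz <;> rcases List.mem_cons.1 hz' with rfl | hz'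
    · rw [B_self, B_self]
    · exact hb _ hz'
    · rw [B_comm, hb _ hz, B_comm]
    · exact h.b z hz z' hz'

theorem exists_pr : ∀ (t : List Bk) (vs ws : List V8), Ok t vs → Ok t ws → ∃ zs, Pr vs ws zs
  | [], [], [], _, _ => ⟨[], rfl, rfl, by simp, by simp⟩
  | .r :: t, u :: vs, u' :: ws, h, h' => by
    obtain ⟨zs, hz⟩ := exists_pr t vs ws h.2.2 h'.2.2
    exact ⟨_, hz.cons (h.1.trans h'.1.symm) fun z hm => (h.2.1 _ (hz.mem_fst hm)).trans (h'.2.1 _ (hz.mem_snd hm)).symm⟩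
  | .t :: t, u :: v :: vs, u' :: v' :: ws, h, h' => by
    obtain ⟨zs, hz⟩ := exists_pr t vs ws h.2.2 h'.2.2
    have h1 := hz.cons (h.1.2.1.trans h'.1.2.1.symm) fun z hm =>
      (h.2.1 _ (hz.mem_fst hm)).2.trans (h'.2.1 _ (hz.mem_snd hm)).2.symm
    refine ⟨_, h1.cons (h.1.1.trans h'.1.1.symm) fun z hm => ?_⟩
    rcases List.mem_cons.1 hm with rfl | hm
    · exact h.1.2.2.trans h'.1.2.2.symm
    · exact (h.2.1 _ (hz.mem_fst hm)).1.trans (h'.2.1 _ (hz.mem_snd hm)).1.symm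
  | .z :: t, u :: v :: vs, u' :: v' :: ws, h, h' => by
    obtain ⟨zs, hz⟩ := exists_pr t vs ws h.2.2 h'.2.2
    have h1 := hz.cons (h.1.2.1.trans h'.1.2.1.symm) fun z hm =>
      (h.2.1 _ (hz.mem_fst hm)).2.trans (h'.2.1 _ (hz.mem_snd hm)).2.symm
    refine ⟨_, h1.cons (h.1.1.trans h'.1.1.symm) fun z hm => ?_⟩
    rcases List.mem_cons.1 hm with rfl | hm
    · exact h.1.2.2.trans h'.1.2.2.symm
    · exact (h.2.1 _ (hz.mem_fst hm)).1.trans (h'.2.1 _ (hz.mem_snd hm)).1.symm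

/-- **Witt** -/
theorem exists_map {t : List Bk} {vs ws : List V8} (h : Ok t vs) (h' : Ok t ws) (hi : Ind vs) (hi' : Ind ws) :
    ∃ g : V8 ≃ₗ[ZMod 2] V8, (∀ v, Q8 (g v) = Q8 v) ∧ vs.map g = ws := by
  obtain ⟨zs, hz⟩ := exists_pr t vs ws h h'
  obtain ⟨rfl, rfl, hq, hb⟩ := hz
  have e1 : (zs.map Prod.fst).get = (fun i : Fin (zs.map Prod.fst).length => (zs.get (i.cast (by simp))).1) := by
    funext i; simp
  have e2 : (zs.map Prod.snd).get = (fun i : Fin (zs.map Prod.snd).length => (zs.get (i.cast (by simp))).2) := by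
    funext i; simp
  have i1 : LinearIndependent (ZMod 2) (fun i : Fin zs.length => (zs.get i).1) := by
    have h1 : LinearIndependent (ZMod 2) (zs.map Prod.fst).get := hi
    rw [e1] at h1
    exact h1.comp (fun i : Fin zs.length => i.cast (by simp)) (fun a b hab => by simpa using hab)
  have i2 : LinearIndependent (ZMod 2) (fun i : Fin zs.length => (zs.get i).2) := by
    have h1 : LinearIndependent (ZMod 2) (zs.map Prod.snd).get := hi'
    rw [e2] at h1
    exact h1.comp (fun i : Fin zs.length => i.cast (by simp)) (fun a b hab => by simpa using hab)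
  obtain ⟨g, hg, hg'⟩ := ClassicalGeometry.WittQuad.extend_family QP hnd8 zs.length _ _ i1 i2
    (fun i => hq _ (List.get_mem _ _)) (fun i j => by
      rw [← B_eq, ← B_eq]
      exact hb _ (List.get_mem _ _) _ (List.get_mem _ _))
  refine ⟨g, hg, ?_⟩
  rw [List.map_map]
  apply List.map_congr_left
  intro z hz
  obtain ⟨i, rfl⟩ := List.get_of_mem hz
  exact hg' i

theorem conj_R {g : V8 ≃ₗ[ZMod 2] V8} (hg : ∀ v, Q8 (g v) = Q8 v) (u v : V8) : g (R u v) = R (g u) (g v) := by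
  have hB : B (g u) (g v) = B u v := by
    unfold B
    rw [← map_add, hg, hg, hg]
  rw [R_apply, R_apply, map_add, map_smul, hB]

theorem conj_T {g : V8 ≃ₗ[ZMod 2] V8} (hg : ∀ v, Q8 (g v) = Q8 v) (r s v : V8) :
    g (T r s v) = T (g r) (g s) (g v) := by
  have hB : ∀ u v, B (g u) (g v) = B u v := by
    intro u v
    unfold B
    rw [← map_add, hg, hg, hg]
  rw [T_apply, T_apply, map_add, map_add, map_smul, map_smul, hB, hB]

theorem conj_act {g : V8 ≃ₗ[ZMod 2] V8} (hg : ∀ v, Q8 (g v) = Q8 v) : ∀ (t : List Bk) (vs : List V8) (v : V8),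
    g (actB t vs v) = actB t (vs.map g) (g v)
  | [], _, v => by cases ‹List V8› <;> rfl
  | .r :: t, [], v => rfl
  | .r :: t, u :: vs, v => by
    show g (R u (actB t vs v)) = R (g u) (actB t (vs.map g) (g v))
    rw [conj_R hg, conj_act hg t vs v]
  | .t :: t, [], v => rfl
  | .t :: t, [u], v => rfl
  | .t :: t, u :: w :: vs, v => by
    show g (T u w (actB t vs v)) = T (g u) (g w) (actB t (vs.map g) (g v))
    rw [conj_T hg, conj_act hg t vs v]
  | .z :: t, [], v => rfl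
  | .z :: t, [u], v => rfl
  | .z :: t, u :: w :: vs, v => by
    show g (R u (R w (actB t vs v))) = R (g u) (R (g w) (actB t (vs.map g) (g v)))
    rw [conj_R hg, conj_R hg, conj_act hg t vs v]

end Cfsg.Agent.H884.Oc
end

-- part: H884/Oc/Peel
section
/-!
# S3938, `Ω⁺₈(2)`: involutions and elements of order `3` in normal form (helper884)
-/

set_option autoImplicit false
set_option maxRecDepth 100000
set_option linter.unusedSectionVars false
set_option linter.style.haveILetI false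

namespace Cfsg.Agent.H884.Oc

open Subgroup Cfsg Cfsg.Agent Cfsg.Agent.H503 Cfsg.Agent.H503.El.O8 Module

/-- the number of moved vectors -/
noncomputable def mv (f : V8 →ₗ[ZMod 2] V8) : ℕ := by
  classical exact (Finset.univ.filter fun v => f v ≠ v).card

theorem mv_lt {f f' : V8 →ₗ[ZMod 2] V8} (h : ∀ c, f c = c → f' c = c) {v : V8} (hv : f v ≠ v) (hv' : f' v = v) :
    mv f' < mv f := by
  classical
  unfold mv
  apply Finset.card_lt_card
  rw [Finset.ssubset_iff_of_subset]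
  · exact ⟨v, by simpa using hv, by simpa using hv'⟩
  · intro c hc
    simp only [Finset.mem_filter, Finset.mem_univ, true_and] at hc ⊢
    exact fun h1 => hc (h c h1)

theorem mv_zero {f : V8 →ₗ[ZMod 2] V8} (h : ∀ v, f v = v) : f = LinearMap.id := LinearMap.ext h

/-- orthogonality to the fixed points -/
def Of (f : V8 →ₗ[ZMod 2] V8) (vs : List V8) : Prop := ∀ v ∈ vs, ∀ c, f c = c → B v c = 0

theorem add_cancel2 (a b : V8) : a + b + b = a := by rw [add_assoc, v_add_self, add_zero]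

theorem two_zero (c : ZMod 2) : c + c = 0 := CharTwo.add_self_eq_zero c

/-- the alternating case -/
theorem peel_t (n : ℕ) : ∀ f : V8 →ₗ[ZMod 2] V8, mv f ≤ n → Iso f → (∀ v, f (f v) = v) → (∀ v, B v (f v) = 0) →
    ∃ m vs, f = actB (List.replicate m .t) vs ∧ Ok (List.replicate m .t) vs ∧ Ind vs ∧ Of f vs := by
  induction n using Nat.strong_induction_on with
  | _ n ih =>
  intro f hn hf hinv halt
  by_cases hid : ∀ v, f v = v
  · refine ⟨0, [], mv_zero hid, trivial, ind_nil, by simp [Of]⟩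
  push Not at hid
  obtain ⟨v, hv⟩ := hid
  set r := v + f v with hr
  have hr0 : r ≠ 0 := by
    intro h
    apply hv
    have := congrArg (· + f v) h
    simp only [hr, add_cancel2, zero_add] at this
    exact this.symm
  obtain ⟨w, hw⟩ : ∃ w, B r w = 1 := by
    by_contra hcon
    push Not at hcon
    exact hr0 (B_nondeg fun w => (z2 _).resolve_right (hcon w))
  set s := w + f w with hs
  have hfr : f r = r := by rw [hr, map_add, hinv, add_comm]
  have hfs : f s = s := by rw [hs, map_add, hinv, add_comm]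
  have hQ : ∀ x, Q8 (x + f x) = 0 := fun x => by rw [Q_add, hf, halt, two_zero, add_zero]
  have hsym : ∀ x y, B x (f y) = B (f x) y := fun x y => by rw [← hf.B x (f y), hinv]
  have hi : ∀ x y, B (x + f x) (y + f y) = 0 := by
    intro x y
    rw [B_add_left, B_add_right, B_add_right, hf.B, hsym]
    linear_combination two_zero (B x y) + two_zero (B (f x) y)
  have hc : ∀ x c, f c = c → B (x + f x) c = 0 := by
    intro x c hc
    rw [B_add_left, ← hc, hf.B, hc, two_zero]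
  have hrs : B r s = 0 := hi v w
  have hsr : B s r = 0 := hi w v
  -- values
  have hvw : B v w + B (f v) w = 1 := by rw [← B_add_left]; exact hw
  have hrfv : B r (f v) = 0 := by rw [hr, B_add_left, halt, B_self, add_zero]
  have hsfv : B s (f v) = 1 := by
    rw [hs, B_add_left, hf.B, B_comm w, B_comm w, add_comm]
    exact hvw
  have hsfw : B s (f w) = 0 := by rw [hs, B_add_left, halt, B_self, add_zero]
  have hrfw : B r (f w) = 1 := by rw [← hfr, hf.B]; exact hw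
  set f' : V8 →ₗ[ZMod 2] V8 := T r s ∘ₗ f with hf'
  have hf'a : ∀ x, f' x = f x + (B r (f x) • s + B s (f x) • r) := fun x => rfl
  have hfix : ∀ c, f c = c → f' c = c := by
    intro c hcc
    rw [hf'a, hcc, hc v c hcc, hc w c hcc, zero_smul, zero_smul, add_zero, add_zero]
  have hv' : f' v = v := by
    rw [hf'a, hrfv, hsfv, zero_smul, one_smul, zero_add, hr, add_comm v, ← add_assoc, v_add_self, zero_add]
  have hw' : f' w = w := by
    rw [hf'a, hrfw, hsfw, zero_smul, one_smul, add_zero, hs, add_comm w, ← add_assoc, v_add_self, zero_add]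
  have hT : ∀ x, T r s (f x) = f (T r s x) := by
    intro x
    rw [T_apply, T_apply, map_add, map_add, map_smul, map_smul, hfr, hfs]
    have e1 : B r (f x) = B r x := by
      have := hf.B r x
      rwa [hfr] at this
    have e2 : B s (f x) = B s x := by
      have := hf.B s x
      rwa [hfs] at this
    rw [e1, e2]
  have hinv' : ∀ x, f' (f' x) = x := by
    intro x
    show T r s (f (T r s (f x))) = x
    rw [← hT, T_sq hrs, hinv]
  have hiso' : Iso f' := (iso_T (hQ v) (hQ w) hrs).comp hf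
  have halt' : ∀ x, B x (f' x) = 0 := by
    intro x
    have h1 : ∃ y, x + f' x = y + f y := by
      refine ⟨x + (B r (f x) • w + B s (f x) • v), ?_⟩
      rw [hf'a, map_add, map_add, map_smul, map_smul, hr, hs, smul_add, smul_add]
      abel
    obtain ⟨y, hy⟩ := h1
    have h2 := hQ y
    rw [← hy, Q_add, hiso', two_zero, zero_add] at h2
    exact h2
  have hlt : mv f' < mv f := mv_lt hfix hv hv'
  obtain ⟨m, vs, he, hok, hind, hof⟩ := ih (mv f') (lt_of_lt_of_le hlt hn) f' le_rfl hiso' hinv' halt'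
  have hfr' : f' r = r := hfix r hfr
  have hfs' : f' s = s := hfix s hfs
  refine ⟨m + 1, r :: s :: vs, ?_, ?_, ?_, ?_⟩
  · rw [List.replicate_succ]
    show f = T r s ∘ₗ actB (List.replicate m .t) vs
    rw [← he]
    apply LinearMap.ext
    intro x
    show f x = T r s (T r s (f x))
    rw [T_sq hrs]
  · rw [List.replicate_succ]
    refine ⟨⟨hQ v, hQ w, hrs⟩, fun x hx => ⟨?_, ?_⟩, hok⟩
    · rw [B_comm]; exact hof x hx r hfr'
    · rw [B_comm]; exact hof x hx s hfs'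
  · have hwr : B s w = 0 := by rw [hs, B_add_left, B_self, B_comm, halt, add_zero]
    have hsv : B s v = 1 := by
      have : B s v = B s (f v) := by
        have := hf.B s v
        rw [hfs] at this
        exact this.symm
      rw [this, hsfv]
    refine (hind.cons (z := v) hsv (fun x hx => hof x hx v hv')).cons (z := w) hw ?_
    intro x hx
    rcases List.mem_cons.1 hx with rfl | hx
    · exact hwr
    · exact hof x hx w hw'
  · intro x hx c hcc
    rcases List.mem_cons.1 hx with rfl | hx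
    · exact hc v c hcc
    rcases List.mem_cons.1 hx with rfl | hx
    · exact hc w c hcc
    · exact hof x hx c (hfix c hcc)

/-- **involutions** -/
theorem peel_two (n : ℕ) : ∀ f : V8 →ₗ[ZMod 2] V8, mv f ≤ n → Iso f → (∀ v, f (f v) = v) →
    ∃ j m vs, f = actB (List.replicate j .r ++ List.replicate m .t) vs ∧
      Ok (List.replicate j .r ++ List.replicate m .t) vs ∧ Ind vs ∧ Of f vs := by
  induction n using Nat.strong_induction_on with
  | _ n ih =>
  intro f hn hf hinv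
  by_cases halt : ∀ v, B v (f v) = 0
  · obtain ⟨m, vs, h⟩ := peel_t n f hn hf hinv halt
    exact ⟨0, m, vs, by simpa using h⟩
  push Not at halt
  obtain ⟨v, hv1⟩ := halt
  have hvf : B v (f v) = 1 := (z2 _).resolve_left hv1
  set u := v + f v with hu
  have hQu : Q8 u = 1 := by rw [hu, Q_add, hf, two_zero, zero_add, hvf]
  have hfu : f u = u := by rw [hu, map_add, hinv, add_comm]
  have hc : ∀ c, f c = c → B u c = 0 := by
    intro c hc
    rw [hu, B_add_left, ← hc, hf.B, hc, two_zero]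
  have hv : f v ≠ v := by
    intro h
    rw [h, B_self] at hvf
    exact absurd hvf (by decide)
  set f' : V8 →ₗ[ZMod 2] V8 := R u ∘ₗ f with hf'
  have hf'a : ∀ x, f' x = f x + B u (f x) • u := fun x => rfl
  have hfix : ∀ c, f c = c → f' c = c := by
    intro c hcc
    rw [hf'a, hcc, hc c hcc, zero_smul, add_zero]
  have hv' : f' v = v := by
    have h1 : B u (f v) = 1 := by rw [hu, B_add_left, hvf, B_self, add_zero]
    rw [hf'a, h1, one_smul, hu, add_comm v, ← add_assoc, v_add_self, zero_add]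
  have hT : ∀ x, R u (f x) = f (R u x) := by
    intro x
    rw [R_apply, R_apply, map_add, map_smul, hfu]
    have e1 : B u (f x) = B u x := by
      have := hf.B u x
      rwa [hfu] at this
    rw [e1]
  have hinv' : ∀ x, f' (f' x) = x := by
    intro x
    show R u (f (R u (f x))) = x
    rw [← hT, R_sq, hinv]
  have hiso' : Iso f' := (iso_R hQu).comp hf
  have hlt : mv f' < mv f := mv_lt hfix hv hv'
  obtain ⟨j, m, vs, he, hok, hind, hof⟩ := ih (mv f') (lt_of_lt_of_le hlt hn) f' le_rfl hiso' hinv'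
  have hfu' : f' u = u := hfix u hfu
  refine ⟨j + 1, m, u :: vs, ?_, ?_, ?_, ?_⟩
  · rw [List.replicate_succ, List.cons_append]
    show f = R u ∘ₗ actB (List.replicate j .r ++ List.replicate m .t) vs
    rw [← he]
    apply LinearMap.ext
    intro x
    show f x = R u (R u (f x))
    rw [R_sq]
  · rw [List.replicate_succ, List.cons_append]
    refine ⟨hQu, fun x hx => ?_, hok⟩
    rw [B_comm]; exact hof x hx u hfu'
  · refine hind.cons (z := v) ?_ (fun x hx => hof x hx v hv')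
    rw [hu, B_add_left, B_self, zero_add, B_comm, hvf]
  · intro x hx c hcc
    rcases List.mem_cons.1 hx with rfl | hx
    · exact hc c hcc
    · exact hof x hx c (hfix c hcc)

/-- the rotation of an anisotropic plane -/
theorem Z_apply {v w : V8} (h : B v w = 1) (x : V8) : (R v ∘ₗ R w) x = x + (B w x • w + (B v x + B w x) • v) := by
  rw [LinearMap.comp_apply, R_apply, R_apply, B_add_right, B_smul_right, h, mul_one]
  abel

theorem Z'_apply {v w : V8} (h : B v w = 1) (x : V8) : (R w ∘ₗ R v) x = x + (B v x • v + (B w x + B v x) • w) :=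
  Z_apply (by rw [B_comm]; exact h) x

theorem Z_Z' {v w : V8} (x : V8) : (R v ∘ₗ R w) ((R w ∘ₗ R v) x) = x := by
  show R v (R w (R w (R v x))) = x
  rw [R_sq, R_sq]

/-- the cube of the rotation -/
theorem Z_cube {v w : V8} (h : B v w = 1) (x : V8) :
    (R w ∘ₗ R v) ((R w ∘ₗ R v) ((R w ∘ₗ R v) x)) = x := by
  have h' : B w v = 1 := by rw [B_comm]; exact h
  rw [Z'_apply h, Z'_apply h, Z'_apply h]
  simp only [B_add_right, B_smul_right, B_self, h, h', mul_zero, mul_one, add_zero, zero_add]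
  generalize B v x = a
  generalize B w x = b
  rcases z2 a with rfl | rfl <;> rcases z2 b with rfl | rfl <;>
    simp only [add_zero, zero_add, two_zero, zero_smul, one_smul]
  all_goals
    (funext i; simp only [Pi.add_apply]; generalize x i = p; generalize v i = q; generalize w i = s
     revert p q s; decide)

/-- **elements of order `3`** -/
theorem peel_three (n : ℕ) : ∀ f : V8 →ₗ[ZMod 2] V8, mv f ≤ n → Iso f → (∀ v, f (f (f v)) = v) →
    ∃ k vs, f = actB (List.replicate k .z) vs ∧ Ok (List.replicate k .z) vs ∧ Ind vs ∧ Of f vs := by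
  induction n using Nat.strong_induction_on with
  | _ n ih =>
  intro f hn hf hinv
  by_cases hid : ∀ v, f v = v
  · refine ⟨0, [], mv_zero hid, trivial, ind_nil, by simp [Of]⟩
  push Not at hid
  obtain ⟨v0, hv0⟩ := hid
  -- the vector
  obtain ⟨v, hN, hQv⟩ : ∃ v, v + (f v + f (f v)) = 0 ∧ Q8 v = 1 := by
    set p := v0 + f v0 with hp
    have hp0 : p ≠ 0 := by
      intro h
      apply hv0
      have := congrArg (· + f v0) h
      simp only [hp, add_cancel2, zero_add] at this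
      exact this.symm
    have hpN : p + (f p + f (f p)) = 0 := by
      rw [hp, map_add, map_add, hinv]
      have e1 := v_add_self v0
      have e2 := v_add_self (f v0)
      have e3 := v_add_self (f (f v0))
      calc v0 + f v0 + (f v0 + f (f v0) + (f (f v0) + v0))
          = (v0 + v0) + ((f v0 + f v0) + (f (f v0) + f (f v0))) := by abel
        _ = 0 := by rw [e1, e2, e3, add_zero, add_zero]
    obtain ⟨z, hz⟩ : ∃ z, B p z = 1 := by
      by_contra hcon
      push Not at hcon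
      exact hp0 (B_nondeg fun w => (z2 _).resolve_right (hcon w))
    set z' := f z + f (f z) with hz'
    have hzN : z' + (f z' + f (f z')) = 0 := by
      rw [hz', map_add, map_add, hinv]
      have e1 := v_add_self z
      have e2 := v_add_self (f z)
      have e3 := v_add_self (f (f z))
      calc f z + f (f z) + (f (f z) + z + (z + f z))
          = (z + z) + ((f z + f z) + (f (f z) + f (f z))) := by abel
        _ = 0 := by rw [e1, e2, e3, add_zero, add_zero]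
    have hpz' : B p z' = 1 := by
      have e1 : B p (f z) = B (f (f p)) z := by
        rw [← hf.B p (f z), ← hf.B (f p) (f (f z)), hinv]
      have e2 : B p (f (f z)) = B (f p) z := by
        rw [← hf.B p (f (f z)), hinv]
      have e3 : B p z + (B (f p) z + B (f (f p)) z) = 0 := by
        rw [← B_add_left, ← B_add_left, hpN, B_zero_left]
      rw [hz', B_add_right, e1, e2]
      rw [hz] at e3
      have h4 : B (f p) z + B (f (f p)) z = 1 := by
        have := congrArg (· + (1 : ZMod 2)) e3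
        simp only [zero_add] at this
        rw [add_comm, ← add_assoc, two_zero, zero_add] at this
        exact this
      rw [add_comm]
      exact h4
    rcases z2 (Q8 p) with h1 | h1
    · rcases z2 (Q8 z') with h2 | h2
      · refine ⟨p + z', ?_, ?_⟩
        · rw [map_add f p z', map_add f (f p) (f z')]
          calc p + z' + (f p + f z' + (f (f p) + f (f z')))
              = (p + (f p + f (f p))) + (z' + (f z' + f (f z'))) := by abel
            _ = 0 := by rw [hpN, hzN, add_zero]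
        · rw [Q_add, h1, h2, hpz', zero_add, zero_add]
      · exact ⟨z', hzN, h2⟩
    · exact ⟨p, hpN, h1⟩
  set w := f v with hw
  have hfw : f w = v + w := by
    have : f w = v + w + (v + (w + f w)) := by
      rw [show v + w + (v + (w + f w)) = (v + v) + ((w + w) + f w) by abel, v_add_self, v_add_self, zero_add, zero_add]
    rw [this, hN, add_zero]
  have hQw : Q8 w = 1 := by rw [hw, hf, hQv]
  have hvw : B v w = 1 := by
    have h1 : Q8 (v + w) = 1 := by rw [← hfw, hf, hQw]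
    rw [Q_add, hQv, hQw, two_zero, zero_add] at h1
    exact h1
  have hwv : B w v = 1 := by rw [B_comm, hvw]
  have hc : ∀ c, f c = c → B v c = 0 ∧ B w c = 0 := by
    intro c hcc
    have e1 : B w c = B v c := by
      have := hf.B v c
      rwa [hcc] at this
    have e2 : B (f w) c = B w c := by
      have := hf.B w c
      rwa [hcc] at this
    rw [hfw, B_add_left, e1, two_zero] at e2
    exact ⟨e2.symm, e1.trans e2.symm⟩
  have hvne : f v ≠ v := by
    intro h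
    have h1 : w = v := h
    rw [h1, B_self] at hvw
    exact absurd hvw (by decide)
  set f' : V8 →ₗ[ZMod 2] V8 := (R w ∘ₗ R v) ∘ₗ f with hf'
  have hf'a : ∀ x, f' x = (R w ∘ₗ R v) (f x) := fun x => rfl
  have hfix : ∀ c, f c = c → f' c = c := by
    intro c hcc
    rw [hf'a, hcc, Z'_apply hvw, (hc c hcc).1, (hc c hcc).2]
    simp
  have hv' : f' v = v := by
    rw [hf'a, ← hw, Z'_apply hvw, B_self, hvw, zero_add, one_smul, one_smul]
    rw [show w + (v + w) = (w + w) + v by abel, v_add_self, zero_add]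
  have hw' : f' w = w := by
    rw [hf'a, hfw, Z'_apply hvw, B_add_right, B_add_right, B_self, B_self, hvw, hwv, zero_add, add_zero, two_zero,
      zero_smul, add_zero, one_smul]
    rw [show v + w + v = (v + v) + w by abel, v_add_self, zero_add]
  have hT : ∀ x, (R w ∘ₗ R v) (f x) = f ((R w ∘ₗ R v) x) := by
    intro x
    rw [Z'_apply hvw, Z'_apply hvw, map_add, map_add, map_smul, map_smul, ← hw, hfw]
    have e1 : B w (f x) = B v x := hf.B v x
    have e2 : B (f w) (f x) = B w x := hf.B w x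
    rw [hfw, B_add_left, e1] at e2
    have e3 : B v (f x) = B w x + B v x := by
      rw [← e2, add_assoc, two_zero, add_zero]
    rw [e1, e3]
    module
  have hinv' : ∀ x, f' (f' (f' x)) = x := by
    intro x
    show (R w ∘ₗ R v) (f ((R w ∘ₗ R v) (f ((R w ∘ₗ R v) (f x))))) = x
    rw [hT x, hT (f ((R w ∘ₗ R v) x)), hT ((R w ∘ₗ R v) x), hinv, Z_cube hvw]
  have hiso' : Iso f' := ((iso_R hQw).comp (iso_R hQv)).comp hf
  have hlt : mv f' < mv f := mv_lt hfix hvne hv'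
  obtain ⟨k, vs, he, hok, hind, hof⟩ := ih (mv f') (lt_of_lt_of_le hlt hn) f' le_rfl hiso' hinv'
  refine ⟨k + 1, v :: w :: vs, ?_, ?_, ?_, ?_⟩
  · rw [List.replicate_succ]
    show f = (R v ∘ₗ R w) ∘ₗ actB (List.replicate k .z) vs
    rw [← he]
    apply LinearMap.ext
    intro x
    show f x = (R v ∘ₗ R w) ((R w ∘ₗ R v) (f x))
    rw [Z_Z']
  · rw [List.replicate_succ]
    refine ⟨⟨hQv, hQw, hvw⟩, fun x hx => ⟨?_, ?_⟩, hok⟩
    · rw [B_comm]; exact hof x hx v hv'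
    · rw [B_comm]; exact hof x hx w hw'
  · refine (hind.cons (z := v) hwv (fun x hx => hof x hx v hv')).cons (z := w) hvw ?_
    intro x hx
    rcases List.mem_cons.1 hx with rfl | hx
    · exact B_self w
    · exact hof x hx w hw'
  · intro x hx c hcc
    rcases List.mem_cons.1 hx with rfl | hx
    · exact (hc c hcc).1
    rcases List.mem_cons.1 hx with rfl | hx
    · exact (hc c hcc).2
    · exact hof x hx c (hfix c hcc)

end Cfsg.Agent.H884.Oc
end

-- part: H884/Oc/Reps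
section
/-!
# S3938, `Ω⁺₈(2)`: representatives of the elements of prime order (helper884)
-/

set_option autoImplicit false
set_option maxRecDepth 100000
set_option linter.unusedSectionVars false
set_option linter.style.haveILetI false
set_option linter.unusedVariables false

namespace Cfsg.Agent.H884.Oc

open Subgroup Cfsg Cfsg.Agent Cfsg.Agent.H503 Cfsg.Agent.H503.El.O8 Module

/-- the property of automorphisms -/
def Gd (a : MulAut S8) : Prop :=
  ∃ x : S8, ∀ K : Subgroup S8, x ∈ K → (∀ k ∈ K, a k ∈ K) → 7 ∣ Nat.card K ∧ 25 ∣ Nat.card K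

theorem Gd.conj {a : MulAut S8} (h : Gd a) (b : MulAut S8) : Gd (b * a * b⁻¹) := by
  obtain ⟨x, hx⟩ := h
  refine ⟨b x, fun K hxK hK => ?_⟩
  have hc : Nat.card (K.comap b.toMonoidHom : Subgroup S8) = Nat.card K := by
    have h1 : (K.comap b.toMonoidHom).map b.toMonoidHom = K := Subgroup.map_comap_eq_self_of_surjective b.surjective K
    have h2 : Nat.card ((K.comap b.toMonoidHom).map b.toMonoidHom : Subgroup S8) =
        Nat.card (K.comap b.toMonoidHom : Subgroup S8) := Subgroup.card_map_of_injective b.injective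
    rw [h1] at h2
    exact h2.symm
  rw [← hc]
  refine hx _ hxK fun k hk => ?_
  have h1 := hK (b k) hk
  show b (a k) ∈ K
  simpa only [_root_.MulAut.mul_apply, _root_.MulAut.inv_apply, _root_.MulEquiv.symm_apply_apply] using h1

theorem Gd.of_conj {a : MulAut S8} (b : MulAut S8) (h : Gd (b * a * b⁻¹)) : Gd a := by
  have := h.conj b⁻¹
  simpa only [mul_assoc, _root_.inv_mul_cancel_left, _root_.inv_inv, _root_.inv_mul_cancel, _root_.mul_one] using this

theorem pow_mem_of {a : MulAut S8} {K : Subgroup S8} (hK : ∀ k ∈ K, a k ∈ K) (n : ℕ) : ∀ k ∈ K, (a ^ n) k ∈ K := by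
  induction n with
  | zero => intro k hk; simpa using hk
  | succ n ih =>
    intro k hk
    rw [pow_succ]
    exact ih _ (hK k hk)

theorem Gd.of_pow {a : MulAut S8} {n : ℕ} (h : Gd (a ^ n)) : Gd a := by
  obtain ⟨x, hx⟩ := h
  exact ⟨x, fun K hxK hK => hx K hxK (pow_mem_of hK n)⟩

/-- the property of isometries -/
def Gg (a : G8) : Prop := Gd (MulAut.conjNormal a)

theorem Gg.of_conj {a : G8} (b : G8) (h : Gg (b * a * b⁻¹)) : Gg a := by
  unfold Gg at h ⊢
  simp only [map_mul, map_mul, map_inv] at h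
  exact h.of_conj

theorem Gg.of_pow {a : G8} {n : ℕ} (h : Gg (a ^ n)) : Gg a := by
  unfold Gg at h ⊢
  rw [map_pow] at h
  exact h.of_pow

theorem gg_of_check {a : G8} {ca : List ℕ} (ha : Rep (L a) ca) {c : Crt} (hc : check ca c = true) : Gg a := by
  obtain ⟨x, hx⟩ := of_check ha hc
  exact ⟨x, fun K hxK hK => hx K hxK (hK x hxK)⟩

/-- the bilinear form on codes -/
def bN (u v : ℕ) : Bool := xor (qN (u ^^^ v)) (xor (qN u) (qN v))

theorem b_dec (u v : ℕ) : B (dec u) (dec v) = if bN u v = true then 1 else 0 := by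
  unfold B bN
  rw [← dec_xor, q_dec, q_dec, q_dec]
  cases qN (u ^^^ v) <;> cases qN u <;> cases qN v <;> decide

/-- a code from a function on codes -/
theorem rep_of {f : V8 →ₗ[ZMod 2] V8} {φ : ℕ → ℕ} (h : ∀ k, f (dec k) = dec (φ k)) :
    Rep f ((List.range 8).map fun i => φ (2 ^ i)) := by
  refine ⟨by simp, fun i => ?_⟩
  rw [single_eq, h]
  congr 1
  rw [List.getD_eq_getElem _ _ (by simpa using ix_lt i)]
  simp

/-- reflections on codes -/
def codeR (u : ℕ) : List ℕ := (List.range 8).map fun i => 2 ^ i ^^^ (bif bN u (2 ^ i) then u else 0)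

theorem dec_bif (b : Bool) (u : ℕ) : dec (bif b then u else 0) = (if b = true then (1 : ZMod 2) else 0) • dec u := by
  cases b
  · simp [dec_zero]
  · simp

theorem rep_R (u : ℕ) : Rep (R (dec u)) (codeR u) := by
  refine rep_of (φ := fun k => k ^^^ (bif bN u k then u else 0)) fun k => ?_
  rw [R_apply, b_dec, dec_xor, dec_bif]

/-- long root elements on codes -/
def codeT (r s : ℕ) : List ℕ :=
  (List.range 8).map fun i => 2 ^ i ^^^ ((bif bN r (2 ^ i) then s else 0) ^^^ (bif bN s (2 ^ i) then r else 0))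

theorem rep_T (r s : ℕ) : Rep (T (dec r) (dec s)) (codeT r s) := by
  refine rep_of (φ := fun k => k ^^^ ((bif bN r k then s else 0) ^^^ (bif bN s k then r else 0))) fun k => ?_
  rw [T_apply, b_dec, b_dec, dec_xor, dec_xor, dec_bif, dec_bif]

/-- products on codes -/
def codeB : List Bk → List ℕ → List ℕ
  | .r :: t, u :: vs => mulN (codeR u) (codeB t vs)
  | .t :: t, u :: v :: vs => mulN (codeT u v) (codeB t vs)
  | .z :: t, u :: v :: vs => mulN (mulN (codeR u) (codeR v)) (codeB t vs)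
  | _, _ => oneN

theorem rep_B : ∀ (t : List Bk) (us : List ℕ), Rep (actB t (us.map dec)) (codeB t us)
  | [], [] => rep_one
  | [], _ :: _ => rep_one
  | .r :: t, u :: us => (rep_R u).mul (rep_B t us)
  | .t :: t, u :: v :: us => (rep_T u v).mul (rep_B t us)
  | .z :: t, u :: v :: us => ((rep_R u).mul (rep_R v)).mul (rep_B t us)
  | .r :: t, [] => rep_one
  | .t :: t, [] => rep_one
  | .t :: t, [u] => rep_one
  | .z :: t, [] => rep_one
  | .z :: t, [u] => rep_one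

/-- the Gram matrix on codes -/
def okN : List Bk → List ℕ → Bool
  | .r :: t, u :: vs => qN u && (vs.all (fun v => !bN u v) && okN t vs)
  | .t :: t, u :: v :: vs => (!qN u && (!qN v && !bN u v)) && (vs.all (fun w => !bN u w && !bN v w) && okN t vs)
  | .z :: t, u :: v :: vs => (qN u && (qN v && bN u v)) && (vs.all (fun w => !bN u w && !bN v w) && okN t vs)
  | [], [] => true
  | _, _ => false

theorem b_zero {u v : ℕ} (h : bN u v = false) : B (dec u) (dec v) = 0 := by rw [b_dec, h]; rfl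

theorem b_one {u v : ℕ} (h : bN u v = true) : B (dec u) (dec v) = 1 := by rw [b_dec, h]; rfl

theorem q_zero {u : ℕ} (h : qN u = false) : Q8 (dec u) = 0 := by rw [q_dec, h]; rfl

theorem q_one {u : ℕ} (h : qN u = true) : Q8 (dec u) = 1 := by rw [q_dec, h]; rfl

theorem ok_of : ∀ (t : List Bk) (us : List ℕ), okN t us = true → Ok t (us.map dec)
  | [], [], _ => trivial
  | .r :: t, u :: us, h => by
    simp only [okN, Bool.and_eq_true, List.all_eq_true, Bool.not_eq_true'] at h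
    refine ⟨q_one h.1, fun v hv => ?_, ok_of t us h.2.2⟩
    obtain ⟨w, hw, rfl⟩ := List.mem_map.1 hv
    exact b_zero (h.2.1 w hw)
  | .t :: t, u :: v :: us, h => by
    simp only [okN, Bool.and_eq_true, List.all_eq_true, Bool.not_eq_true'] at h
    refine ⟨⟨q_zero h.1.1, q_zero h.1.2.1, b_zero h.1.2.2⟩, fun x hx => ?_, ok_of t us h.2.2⟩
    obtain ⟨w, hw, rfl⟩ := List.mem_map.1 hx
    exact ⟨b_zero (h.2.1 w hw).1, b_zero (h.2.1 w hw).2⟩
  | .z :: t, u :: v :: us, h => by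
    simp only [okN, Bool.and_eq_true, List.all_eq_true, Bool.not_eq_true'] at h
    refine ⟨⟨q_one h.1.1, q_one h.1.2.1, b_one h.1.2.2⟩, fun x hx => ?_, ok_of t us h.2.2⟩
    obtain ⟨w, hw, rfl⟩ := List.mem_map.1 hx
    exact ⟨b_zero (h.2.1 w hw).1, b_zero (h.2.1 w hw).2⟩

/-- independence on codes -/
def indN : List ℕ → List ℕ → Bool
  | [], _ => true
  | u :: us, z :: zs => bN u z && (us.all (fun v => !bN v z) && indN us zs)
  | _, _ => false

theorem ind_of : ∀ (us zs : List ℕ), indN us zs = true → Ind (us.map dec)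
  | [], _, _ => ind_nil
  | u :: us, z :: zs, h => by
    simp only [indN, Bool.and_eq_true, List.all_eq_true, Bool.not_eq_true'] at h
    refine (ind_of us zs h.2.2).cons (z := dec z) (b_one h.1) fun v hv => ?_
    obtain ⟨w, hw, rfl⟩ := List.mem_map.1 hv
    exact b_zero (h.2.1 w hw)

/-- the check of a class -/
def chk (t : List Bk) (us ds : List ℕ) (c : Crt) : Bool := okN t us && (indN us ds && check (codeB t us) c)

theorem exists_G {g : V8 ≃ₗ[ZMod 2] V8} (hg : ∀ v, Q8 (g v) = Q8 v) : ∃ b : G8, ∀ v, L b v = g v := by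
  have hmem : g ∈ H957.isoQ (LieClassical.OmegaReindex.quadPlus 4 (ZMod 2)) := fun v => hg v
  refine ⟨⟨H957.glOf g, (H957.glOf_mem hmem :)⟩, fun v => ?_⟩
  rw [L_apply]
  exact H957.glOf_mulVec g v

theorem gg_of_chk {t : List Bk} {us ds : List ℕ} {c : Crt} (h : chk t us ds c = true) {a : G8} {vs : List V8}
    (hf : L a = actB t vs) (hok : Ok t vs) (hind : Ind vs) : Gg a := by
  unfold chk at h
  rw [Bool.and_eq_true, Bool.and_eq_true] at h
  obtain ⟨g, hg, hgv⟩ := exists_map hok (ok_of t us h.1) hind (ind_of us ds h.2.1)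
  obtain ⟨b, hb⟩ := exists_G hg
  refine Gg.of_conj b (gg_of_check (ca := codeB t us) ?_ h.2.2)
  have h1 : L (b * a * b⁻¹) = actB t (us.map dec) := by
    apply LinearMap.ext
    intro v
    have h2 : L b (L b⁻¹ v) = v := by
      rw [← LinearMap.comp_apply, ← L_mul, mul_inv_cancel, L_one]; rfl
    rw [L_mul, L_mul, LinearMap.comp_apply, LinearMap.comp_apply, hf, hb, conj_act hg, hgv, ← hb, h2]
  rw [h1]
  exact rep_B t us

theorem of_orth {vs : List V8} (h : ∀ u ∈ vs, ∀ v ∈ vs, B u v = 0) (hi : Ind vs) : vs.length ≤ 4 := by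
  set W := Submodule.span (ZMod 2) (Set.range vs.get) with hW
  have h1 : finrank (ZMod 2) W = vs.length := by
    rw [hW, finrank_span_eq_card hi, Fintype.card_fin]
  have h2 := LinearMap.BilinForm.finrank_orthogonal (B := QuadraticMap.polarBilin QP) hnd8 W
  have h3 : finrank (ZMod 2) V8 = 8 := by simp
  have h4 : W ≤ LinearMap.BilinForm.orthogonal (QuadraticMap.polarBilin QP) W := by
    rw [hW, Submodule.span_le]
    rintro _ ⟨i, rfl⟩
    rw [SetLike.mem_coe, LinearMap.BilinForm.mem_orthogonal_iff]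
    intro w hw
    induction hw using Submodule.span_induction with
    | mem w hw =>
      obtain ⟨j, rfl⟩ := hw
      have := h _ (List.get_mem vs j) _ (List.get_mem vs i)
      rwa [B_eq] at this
    | zero => simp
    | add a b _ _ ha hb => rw [map_add, LinearMap.add_apply, ha, hb, add_zero]
    | smul c a _ ha => rw [map_smul, LinearMap.smul_apply, ha, smul_zero]
  have h5 := Submodule.finrank_mono h4
  rw [h2, h3, h1] at h5
  omega

theorem orth_of_ok : ∀ (t : List Bk) (vs : List V8), Bk.z ∉ t → Ok t vs → ∀ u ∈ vs, ∀ v ∈ vs, B u v = 0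
  | [], [], _, _ => by simp
  | .r :: t, u :: vs, ht, h => by
    have ih := orth_of_ok t vs (fun h => ht (List.mem_cons_of_mem _ h)) h.2.2
    intro x hx y hy
    rw [List.mem_cons] at hx hy
    rcases hx with hx | hx <;> rcases hy with hy | hy
    · rw [hx, hy]; exact B_self _
    · rw [hx]; exact h.2.1 y hy
    · rw [hy, B_comm]; exact h.2.1 x hx
    · exact ih x hx y hy
  | .t :: t, u :: v :: vs, ht, h => by
    have ih := orth_of_ok t vs (fun h => ht (List.mem_cons_of_mem _ h)) h.2.2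
    intro x hx y hy
    rw [List.mem_cons, List.mem_cons] at hx hy
    rcases hx with hx | hx | hx <;> rcases hy with hy | hy | hy
    · rw [hx, hy]; exact B_self _
    · rw [hx, hy]; exact h.1.2.2
    · rw [hx]; exact (h.2.1 y hy).1
    · rw [hx, hy, B_comm]; exact h.1.2.2
    · rw [hx, hy]; exact B_self _
    · rw [hx]; exact (h.2.1 y hy).2
    · rw [hy, B_comm]; exact (h.2.1 x hx).1
    · rw [hy, B_comm]; exact (h.2.1 x hx).2
    · exact ih x hx y hy
  | .z :: t, _, ht, _ => absurd (List.mem_cons_self) ht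

theorem len_ok : ∀ (j m : ℕ) (vs : List V8), Ok (List.replicate j .r ++ List.replicate m .t) vs →
    vs.length = j + 2 * m
  | 0, 0, [], _ => rfl
  | 0, m + 1, u :: v :: vs, h => by
    have h2 : Ok (List.replicate m .t) vs := h.2.2
    have := len_ok 0 m vs (by simpa using h2)
    simp only [List.length_cons, this]
    ring
  | j + 1, m, u :: vs, h => by
    have := len_ok j m vs h.2.2
    simp only [List.length_cons, this]
    ring

theorem len_z : ∀ (k : ℕ) (vs : List V8), Ok (List.replicate k .z) vs → vs.length = 2 * k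
  | 0, [], _ => rfl
  | k + 1, u :: v :: vs, h => by
    have := len_z k vs h.2.2
    simp only [List.length_cons, this]
    ring

theorem ci10 : ∃ c, chk [.r] [17] [1] c = true :=
  ⟨⟨[208, 133, 117, 105, 115, 14, 190, 112], 15, [16, 2, 4, 8, 1, 32, 64, 128], [false, false, true], 1, [false, true], 3, 27, [false], 3⟩, by decide +kernel⟩

theorem ci20 : ∃ c, chk [.r, .r] [17, 19] [33, 1] c = true :=
  ⟨⟨[217, 66, 37, 26, 45, 22, 193, 110], 7, [3, 2, 4, 8, 18, 51, 64, 128], [false], 1, [false, false, false, true], 2, 2, [false, true], 1⟩, by decide +kernel⟩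

theorem ci30 : ∃ c, chk [.r, .r, .r] [17, 19, 21] [97, 32, 1] c = true :=
  ⟨⟨[206, 90, 195, 85, 51, 230, 97, 41], 5, [22, 2, 4, 8, 7, 51, 85, 128], [false, false, false, true], 1, [false, true], 2, 22, [false], 1⟩, by decide +kernel⟩

theorem ci40 : ∃ c, chk [.r, .r, .r, .r] [17, 19, 21, 25] [225, 32, 64, 1] c = true :=
  ⟨⟨[74, 207, 235, 60, 20, 125, 117, 111], 7, [15, 2, 4, 8, 30, 51, 85, 153], [false], 1, [false, false, true, true], 1, 14, [false, true], 1⟩, by decide +kernel⟩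

theorem ci01 : ∃ c, chk [.t] [1, 2] [16, 32] c = true :=
  ⟨⟨[30, 14, 222, 2, 11, 159, 4, 160], 15, [1, 2, 4, 8, 18, 33, 64, 128], [false, false, false, false, true], 1, [false, true], 1, 11, [false], 3⟩, by decide +kernel⟩

theorem ci11 : ∃ c, chk [.r, .t] [17, 2, 4] [1, 32, 64] c = true :=
  ⟨⟨[144, 93, 194, 80, 231, 18, 189, 59], 5, [16, 2, 4, 8, 1, 36, 66, 128], [false, false, false, true], 1, [false, true], 2, 18, [false], 1⟩, by decide +kernel⟩

theorem ci21 : ∃ c, chk [.r, .r, .t] [17, 19, 4, 8] [33, 1, 64, 128] c = true :=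
  ⟨⟨[224, 22, 118, 87, 30, 204, 28, 16], 7, [3, 2, 4, 8, 18, 51, 72, 132], [false], 1, [false, false, true, true], 1, 2, [false, true], 1⟩, by decide +kernel⟩

theorem ci02 : ∃ c, chk [.t, .t] [1, 2, 4, 8] [16, 32, 64, 128] c = true :=
  ⟨⟨[22, 134, 175, 118, 115, 14, 112, 189], 15, [1, 2, 4, 8, 18, 33, 72, 132], [false, false, true], 1, [false, true], 1, 29, [false], 3⟩, by decide +kernel⟩

theorem cz1 : ∃ c, chk [.z] [17, 35] [1, 2] c = true :=
  ⟨⟨[95, 144, 219, 36, 189, 126, 41, 22], 7, [51, 33, 4, 8, 1, 3, 64, 128], [false], 1, [false, true], 3, 9, [false, true, true], 2⟩, by decide +kernel⟩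

theorem cz2 : ∃ c, chk [.z, .z] [17, 35, 19, 34] [35, 17, 1, 2] c = true :=
  ⟨⟨[243, 103, 171, 117, 165, 5, 245, 15], 7, [2, 3, 4, 8, 48, 16, 64, 128], [false], 1, [false, false, true], 2, 23, [false, true], 3⟩, by decide +kernel⟩

theorem cz3 : ∃ c, chk [.z, .z, .z] [17, 35, 19, 34, 68, 140] [35, 17, 1, 2, 4, 8] c = true :=
  ⟨⟨[26, 66, 164, 129, 102, 59, 219, 246], 7, [2, 3, 204, 132, 48, 16, 4, 12], [false], 1, [false, false, true], 2, 4, [false, true], 2⟩, by decide +kernel⟩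

theorem cz4 : ∃ c, chk [.z, .z, .z, .z] [17, 35, 19, 34, 68, 140, 76, 136] [35, 17, 1, 2, 140, 68, 4, 8] c = true :=
  ⟨⟨[164, 237, 11, 1, 224, 171, 205, 144], 7, [2, 3, 8, 12, 48, 16, 192, 64], [false], 1, [false, false, true], 2, 1, [false, true], 3⟩, by decide +kernel⟩

/-- **involutions** -/
theorem gg_two {a : G8} (ha : orderOf a = 2) : Gg a := by
  have h2 : a ^ 2 = 1 := by
    have := pow_orderOf_eq_one a
    rwa [ha] at this
  have hinv : ∀ v, L a (L a v) = v := by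
    intro v
    rw [← LinearMap.comp_apply, ← L_mul, ← pow_two, h2, L_one]; rfl
  obtain ⟨j, m, vs, hf, hok, hind, -⟩ := peel_two _ (L a) le_rfl (L_iso a) hinv
  have hlen := len_ok j m vs hok
  have h4 := of_orth (orth_of_ok _ vs (by
    intro h
    rcases List.mem_append.1 h with h | h
    · exact absurd (List.eq_of_mem_replicate h) (by decide)
    · exact absurd (List.eq_of_mem_replicate h) (by decide)) hok) hind
  rw [hlen] at h4
  have h0 : ¬ (j = 0 ∧ m = 0) := by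
    rintro ⟨rfl, rfl⟩
    have h1 : a = 1 := L_injective (by rw [hf, L_one]; rfl)
    rw [h1, orderOf_one] at ha
    omega
  have hm : m ≤ 2 := by omega
  have hj : j ≤ 4 := by omega
  interval_cases m <;> interval_cases j <;> try omega
  · obtain ⟨c, hc⟩ := ci10
    exact gg_of_chk hc hf hok hind
  · obtain ⟨c, hc⟩ := ci20
    exact gg_of_chk hc hf hok hind
  · obtain ⟨c, hc⟩ := ci30
    exact gg_of_chk hc hf hok hind
  · obtain ⟨c, hc⟩ := ci40
    exact gg_of_chk hc hf hok hind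
  · obtain ⟨c, hc⟩ := ci01
    exact gg_of_chk hc hf hok hind
  · obtain ⟨c, hc⟩ := ci11
    exact gg_of_chk hc hf hok hind
  · obtain ⟨c, hc⟩ := ci21
    exact gg_of_chk hc hf hok hind
  · obtain ⟨c, hc⟩ := ci02
    exact gg_of_chk hc hf hok hind

/-- **elements of order `3`** -/
theorem gg_three {a : G8} (ha : orderOf a = 3) : Gg a := by
  have h3 : a ^ 3 = 1 := by
    have := pow_orderOf_eq_one a
    rwa [ha] at this
  have hinv : ∀ v, L a (L a (L a v)) = v := by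
    intro v
    have e : L (a ^ 3) v = L a (L a (L a v)) := by rw [pow_succ, pow_two, L_mul, L_mul]; rfl
    rw [← e, h3, L_one]; rfl
  obtain ⟨k, vs, hf, hok, hind, -⟩ := peel_three _ (L a) le_rfl (L_iso a) hinv
  have hlen := len_z k vs hok
  have h4 : vs.length ≤ 8 := by
    have := hind.fintype_card_le_finrank
    simpa only [_root_.ge_iff_le, _root_.Fintype.card_fin, _root_.Module.finrank_fintype_fun_eq_card, _root_.Fintype.card_sum, _root_.Nat.reduceAdd] using this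
  rw [hlen] at h4
  have h0 : k ≠ 0 := by
    rintro rfl
    have h1 : a = 1 := L_injective (by rw [hf, L_one]; rfl)
    rw [h1, orderOf_one] at ha
    omega
  have hk : k ≤ 4 := by omega
  interval_cases k <;> try omega
  · obtain ⟨c, hc⟩ := cz1
    exact gg_of_chk hc hf hok hind
  · obtain ⟨c, hc⟩ := cz2
    exact gg_of_chk hc hf hok hind
  · obtain ⟨c, hc⟩ := cz3
    exact gg_of_chk hc hf hok hind
  · obtain ⟨c, hc⟩ := cz4
    exact gg_of_chk hc hf hok hind

/-! ### The orders `5` and `7` -/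

def c5A : List ℕ := [55, 48, 103, 8, 20, 18, 4, 128]

def c5B : List ℕ := [56, 51, 4, 170, 41, 40, 64, 8]

theorem c5b : ∃ c, check c5B c = true :=
  ⟨⟨[144, 20, 217, 105, 103, 9, 111, 75], 15, [48, 179, 4, 128, 33, 160, 64, 155], [false, false, true], 1, [false], 3, 26, [false, true], 2⟩, by decide +kernel⟩

theorem c5ab0 : ∃ c, check (mulN c5A (powN c5B 0)) c = true :=
  ⟨⟨[150, 2, 206, 15, 207, 161, 146, 132], 7, [51, 112, 64, 8, 80, 82, 85, 128], [false], 1, [false, true, true], 1, 18, [false, true], 2⟩, by decide +kernel⟩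

theorem c5ab1 : ∃ c, check (mulN c5A (powN c5B 1)) c = true :=
  ⟨⟨[243, 185, 171, 148, 41, 87, 36, 82], 7, [2, 193, 64, 128, 97, 210, 85, 155], [false], 1, [false, false, true], 2, 22, [false, true], 1⟩, by decide +kernel⟩

theorem c5ab2 : ∃ c, check (mulN c5A (powN c5B 2)) c = true :=
  ⟨⟨[55, 236, 117, 246, 234, 65, 224, 11], 7, [179, 235, 64, 155, 208, 73, 85, 185], [false], 1, [false, true], 2, 11, [false, true, true], 2⟩, by decide +kernel⟩

theorem c5ab3 : ∃ c, check (mulN c5A (powN c5B 3)) c = true :=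
  ⟨⟨[176, 208, 110, 103, 37, 45, 80, 112], 15, [153, 120, 64, 185, 250, 240, 85, 170], [false, false, false, true], 1, [false, true], 1, 25, [false], 3⟩, by decide +kernel⟩

theorem c5ab4 : ∃ c, check (mulN c5A (powN c5B 4)) c = true :=
  ⟨⟨[175, 14, 111, 174, 186, 44, 4, 179], 7, [10, 65, 64, 170, 105, 90, 85, 8], [false], 1, [false, true], 3, 1, [false, false, true], 2⟩, by decide +kernel⟩

def c7 : List ℕ := [67, 102, 103, 8, 96, 48, 112, 128]

theorem c77 : ∃ c, check c7 c = true :=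
  ⟨⟨[213, 80, 111, 74, 66, 102, 24, 189], 7, [6, 103, 117, 8, 80, 112, 96, 128], [false], 1, [false, true], 2, 17, [false, true, true], 2⟩, by decide +kernel⟩

theorem exists_conj {p : ℕ} [Fact p.Prime] {G : Type*} [Group G] [Finite G] {E : Subgroup G} {k : ℕ}
    (hE : Nat.card E = p ^ k) (hk : ¬ p ^ (k + 1) ∣ Nat.card G) {a : G} (ha : orderOf a = p) :
    ∃ b : G, b * a * b⁻¹ ∈ E := by
  have h1 : IsPGroup p E := IsPGroup.of_card hE
  obtain ⟨P, hP⟩ := h1.exists_le_sylow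
  have hPe : E = P := by
    refine Subgroup.eq_of_le_of_card_ge hP ?_
    obtain ⟨l, hl⟩ := IsPGroup.iff_card.1 P.isPGroup'
    rw [hl, hE]
    refine Nat.pow_le_pow_right (Nat.Prime.pos Fact.out) ?_
    by_contra hcon
    exact hk ((pow_dvd_pow p (by omega : k + 1 ≤ l)).trans (hl ▸ Subgroup.card_subgroup_dvd_card (P : Subgroup G)))
  have h2 : IsPGroup p (zpowers a) := IsPGroup.of_card (n := 1) (by rw [Nat.card_zpowers, ha, pow_one])
  obtain ⟨P', hP'⟩ := h2.exists_le_sylow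
  obtain ⟨b, hb⟩ := MulAction.exists_smul_eq G P' P
  refine ⟨b, ?_⟩
  rw [hPe, ← hb, Sylow.coe_subgroup_smul]
  exact Subgroup.smul_mem_pointwise_smul a (MulAut.conj b) _ (hP' (mem_zpowers a))

theorem card_g8 : Nat.card G8 = 348364800 := by
  have h1 := Subgroup.card_mul_index (Omega (ZMod 2) Q8)
  rw [index_s8, show Nat.card (Omega (ZMod 2) Q8) = 174182400 from
    (Nat.card_congr e8.toEquiv).trans card_t8] at h1
  exact h1.symm

instance : Finite G8 := Nat.finite_of_card_ne_zero (by rw [card_g8]; norm_num)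

/-- **elements of order `7`** -/
theorem gg_seven {a : G8} (ha : orderOf a = 7) : Gg a := by
  haveI : Fact (Nat.Prime 7) := ⟨by norm_num⟩
  obtain ⟨c, hc⟩ := c77
  obtain ⟨g, hg⟩ := exists_g (c := c7) (by decide +kernel)
  have hgo : orderOf g = 7 := hg.order (by norm_num) (by decide +kernel)
  obtain ⟨b, hb⟩ := exists_conj (p := 7) (E := zpowers g) (k := 1) (by rw [Nat.card_zpowers, hgo, pow_one])
    (by rw [card_g8]; norm_num) ha
  refine Gg.of_conj b ?_
  have h1 : orderOf (b * a * b⁻¹) = 7 := by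
    rw [← ha]
    exact orderOf_injective (MulAut.conj b).toMonoidHom (MulAut.conj b).injective a
  have h2 : zpowers (b * a * b⁻¹) = zpowers g := by
    refine Subgroup.eq_of_le_of_card_ge (zpowers_le.2 hb) ?_
    rw [Nat.card_zpowers, Nat.card_zpowers, hgo, h1]
  have h3 : g ∈ zpowers (b * a * b⁻¹) := by rw [h2]; exact mem_zpowers g
  obtain ⟨n, hn⟩ := (mem_powers_iff_mem_zpowers.2 h3)
  refine Gg.of_pow (n := n) ?_
  have h4 : (b * a * b⁻¹) ^ n = g := hn
  rw [h4]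
  exact gg_of_check hg hc

/-- **elements of order `5`** -/
theorem gg_five {a : G8} (ha : orderOf a = 5) : Gg a := by
  haveI : Fact (Nat.Prime 5) := ⟨Nat.prime_five⟩
  obtain ⟨A, hA⟩ := exists_g (c := c5A) (by decide +kernel)
  obtain ⟨B, hB⟩ := exists_g (c := c5B) (by decide +kernel)
  have hAo : orderOf A = 5 := hA.order (by norm_num) (by decide +kernel)
  have hBo : orderOf B = 5 := hB.order (by norm_num) (by decide +kernel)
  have hA5 : A ^ 5 = 1 := by
    have := pow_orderOf_eq_one A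
    rwa [hAo] at this
  have hB5 : B ^ 5 = 1 := by
    have := pow_orderOf_eq_one B
    rwa [hBo] at this
  have hAB : Commute A B := (hA.mulG hB).inj (by
    have h1 : mulN c5A c5B = mulN c5B c5A := by decide +kernel
    rw [h1]
    exact hB.mulG hA)
  have hmod : ∀ (g : G8) (hg : g ^ 5 = 1) (n : ℕ), g ^ n = g ^ (n % 5) := by
    intro g hg n
    conv_lhs => rw [← Nat.div_add_mod n 5, pow_add, pow_mul, hg, one_pow, one_mul]
  let E : Subgroup G8 :=
    { carrier := {g | ∃ i j : ℕ, g = A ^ i * B ^ j}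
      one_mem' := ⟨0, 0, by simp⟩
      mul_mem' := by
        rintro _ _ ⟨i, j, rfl⟩ ⟨i', j', rfl⟩
        refine ⟨i + i', j + j', ?_⟩
        rw [pow_add, pow_add]
        calc A ^ i * B ^ j * (A ^ i' * B ^ j') = A ^ i * (B ^ j * A ^ i') * B ^ j' := by group
          _ = A ^ i * (A ^ i' * B ^ j) * B ^ j' := by rw [((hAB.pow_left i').pow_right j).eq]
          _ = _ := by group
      inv_mem' := by
        rintro _ ⟨i, j, rfl⟩
        refine ⟨4 * i, 4 * j, ?_⟩
        apply inv_eq_of_mul_eq_one_right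
        calc A ^ i * B ^ j * (A ^ (4 * i) * B ^ (4 * j)) = A ^ i * (B ^ j * A ^ (4 * i)) * B ^ (4 * j) := by group
          _ = A ^ i * (A ^ (4 * i) * B ^ j) * B ^ (4 * j) := by rw [((hAB.pow_left (4 * i)).pow_right j).eq]
          _ = A ^ (5 * i) * B ^ (5 * j) := by
              rw [show 5 * i = i + 4 * i by ring, show 5 * j = j + 4 * j by ring, pow_add A, pow_add B]; group
          _ = 1 := by rw [pow_mul, pow_mul, hA5, hB5, one_pow, one_pow, one_mul] }
  have hE5 : ∀ g ∈ E, g ^ 5 = 1 := by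
    rintro _ ⟨i, j, rfl⟩
    rw [((hAB.pow_left i).pow_right j).mul_pow, ← pow_mul, ← pow_mul, mul_comm i, mul_comm j, pow_mul, pow_mul,
      hA5, hB5, one_pow, one_pow, one_mul]
  have hEp : IsPGroup 5 E := fun g => ⟨1, by rw [pow_one]; exact Subtype.ext (hE5 g g.2)⟩
  have hAE : A ∈ E := ⟨1, 0, by simp⟩
  have hBE : B ∈ E := ⟨0, 1, by simp⟩
  obtain ⟨k, hk⟩ := hEp.exists_card_eq
  have hk2 : k = 2 := by
    have h1 : 5 ^ k ∣ 348364800 := by rw [← hk, ← card_g8]; exact Subgroup.card_subgroup_dvd_card E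
    have h2 : k ≤ 2 := by
      by_contra hcon
      have h3 : 5 ^ 3 ∣ 5 ^ k := pow_dvd_pow 5 (by omega)
      exact absurd (h3.trans h1) (by norm_num)
    have h3 : 2 ≤ k := by
      by_contra hcon
      have h4 : zpowers A = E := by
        refine Subgroup.eq_of_le_of_card_ge (zpowers_le.2 hAE) ?_
        rw [hk, Nat.card_zpowers, hAo]
        calc 5 ^ k ≤ 5 ^ 1 := Nat.pow_le_pow_right (by norm_num) (by omega)
          _ = 5 := by norm_num
      rw [← h4] at hBE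
      obtain ⟨n, hn⟩ := mem_powers_iff_mem_zpowers.2 hBE
      have h5 : A ^ (n % 5) = B := by rw [← hmod A hA5]; exact hn
      have h6 : n % 5 < 5 := Nat.mod_lt _ (by norm_num)
      have h7 := hA.pow (n % 5)
      rw [h5] at h7
      have h8 := hB.2 (.inl 0)
      have h9 := h7.2 (.inl 0)
      rw [h9] at h8
      have h10 : ∀ l < 5, (powN c5A l).getD (ix (.inl 0)) 0 ≠ c5B.getD (ix (.inl 0)) 0 ∧
          (powN c5A l).getD (ix (.inl 0)) 0 < 256 := by decide +kernel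
      exact (h10 _ h6).1 (dec_inj (h10 _ h6).2 (by decide +kernel) h8)
    omega
  obtain ⟨b, hb⟩ := exists_conj (p := 5) (E := E) (k := 2) (by rw [hk, hk2]) (by rw [card_g8]; norm_num) ha
  refine Gg.of_conj b ?_
  have h1 : orderOf (b * a * b⁻¹) = 5 := by
    rw [← ha]
    exact orderOf_injective (MulAut.conj b).toMonoidHom (MulAut.conj b).injective a
  obtain ⟨i, j, hij⟩ := hb
  rw [hij] at h1 ⊢
  rw [hmod A hA5 i, hmod B hB5 j] at h1 ⊢
  have hi := Nat.mod_lt i (by norm_num : 0 < 5)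
  have hj := Nat.mod_lt j (by norm_num : 0 < 5)
  generalize i % 5 = i at *
  generalize j % 5 = j at *
  have hAk : ∀ n < 5, Gg (A * B ^ n) := by
    intro n hn
    have hr := hA.mulG (hB.pow n)
    interval_cases n
    · obtain ⟨c, hc⟩ := c5ab0; exact gg_of_check hr hc
    · obtain ⟨c, hc⟩ := c5ab1; exact gg_of_check hr hc
    · obtain ⟨c, hc⟩ := c5ab2; exact gg_of_check hr hc
    · obtain ⟨c, hc⟩ := c5ab3; exact gg_of_check hr hc
    · obtain ⟨c, hc⟩ := c5ab4; exact gg_of_check hr hc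
  have hB' : Gg B := by
    obtain ⟨c, hc⟩ := c5b
    exact gg_of_check hB hc
  by_cases hi0 : i = 0
  · subst hi0
    rw [pow_zero, one_mul] at h1 ⊢
    have hj0 : j ≠ 0 := by
      rintro rfl
      rw [pow_zero, orderOf_one] at h1
      omega
    have h3 : ∃ l t, j * l = 5 * t + 1 := by
      have h4 : j = 1 ∨ j = 2 ∨ j = 3 ∨ j = 4 := by omega
      rcases h4 with rfl | rfl | rfl | rfl
      · exact ⟨1, 0, rfl⟩
      · exact ⟨3, 1, rfl⟩
      · exact ⟨2, 1, rfl⟩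
      · exact ⟨4, 3, rfl⟩
    obtain ⟨l, t, hlt⟩ := h3
    refine Gg.of_pow (n := l) ?_
    rw [← pow_mul, hlt, pow_succ, pow_mul, hB5, one_pow, one_mul]
    exact hB'
  · have h3 : ∃ l t, i * l = 5 * t + 1 := by
      have h4 : i = 1 ∨ i = 2 ∨ i = 3 ∨ i = 4 := by omega
      rcases h4 with rfl | rfl | rfl | rfl
      · exact ⟨1, 0, rfl⟩
      · exact ⟨3, 1, rfl⟩
      · exact ⟨2, 1, rfl⟩
      · exact ⟨4, 3, rfl⟩
    obtain ⟨l, t, hlt⟩ := h3
    refine Gg.of_pow (n := l) ?_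
    rw [((hAB.pow_left i).pow_right j).mul_pow, ← pow_mul, hlt, pow_succ, pow_mul, hA5, one_pow, one_mul,
      ← pow_mul, hmod B hB5]
    exact hAk _ (Nat.mod_lt _ (by norm_num))

end Cfsg.Agent.H884.Oc
end

private theorem dce_5377ebc8010c : _root_.True := by
  try have : _root_.True := by simp only [_root_.Cfsg.Agent.H884.Oc.indN.eq_3]
  try have : _root_.True := by simp only [_root_.Cfsg.Agent.H884.Oc.Of.eq_1]
  try have : _root_.True := by simp only [_root_.Cfsg.Agent.H884.Oc.indN.eq_def]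
  try have : _root_.True := by simp only [_root_.Cfsg.Agent.H884.Oc.okN.eq_3]
  try have : _root_.True := by simp only [_root_.Cfsg.Agent.H884.Oc.ev.eq_2]
  try have : _root_.True := by simp only [_root_.Cfsg.Agent.H884.Oc.okN.eq_2]
  try have : _root_.True := by simp only [_root_.Cfsg.Agent.H884.Oc.okN.eq_def]
  try have : _root_.True := by simp only [_root_.Cfsg.Agent.H884.Oc.okN.eq_5]
  try have : _root_.True := by simp only [_root_.Cfsg.Agent.H884.Oc.okN.eq_1]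
  try have : _root_.True := by simp only [_root_.Cfsg.Agent.H884.Oc.mulN.eq_1]
  try have : _root_.True := by simp only [_root_.Cfsg.Agent.H884.Oc.indN.eq_2]
  try have : _root_.True := by simp only [_root_.Cfsg.Agent.H884.Oc.okN.eq_4]
  try have : _root_.True := by simp only [_root_.Cfsg.Agent.H884.Oc.dec.eq_1]
  try have : _root_.True := by simp only [_root_.Cfsg.Agent.H884.Oc.indN.eq_1]
  try have : _root_.True := by simp only [_root_.Cfsg.Agent.H884.Oc.ix.eq_1]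
  try have : _root_.True := by simp only [_root_.Cfsg.Agent.H884.Oc.ev.eq_1]
  try have : _root_.True := by simp only [_root_.Cfsg.Agent.H884.Oc.actB._sparseCasesOn_1.else_eq]
  try have : _root_.True := by simp only [_root_.Cfsg.Agent.H884.Oc.Ok._sparseCasesOn_1.else_eq]
  try have : _root_.True := by simp only [_root_.Cfsg.Agent.H884.Oc.ev.eq_def]
  exact _root_.True.intro
end
end
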